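import Cfsg.Agent.Lib.Char.RelMcKay.Step
import Mathlib

/-!
# Characters of `p'`-degree of a coprime semidirect product and their pairing
-/

open scoped ComplexConjugate commutatorElement
open Cfsg Module

set_option autoImplicit false
set_option linter.style.haveILetI false
set_option linter.unusedSectionVars false

attribute [local instance] Fintype.ofFinite

namespace Cfsg.Agent.Char.RelMcKay

universe u

variable {Γ : Type u} [Group Γ] [Finite Γ]

instance finite_hom_units (G : Type u) [Group G] [Finite G] : Finite (G →* ℂˣ) :=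
  Finite.of_equiv _ linearEquiv.symm

/-- The trace of a representation with irreducible restriction is irreducible. -/
theorem isIrr_of_res {A B : Type*} [Group A] [Group B] [Finite A] (f : A →* B) {χ : B → ℂ}
    (hχ : IsCharacter B χ) (h : IsIrrCharacter A fun a => χ (f a)) : IsIrrCharacter B χ := by
  obtain ⟨n, ρ, rfl⟩ := hχ
  obtain ⟨m, σ, hσ, hσc⟩ := id h
  obtain ⟨e⟩ := equiv_of_character_eq σ (ρ.comp f) hσc
  haveI hirr : Representation.IsIrreducible (ρ.comp f) := isIrreducible_of_equiv e hσ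
  refine isIrrCharacter_character ρ ?_
  haveI hnt : Nontrivial (Subrepresentation ρ) := ⟨⟨⊥, ⊤, fun hbt => by
    have h1 : (⊥ : Submodule ℂ (Fin n → ℂ)) = ⊤ := congrArg Subrepresentation.toSubmodule hbt
    exact bot_ne_top (α := Subrepresentation (ρ.comp f)) (Subrepresentation.toSubmodule_injective h1)⟩⟩
  refine ⟨fun U => ?_⟩
  let U' : Subrepresentation (ρ.comp f) := ⟨U.toSubmodule, fun a v hv => U.apply_mem_toSubmodule (f a) hv⟩
  rcases IsSimpleOrder.eq_bot_or_eq_top U' with hU | hU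
  · exact Or.inl (Subrepresentation.toSubmodule_injective
      (congrArg Subrepresentation.toSubmodule hU : U'.toSubmodule = _))
  · exact Or.inr (Subrepresentation.toSubmodule_injective
      (congrArg Subrepresentation.toSubmodule hU : U'.toSubmodule = _))

theorem detChar_comp_equiv {A B : Type*} [Group A] [Group B] [Finite A] [Finite B] (e : A ≃* B)
    {χ : B → ℂ} (hχ : IsCharacter B χ) (a : A) : detChar (fun x => χ (e x)) a = detChar χ (e a) := by
  obtain ⟨n, ρ, rfl⟩ := hχ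
  rw [detChar_eq (χ := fun x => ρ.character (e x)) (ρ.comp e.toMonoidHom) rfl,
    detChar_eq ρ rfl]
  rfl

/-- A central element acts as a scalar. -/
theorem central_scalar {G : Type*} [Group G] [Finite G] {χ : G → ℂ} (hχ : IsIrrCharacter G χ)
    {z : G} (hz : ∀ a, z * a = a * z) :
    ∃ w : ℂ, (∀ a, χ (z * a) = w * χ a) ∧ detChar χ z = w ^ deg χ ∧ w ^ orderOf z = 1 := by
  obtain ⟨n, ρ, hρ, rfl⟩ := id hχ
  haveI := hρ
  obtain ⟨w, hw⟩ := schur_scalar ρ (ρ z) fun k => by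
    rw [← Module.End.mul_eq_comp, ← Module.End.mul_eq_comp, ← map_mul, hz, map_mul]
  have hn : n ≠ 0 := fun h0 => irr_one_ne_zero hχ (by simp [h0])
  have hdeg : deg ρ.character = n := Nat.cast_injective (R := ℂ) (by
    rw [← char_one_eq_deg (irr_isCharacter hχ)]; exact char_one_eq_dim ρ rfl)
  refine ⟨w, fun a => ?_, ?_, ?_⟩
  · show LinearMap.trace ℂ _ (ρ (z * a)) = w * LinearMap.trace ℂ _ (ρ a)
    rw [map_mul, hw, ← Module.End.one_eq_id, smul_one_mul, map_smul, smul_eq_mul]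
  · rw [detChar_eq ρ rfl, hdeg]
    simp [hw, LinearMap.det_smul]
  · have h := congrArg ρ (pow_orderOf_eq_one z)
    rw [map_pow, map_one, hw, ← Module.End.one_eq_id, smul_pow, one_pow] at h
    have h2 := congrArg (LinearMap.trace ℂ (Fin n → ℂ)) h
    rw [map_smul, LinearMap.trace_one, Module.finrank_fin_fun, smul_eq_mul] at h2
    exact mul_right_cancel₀ (Nat.cast_ne_zero.2 hn) (h2.trans (one_mul _).symm)

/-- `M` is the product of the `p'`-group `K` and the `p`-group `S` normalizing it. -/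
structure IsSemi (p : ℕ) (K S M : Subgroup Γ) : Prop where
  prime : p.Prime
  pgroup : IsPGroup p S
  coprime : ¬ p ∣ Nat.card K
  norm : S ≤ Subgroup.normalizer (K : Set Γ)
  eq : M = K ⊔ S

namespace IsSemi

variable {p : ℕ} {K S M : Subgroup Γ} (hs : IsSemi p K S M)
include hs

theorem le_left : K ≤ M := hs.eq ▸ le_sup_left

theorem le_right : S ≤ M := hs.eq ▸ le_sup_right

theorem le_normalizer : M ≤ Subgroup.normalizer (K : Set Γ) :=
  hs.eq ▸ sup_le Subgroup.le_normalizer hs.norm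

theorem inf_eq_bot : K ⊓ S = ⊥ := by
  haveI := Fact.mk hs.prime
  obtain ⟨a, ha⟩ := IsPGroup.iff_card.1 hs.pgroup
  rw [← Subgroup.card_eq_one]
  have h1 : Nat.card ↥(K ⊓ S) ∣ Nat.card K := Subgroup.card_dvd_of_le inf_le_left
  have h2 : Nat.card ↥(K ⊓ S) ∣ p ^ a := ha ▸ Subgroup.card_dvd_of_le inf_le_right
  exact Nat.eq_one_of_dvd_coprimes ((hs.prime.coprime_iff_not_dvd.2 hs.coprime).pow_left a) h2 h1

theorem exists_decomp (a : M) : ∃ s : S, (a : Γ) * (s : Γ)⁻¹ ∈ K := by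
  obtain ⟨k, hk, s, hsS, e⟩ := (mem_sup_iff hs.norm).1 (hs.eq.le a.2)
  exact ⟨⟨s, hsS⟩, by rw [← e, mul_inv_cancel_right]; exact hk⟩

theorem decomp_unique {a : Γ} {s s' : S} (h : a * (s : Γ)⁻¹ ∈ K) (h' : a * (s' : Γ)⁻¹ ∈ K) :
    s = s' := by
  have h3 : (s : Γ) * (s' : Γ)⁻¹ ∈ K ⊓ S := ⟨by
    have := K.mul_mem (K.inv_mem h) h'
    rwa [show (a * (s : Γ)⁻¹)⁻¹ * (a * (s' : Γ)⁻¹) = (s : Γ) * (s' : Γ)⁻¹ by group] at this,
    S.mul_mem s.2 (S.inv_mem s'.2)⟩
  rw [hs.inf_eq_bot, Subgroup.mem_bot] at h3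
  exact Subtype.ext (mul_inv_eq_one.1 h3)

/-- The projection to `S`. -/
noncomputable def pr : M →* S :=
  MonoidHom.mk' (fun a => (hs.exists_decomp a).choose) fun a b => by
    refine hs.decomp_unique (hs.exists_decomp (a * b)).choose_spec ?_
    have ha := (hs.exists_decomp a).choose_spec
    have hb := (hs.exists_decomp b).choose_spec
    set s := (hs.exists_decomp a).choose
    set t := (hs.exists_decomp b).choose
    rw [Subgroup.coe_mul, Subgroup.coe_mul, show (a : Γ) * b * ((s : Γ) * t)⁻¹ =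
      ((a : Γ) * (s : Γ)⁻¹) * ((s : Γ) * ((b : Γ) * (t : Γ)⁻¹) * (s : Γ)⁻¹) by group]
    exact mul_mem ha ((conj_mem_iff (hs.norm s.2) _).2 hb)

theorem pr_spec (a : M) : (a : Γ) * (hs.pr a : Γ)⁻¹ ∈ K := (hs.exists_decomp a).choose_spec

theorem pr_left (k : K) : hs.pr (Subgroup.inclusion hs.le_left k) = 1 :=
  hs.decomp_unique (hs.pr_spec _) (by simp)

theorem pr_right (s : S) : hs.pr (Subgroup.inclusion hs.le_right s) = s :=
  hs.decomp_unique (hs.pr_spec _) (by simp)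

theorem hom_ext {A : Type*} [Monoid A] {f g : M →* A}
    (hK : ∀ k : K, f (Subgroup.inclusion hs.le_left k) = g (Subgroup.inclusion hs.le_left k))
    (hS : ∀ s : S, f (Subgroup.inclusion hs.le_right s) = g (Subgroup.inclusion hs.le_right s)) :
    f = g := by
  refine MonoidHom.ext fun a => ?_
  rw [show a = Subgroup.inclusion hs.le_left ⟨_, hs.pr_spec a⟩ * Subgroup.inclusion hs.le_right (hs.pr a)
    from Subtype.ext (by simp), map_mul, map_mul, hK, hS]

theorem relIndex_dvd : K.relIndex M ∣ Nat.card S := by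
  haveI : (K.subgroupOf M).Normal := Subgroup.normal_subgroupOf_of_le_normalizer hs.le_normalizer
  refine Subgroup.index_dvd_of_le (H := hs.pr.ker) (fun a ha => ?_) |>.trans ?_
  · rw [Subgroup.mem_subgroupOf]
    have := hs.pr_spec a
    rw [MonoidHom.mem_ker.1 ha] at this
    simpa using this
  · rw [Subgroup.index_ker]
    exact Subgroup.card_subgroup_dvd_card _

theorem coprime_relIndex {d : ℕ} (hd : ¬ p ∣ d) : (K.relIndex M).Coprime d := by
  haveI := Fact.mk hs.prime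
  obtain ⟨a, ha⟩ := IsPGroup.iff_card.1 hs.pgroup
  exact ((hs.prime.coprime_iff_not_dvd.2 hd).pow_left a).coprime_dvd_left (ha ▸ hs.relIndex_dvd)

theorem not_dvd_deg (θ : IrrCharacter K) : ¬ p ∣ deg (θ : K → ℂ) := fun h =>
  hs.coprime (h.trans (deg_dvd_card θ.2))

theorem le_charStab_of_ext {θ : K → ℂ} {χ : M → ℂ} (hχ : IsClassFunction M χ)
    (hres : ∀ k : K, χ (Subgroup.inclusion hs.le_left k) = θ k) : M ≤ charStab K θ := by
  intro a ha
  refine mem_charStab_iff.2 ⟨hs.le_normalizer ha, fun m m' e => ?_⟩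
  rw [← hres, ← hres, show Subgroup.inclusion hs.le_left m' =
    ⟨a, ha⟩ * Subgroup.inclusion hs.le_left m * (⟨a, ha⟩ : M)⁻¹ from Subtype.ext e, hχ]

/-- The canonical extension. -/
structure IsCanon (θ : IrrCharacter K) (χ : IrrCharacter M) : Prop where
  res : ∀ k : K, (χ : M → ℂ) (Subgroup.inclusion hs.le_left k) = (θ : K → ℂ) k
  det : ∀ s : S, detChar (χ : M → ℂ) (Subgroup.inclusion hs.le_right s) = 1

theorem exists_canon (θ : IrrCharacter K) (hθ : S ≤ charStab K (θ : K → ℂ)) :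
    ∃ χ : IrrCharacter M, hs.IsCanon θ χ := by
  haveI hN : (K.subgroupOf M).Normal := Subgroup.normal_subgroupOf_of_le_normalizer hs.le_normalizer
  let θ' : IrrCharacter (K.subgroupOf M) := upI hs.le_left θ
  have hM : M ≤ charStab K (θ : K → ℂ) := hs.eq ▸
    sup_le (le_charStab (isClassFunction_character (irr_isCharacter θ.2))) hθ
  have hinv : ∀ (g : M) (n : K.subgroupOf M),
      (θ' : K.subgroupOf M → ℂ) (MulAut.conjNormal g n) = (θ' : K.subgroupOf M → ℂ) n := fun g n => by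
    refine (mem_charStab_iff.1 (hM g.2)).2 _ _ ?_
    show ((MulAut.conjNormal g n : K.subgroupOf M) : M).1 = _
    rw [MulAut.conjNormal_apply]
    rfl
  obtain ⟨d, σ, hσ⟩ := irr_isCharacter θ'.2
  let c : K.subgroupOf M →* ℂˣ := detHom σ
  have hc : ∀ n, (c n : ℂ) = detChar (θ' : K.subgroupOf M → ℂ) n := fun n => by
    rw [detChar_eq_hom σ hσ]
  have hcinv : ∀ (g : M) (n : K.subgroupOf M), c (MulAut.conjNormal g n) = c n := fun g n =>
    Units.ext (by rw [hc, hc, detChar_conj_inv _ (irr_isCharacter θ'.2) hinv g n])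
  have hord : orderOf c ∣ Nat.card K := by
    refine orderOf_dvd_of_pow_eq_one (MonoidHom.ext fun n => ?_)
    rw [MonoidHom.pow_apply, MonoidHom.one_apply, ← map_pow,
      ← Nat.card_congr (Subgroup.subgroupOfEquivOfLe hs.le_left).toEquiv, pow_card_eq_one', map_one]
  obtain ⟨μ, hμ, hμo⟩ := exists_linear_extension_coprime (K.subgroupOf M) c hcinv
    (hs.coprime_relIndex fun h => hs.coprime (h.trans hord))
  have hd : (θ' : K.subgroupOf M → ℂ) 1 = d := char_one_eq_dim σ hσ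
  have hcop : (K.subgroupOf M).index.Coprime d := by
    refine hs.coprime_relIndex fun h => hs.not_dvd_deg θ ?_
    have h1 : ((deg (θ : K → ℂ) : ℕ) : ℂ) = d := by
      rw [← char_one_eq_deg (irr_isCharacter θ.2), ← hd]; simp [θ', upI]
    rwa [show deg (θ : K → ℂ) = d by exact_mod_cast h1]
  have hμ' : ∀ n : K.subgroupOf M, (μ (n : M) : ℂ) = detChar (θ' : K.subgroupOf M → ℂ) n :=
    fun n => by rw [hμ, hc]
  obtain ⟨η, hη, hηres⟩ := exists_extension_of_det_extension _ θ'.2 hinv d hd hcop μ hμ'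
  obtain ⟨χ, ⟨hχ, hχres, hχdet⟩, -⟩ :=
    existsUnique_extension_det _ θ'.2 d hd hcop hη hηres μ hμ'
  refine ⟨⟨χ, hχ⟩, fun k => hχres ⟨Subgroup.inclusion hs.le_left k, k.2⟩, fun s => ?_⟩
  rw [show detChar ((⟨χ, hχ⟩ : IrrCharacter M) : M → ℂ) = fun g => (μ g : ℂ) from hχdet]
  have e1 : μ (Subgroup.inclusion hs.le_right s) ^ Nat.card K = 1 := by
    rw [← MonoidHom.pow_apply, orderOf_dvd_iff_pow_eq_one.1 (hμo ▸ hord), MonoidHom.one_apply]
  have e2 : μ (Subgroup.inclusion hs.le_right s) ^ Nat.card S = 1 := by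
    rw [← map_pow, ← map_pow, pow_card_eq_one', map_one, map_one]
  haveI := Fact.mk hs.prime
  obtain ⟨a, ha⟩ := IsPGroup.iff_card.1 hs.pgroup
  have := Nat.eq_one_of_dvd_coprimes ((hs.prime.coprime_iff_not_dvd.2 hs.coprime).pow_left a)
    (ha ▸ orderOf_dvd_of_pow_eq_one e2) (orderOf_dvd_of_pow_eq_one e1)
  show (μ (Subgroup.inclusion hs.le_right s) : ℂ) = 1
  rw [orderOf_eq_one_iff.1 this, Units.val_one]

theorem IsCanon.isExtOn {θ : IrrCharacter K} {χ : IrrCharacter M} (h : hs.IsCanon θ χ) :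
    IsExtOn K M (θ : K → ℂ) (χ : M → ℂ) :=
  ⟨hs.le_left, hs.le_normalizer, χ.2, θ.2, h.res⟩

theorem IsCanon.unique {θ : IrrCharacter K} {χ χ' : IrrCharacter M} (h : hs.IsCanon θ χ)
    (h' : hs.IsCanon θ χ') : χ' = χ := by
  haveI hN : (K.subgroupOf M).Normal := Subgroup.normal_subgroupOf_of_le_normalizer hs.le_normalizer
  let θ' : IrrCharacter (K.subgroupOf M) := upI hs.le_left θ
  obtain ⟨d, hd⟩ := charOne_eq_natCast (irr_isCharacter θ'.2)
  have hd' : deg (θ : K → ℂ) = d := by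
    have h1 : ((deg (θ : K → ℂ) : ℕ) : ℂ) = d := by
      rw [← char_one_eq_deg (irr_isCharacter θ.2), ← hd]; simp [θ', upI]
    exact_mod_cast h1
  obtain ⟨a, ρ, hρ⟩ := irr_isCharacter χ.2
  obtain ⟨a', ρ', hρ'⟩ := irr_isCharacter χ'.2
  have hdetK : ∀ k : K, detChar (χ' : M → ℂ) (Subgroup.inclusion hs.le_left k) =
      detChar (χ : M → ℂ) (Subgroup.inclusion hs.le_left k) := fun k => by
    have e1 := detChar_restrict (K.subgroupOf M) (irr_isCharacter χ.2) (θ := (θ' : K.subgroupOf M → ℂ))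
      (fun n => h.res (Subgroup.subgroupOfEquivOfLe hs.le_left n)) ⟨Subgroup.inclusion hs.le_left k, k.2⟩
    have e2 := detChar_restrict (K.subgroupOf M) (irr_isCharacter χ'.2) (θ := (θ' : K.subgroupOf M → ℂ))
      (fun n => h'.res (Subgroup.subgroupOfEquivOfLe hs.le_left n)) ⟨Subgroup.inclusion hs.le_left k, k.2⟩
    exact e2.trans e1.symm
  refine Subtype.ext (extension_unique_of_det (K.subgroupOf M) θ'.2 d hd
    (hs.coprime_relIndex (hd' ▸ hs.not_dvd_deg θ)) (irr_isCharacter χ.2) (irr_isCharacter χ'.2)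
    (fun n => h.res (Subgroup.subgroupOfEquivOfLe hs.le_left n)) (fun n => h'.res (Subgroup.subgroupOfEquivOfLe hs.le_left n)) ?_)
  have heq : detHom ρ' = detHom ρ := hs.hom_ext
    (fun k => Units.ext (by
      have := hdetK k
      rwa [detChar_eq_hom ρ hρ, detChar_eq_hom ρ' hρ'] at this))
    (fun s => Units.ext (by
      have e1 := h.det s
      have e2 := h'.det s
      rw [detChar_eq_hom ρ hρ] at e1
      rw [detChar_eq_hom ρ' hρ'] at e2
      exact e2.trans e1.symm))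
  rw [detChar_eq_hom ρ hρ, detChar_eq_hom ρ' hρ', heq]

/-- The canonical extension. -/
noncomputable def canon (θ : IrrCharacter K) (hθ : S ≤ charStab K (θ : K → ℂ)) : IrrCharacter M :=
  (hs.exists_canon θ hθ).choose

theorem canon_spec (θ : IrrCharacter K) (hθ : S ≤ charStab K (θ : K → ℂ)) :
    hs.IsCanon θ (hs.canon θ hθ) := (hs.exists_canon θ hθ).choose_spec

/-- The character of a pair. -/
noncomputable def Phi (θ : {θ : IrrCharacter K // S ≤ charStab K (θ : K → ℂ)}) (l : S →* ℂˣ) :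
    IrrCharacter M :=
  ⟨fun a => (l (hs.pr a) : ℂ) * (hs.canon θ.1 θ.2 : M → ℂ) a,
    isIrr_linear_mul (hs.canon θ.1 θ.2).2 (l.comp hs.pr)⟩

theorem Phi_left (θ : {θ : IrrCharacter K // S ≤ charStab K (θ : K → ℂ)}) (l : S →* ℂˣ) (k : K) :
    (hs.Phi θ l : M → ℂ) (Subgroup.inclusion hs.le_left k) = (θ.1 : K → ℂ) k := by
  show (l (hs.pr _) : ℂ) * _ = _
  rw [hs.pr_left, map_one, Units.val_one, one_mul, (hs.canon_spec θ.1 θ.2).res]

theorem isExtOn_Phi (θ : {θ : IrrCharacter K // S ≤ charStab K (θ : K → ℂ)}) (l : S →* ℂˣ) :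
    IsExtOn K M (θ.1 : K → ℂ) (hs.Phi θ l : M → ℂ) :=
  ⟨hs.le_left, hs.le_normalizer, (hs.Phi θ l).2, θ.1.2, hs.Phi_left θ l⟩

/-- A twist of an extension determines the linear character. -/
theorem twist_inj {θ : K → ℂ} {χ : M → ℂ} (H : IsExtOn K M θ χ) {l l' : S →* ℂˣ}
    (h : ∀ a : M, (l (hs.pr a) : ℂ) * χ a = (l' (hs.pr a) : ℂ) * χ a) : l = l' := by
  refine MonoidHom.ext fun s => Units.ext ?_
  obtain ⟨k, hk⟩ := H.exists_ne_zero (hs.le_right s.2)
  have hm : (k : Γ) * s ∈ M := mul_mem (hs.le_left k.2) (hs.le_right s.2)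
  rw [extendByZero_mem M χ hm] at hk
  have e : hs.pr ⟨(k : Γ) * s, hm⟩ = s := by
    rw [show (⟨(k : Γ) * s, hm⟩ : M) = Subgroup.inclusion hs.le_left k * Subgroup.inclusion hs.le_right s
      from rfl, map_mul, hs.pr_left, hs.pr_right, one_mul]
  have := h ⟨(k : Γ) * s, hm⟩
  rw [e] at this
  exact mul_right_cancel₀ hk this

theorem Phi_injective {θ θ' : {θ : IrrCharacter K // S ≤ charStab K (θ : K → ℂ)}} {l l' : S →* ℂˣ}
    (h : hs.Phi θ l = hs.Phi θ' l') : θ = θ' ∧ l = l' := by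
  have hθ : θ = θ' := Subtype.ext (Subtype.ext (funext fun k => by
    rw [← hs.Phi_left θ l k, ← hs.Phi_left θ' l' k, h]))
  subst hθ
  exact ⟨rfl, hs.twist_inj (IsCanon.isExtOn hs (hs.canon_spec θ.1 θ.2)) fun a => congrFun (congrArg Subtype.val h) a⟩

theorem deg_Phi (θ : {θ : IrrCharacter K // S ≤ charStab K (θ : K → ℂ)}) (l : S →* ℂˣ) :
    deg (hs.Phi θ l : M → ℂ) = deg (θ.1 : K → ℂ) := by
  apply Nat.cast_injective (R := ℂ)
  rw [← char_one_eq_deg (irr_isCharacter (hs.Phi θ l).2), ← char_one_eq_deg (irr_isCharacter θ.1.2),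
    ← hs.Phi_left θ l 1, map_one]

theorem exists_Phi_eq (ζ : IrrCharacter M) (hζ : ¬ p ∣ deg (ζ : M → ℂ)) :
    ∃ θ l, hs.Phi θ l = ζ := by
  haveI hN : (K.subgroupOf M).Normal := Subgroup.normal_subgroupOf_of_le_normalizer hs.le_normalizer
  obtain ⟨ψ, hψ⟩ := DegreeSplit.restrict_of_coprime (K.subgroupOf M) ζ
    ((hs.coprime_relIndex hζ).symm)
  let θ : IrrCharacter K := ⟨fun k => (ψ : K.subgroupOf M → ℂ)
    ((Subgroup.subgroupOfEquivOfLe hs.le_left).symm k), isIrrCharacter_comp_equiv _ ψ.2⟩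
  have hres : ∀ k : K, (ζ : M → ℂ) (Subgroup.inclusion hs.le_left k) = (θ : K → ℂ) k := fun k =>
    hψ ((Subgroup.subgroupOfEquivOfLe hs.le_left).symm k)
  have hθ : S ≤ charStab K (θ : K → ℂ) := hs.le_right.trans
    (hs.le_charStab_of_ext (isClassFunction_character (irr_isCharacter ζ.2)) hres)
  obtain ⟨d, hd⟩ := charOne_eq_natCast (irr_isCharacter ψ.2)
  obtain ⟨β, hβ1, hβ, -⟩ := exists_twist (K.subgroupOf M) (χ := (hs.canon θ hθ : M → ℂ))
    (irr_isCharacter (hs.canon θ hθ).2) (irr_isCharacter ζ.2) ψ.2 d hd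
    (fun n => by
      have := (hs.canon_spec θ hθ).res (Subgroup.subgroupOfEquivOfLe hs.le_left n)
      rw [show (θ : K → ℂ) (Subgroup.subgroupOfEquivOfLe hs.le_left n) = (ψ : K.subgroupOf M → ℂ) n from
        congrArg (ψ : K.subgroupOf M → ℂ) ((Subgroup.subgroupOfEquivOfLe hs.le_left).symm_apply_apply n)] at this
      exact this) hψ
  refine ⟨⟨θ, hθ⟩, β.comp (Subgroup.inclusion hs.le_right), Subtype.ext (funext fun a => ?_)⟩
  show (β (Subgroup.inclusion hs.le_right (hs.pr a)) : ℂ) * _ = _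
  rw [congrFun hβ a]
  congr 2
  conv_rhs => rw [show a = Subgroup.inclusion hs.le_left ⟨_, hs.pr_spec a⟩ *
    Subgroup.inclusion hs.le_right (hs.pr a) from Subtype.ext (by simp), map_mul,
    show β (Subgroup.inclusion hs.le_left ⟨_, hs.pr_spec a⟩) = 1 from hβ1 ⟨_, hs.pr_spec a⟩, one_mul]

/-- Fixed linear characters. -/
def FixLin (v : Γ) (l : S →* ℂˣ) : Prop := ∀ s s' : S, (s' : Γ) = v * s * v⁻¹ → l s' = l s

theorem mem_normalizer {v : Γ} (hK : v ∈ Subgroup.normalizer (K : Set Γ))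
    (hS : v ∈ Subgroup.normalizer (S : Set Γ)) : v ∈ Subgroup.normalizer (M : Set Γ) := by
  have key : ∀ w, w ∈ Subgroup.normalizer (K : Set Γ) → w ∈ Subgroup.normalizer (S : Set Γ) →
      ∀ a ∈ M, w * a * w⁻¹ ∈ M := by
    intro w hwK hwS a ha
    obtain ⟨k, hk, s, hsS, rfl⟩ := (mem_sup_iff hs.norm).1 (hs.eq.le ha)
    rw [show w * (k * s) * w⁻¹ = (w * k * w⁻¹) * (w * s * w⁻¹) by group]
    exact mul_mem (hs.le_left ((conj_mem_iff hwK k).2 hk)) (hs.le_right ((conj_mem_iff hwS s).2 hsS))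
  rw [Subgroup.mem_set_normalizer_iff]
  refine fun a => ⟨key v hK hS a, fun h => ?_⟩
  have := key v⁻¹ (inv_mem hK) (inv_mem hS) _ h
  rwa [show v⁻¹ * (v * a * v⁻¹) * v⁻¹⁻¹ = a by group] at this

theorem mem_charStab_Phi_iff (θ : {θ : IrrCharacter K // S ≤ charStab K (θ : K → ℂ)}) (l : S →* ℂˣ)
    {v : Γ} (hK : v ∈ Subgroup.normalizer (K : Set Γ)) (hS : v ∈ Subgroup.normalizer (S : Set Γ)) :
    v ∈ charStab M (hs.Phi θ l : M → ℂ) ↔ v ∈ charStab K (θ.1 : K → ℂ) ∧ FixLin v l := by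
  have hvM := hs.mem_normalizer hK hS
  let α := normAut M v hvM
  let l' : S →* ℂˣ := l.comp (normAut S v hS).toMonoidHom
  have hpr : ∀ a : M, hs.pr (α a) = normAut S v hS (hs.pr a) := fun a => by
    refine hs.decomp_unique (hs.pr_spec _) ?_
    show v * (a : Γ) * v⁻¹ * (v * (hs.pr a : Γ) * v⁻¹)⁻¹ ∈ K
    rw [show v * (a : Γ) * v⁻¹ * (v * (hs.pr a : Γ) * v⁻¹)⁻¹ = v * ((a : Γ) * (hs.pr a : Γ)⁻¹) * v⁻¹ by group]
    exact (conj_mem_iff hK _).2 (hs.pr_spec a)
  have hcanon : v ∈ charStab K (θ.1 : K → ℂ) → ∀ a : M,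
      (hs.canon θ.1 θ.2 : M → ℂ) (α a) = (hs.canon θ.1 θ.2 : M → ℂ) a := by
    intro hvθ a
    have h := hs.canon_spec θ.1 θ.2
    have h' : hs.IsCanon θ.1 (irrComp α (hs.canon θ.1 θ.2)) := by
      refine ⟨fun k => ?_, fun s => ?_⟩
      · rw [irrComp_apply, show α (Subgroup.inclusion hs.le_left k) =
          Subgroup.inclusion hs.le_left (normAut K v hK k) from rfl, h.res]
        exact (mem_charStab_iff.1 hvθ).2 k _ rfl
      · refine (detChar_comp_equiv α (irr_isCharacter (hs.canon θ.1 θ.2).2) _).trans ?_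
        rw [show α (Subgroup.inclusion hs.le_right s) =
          Subgroup.inclusion hs.le_right (normAut S v hS s) from rfl, h.det]
    exact congrFun (congrArg Subtype.val (IsCanon.unique hs h h')) a
  constructor
  · intro hv
    have hvθ : v ∈ charStab K (θ.1 : K → ℂ) := by
      refine mem_charStab_iff.2 ⟨hK, fun m m' e => ?_⟩
      rw [← hs.Phi_left θ l m', ← hs.Phi_left θ l m]
      exact (mem_charStab_iff.1 hv).2 _ _ e
    refine ⟨hvθ, fun s s' e => ?_⟩
    have hll : l' = l := hs.twist_inj (IsCanon.isExtOn hs (hs.canon_spec θ.1 θ.2)) fun a => by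
      have h1 : (hs.Phi θ l : M → ℂ) (α a) = (hs.Phi θ l : M → ℂ) a :=
        (mem_charStab_iff.1 hv).2 a (α a) rfl
      show (l (normAut S v hS (hs.pr a)) : ℂ) * _ = _
      rw [← hpr, ← hcanon hvθ a]
      refine h1.trans ?_
      show _ * _ = _ * _
      rw [hcanon hvθ a]
    rw [show s' = normAut S v hS s from Subtype.ext e]
    exact DFunLike.congr_fun hll s
  · rintro ⟨hvθ, hl⟩
    refine mem_charStab_iff.2 ⟨hvM, fun a a' e => ?_⟩
    rw [show a' = α a from Subtype.ext e]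
    show (l (hs.pr (α a)) : ℂ) * (hs.canon θ.1 θ.2 : M → ℂ) (α a) = _
    rw [hcanon hvθ, hpr, hl (hs.pr a) _ rfl]
    rfl

/-- The pairing of a pair is that of its first component. -/
theorem pairF_Phi (θ : {θ : IrrCharacter K // S ≤ charStab K (θ : K → ℂ)}) (l : S →* ℂˣ) {u v : Γ}
    (huK : u ∈ Subgroup.normalizer (K : Set Γ)) (huS : u ∈ Subgroup.normalizer (S : Set Γ))
    (hvK : v ∈ Subgroup.normalizer (K : Set Γ)) (hvS : v ∈ Subgroup.normalizer (S : Set Γ))
    (hu : u ∈ charStab K (θ.1 : K → ℂ) ∧ FixLin u l)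
    (hv : v ∈ charStab K (θ.1 : K → ℂ) ∧ FixLin v l) (huv : ⁅u, v⁆ ∈ K) :
    pairF M (hs.Phi θ l : M → ℂ) u v = pairF K (θ.1 : K → ℂ) u v := by
  obtain ⟨η, H, hc⟩ := exists_pairF_data (hs.Phi θ l).2 ((hs.mem_charStab_Phi_iff θ l huK huS).2 hu)
    ((hs.mem_charStab_Phi_iff θ l hvK hvS).2 hv) (hs.le_left huv)
  have hle : K ⊔ Subgroup.zpowers v ≤ M ⊔ Subgroup.zpowers v := sup_le_sup_right hs.le_left _
  let η0 : ↥(K ⊔ Subgroup.zpowers v) → ℂ := fun a => η (Subgroup.inclusion hle a)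
  have hres : ∀ k : K, η0 (Subgroup.inclusion le_sup_left k) = (θ.1 : K → ℂ) k := fun k =>
    (H.res (Subgroup.inclusion hs.le_left k)).trans (hs.Phi_left θ l k)
  have H0 : IsExtOn K (K ⊔ Subgroup.zpowers v) (θ.1 : K → ℂ) η0 := by
    refine ⟨le_sup_left, sup_zpowers_le_normalizer hvK, ?_, θ.1.2, hres⟩
    refine isIrr_of_res (Subgroup.inclusion le_sup_left)
      (isCharacter_comp (Subgroup.inclusion hle) (irr_isCharacter H.irr)) ?_
    rw [funext hres]
    exact θ.1.2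
  have hvY : v ∈ K ⊔ Subgroup.zpowers v := Subgroup.mem_sup_right (Subgroup.mem_zpowers v)
  refine (H0.pairF_eq hvY huK huv fun h => ?_).symm
  have h1 : (h : Γ) * v ∈ K ⊔ Subgroup.zpowers v := mul_mem (H0.le h.2) hvY
  have h2 : u * ((h : Γ) * v) * u⁻¹ ∈ K ⊔ Subgroup.zpowers v :=
    (conj_mem_iff (mem_normalizer_sup_zpowers huK huv) _).2 h1
  have := hc (Subgroup.inclusion hs.le_left h)
  rw [Subgroup.coe_inclusion, extendByZero_mem _ η (hle h1), extendByZero_mem _ η (hle h2)] at this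
  rw [extendByZero_mem _ η0 h1, extendByZero_mem _ η0 h2]
  exact this

/-- The central condition on pairs. -/
theorem Phi_central_iff {Z : Subgroup Γ} (hZ : Z ≤ M) (hcen : Z ≤ Subgroup.center Γ)
    (hsplit : ∀ z ∈ Z, ∃ z₁ ∈ Z ⊓ K, ∃ z₂ ∈ Z ⊓ S, z₁ * z₂ = z) (μ : Z →* ℂˣ)
    (θ : {θ : IrrCharacter K // S ≤ charStab K (θ : K → ℂ)}) (l : S →* ℂˣ) :
    (∀ z : Z, (hs.Phi θ l : M → ℂ) (Subgroup.inclusion hZ z) =
        (hs.Phi θ l : M → ℂ) 1 * (μ z : ℂ)) ↔
      (∀ (z : Z) (k : K), (z : Γ) = k → (θ.1 : K → ℂ) k = (θ.1 : K → ℂ) 1 * (μ z : ℂ)) ∧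
      ∀ (z : Z) (s : S), (z : Γ) = s → l s = μ z := by
  have h := hs.canon_spec θ.1 θ.2
  have hone : (hs.Phi θ l : M → ℂ) 1 = (θ.1 : K → ℂ) 1 := by
    rw [← hs.Phi_left θ l 1, map_one]
  have hθ1 := irr_one_ne_zero θ.1.2
  have hcen' : ∀ (z : Z) (a : M), Subgroup.inclusion hZ z * a = a * Subgroup.inclusion hZ z :=
    fun z a => Subtype.ext (Subgroup.mem_center_iff.1 (hcen z.2) a).symm
  -- a central element of `S` is trivial in the canonical extension
  have hS : ∀ (z : Z) (s : S), (z : Γ) = s → ∀ a : M, (hs.canon θ.1 θ.2 : M → ℂ)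
      (Subgroup.inclusion hs.le_right s * a) = (hs.canon θ.1 θ.2 : M → ℂ) a := by
    intro z s e a
    obtain ⟨w, hw, hdet, hord⟩ := central_scalar (hs.canon θ.1 θ.2).2 (z := Subgroup.inclusion hs.le_right s)
      (fun b => by
        rw [show Subgroup.inclusion hs.le_right s = Subgroup.inclusion hZ z from Subtype.ext e.symm]
        exact hcen' z b)
    rw [h.det s] at hdet
    have hd : deg (hs.canon θ.1 θ.2 : M → ℂ) = deg (θ.1 : K → ℂ) := by
      apply Nat.cast_injective (R := ℂ)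
      rw [← char_one_eq_deg (irr_isCharacter (hs.canon θ.1 θ.2).2),
        ← char_one_eq_deg (irr_isCharacter θ.1.2), ← h.res 1, map_one]
    have hw1 : w = 1 := by
      haveI := Fact.mk hs.prime
      obtain ⟨b, hb⟩ := IsPGroup.iff_orderOf.1 hs.pgroup s
      have e1 : orderOf w ∣ p ^ b := by
        refine orderOf_dvd_of_pow_eq_one ?_
        rwa [orderOf_injective _ (Subgroup.inclusion_injective hs.le_right), hb] at hord
      have e2 : orderOf w ∣ deg (θ.1 : K → ℂ) := orderOf_dvd_of_pow_eq_one (hd ▸ hdet.symm)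
      exact orderOf_eq_one_iff.1 (Nat.eq_one_of_dvd_coprimes
        ((hs.prime.coprime_iff_not_dvd.2 (hs.not_dvd_deg θ.1)).pow_left b) e1 e2)
    rw [hw, hw1, one_mul]
  constructor
  · intro hz
    constructor
    · intro z k e
      rw [← hs.Phi_left θ l k, ← hone, ← hz z]
      exact congrArg (hs.Phi θ l : M → ℂ) (Subtype.ext e.symm)
    · intro z s e
      have h1 := hz z
      rw [hone, show Subgroup.inclusion hZ z = Subgroup.inclusion hs.le_right s from Subtype.ext e] at h1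
      have h2 : (hs.Phi θ l : M → ℂ) (Subgroup.inclusion hs.le_right s) = (l s : ℂ) * (θ.1 : K → ℂ) 1 := by
        show (l (hs.pr _) : ℂ) * _ = _
        have h3 := hS z s e 1
        rw [mul_one] at h3
        rw [hs.pr_right, h3, ← map_one (Subgroup.inclusion hs.le_left), h.res]
      rw [h2, mul_comm] at h1
      exact Units.ext (mul_left_cancel₀ hθ1 h1)
  · rintro ⟨hK, hl⟩ z
    obtain ⟨z₁, hz₁, z₂, hz₂, e⟩ := hsplit z z.2
    have e' : Subgroup.inclusion hZ z = Subgroup.inclusion hs.le_right ⟨z₂, hz₂.2⟩ *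
        Subgroup.inclusion hs.le_left ⟨z₁, hz₁.2⟩ := Subtype.ext (by
      show (z : Γ) = z₂ * z₁
      rw [← e, (Subgroup.mem_center_iff.1 (hcen hz₁.1) z₂)])
    rw [hone, e']
    show (l (hs.pr _) : ℂ) * _ = _
    rw [map_mul, hs.pr_right, hs.pr_left, mul_one, hS ⟨z₂, hz₂.1⟩ ⟨z₂, hz₂.2⟩ rfl, h.res,
      hl ⟨z₂, hz₂.1⟩ _ rfl, hK ⟨z₁, hz₁.1⟩ _ rfl]
    have hμ : μ z = μ ⟨z₁, hz₁.1⟩ * μ ⟨z₂, hz₂.1⟩ := by
      rw [← map_mul]; congr 1; exact Subtype.ext e.symm
    rw [hμ, Units.val_mul]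
    ring

end IsSemi

end Cfsg.Agent.Char.RelMcKay
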