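import Cfsg.Agent.Lib.Char.RelMcKay.Over
import Mathlib

/-!
# Counting characters over an invariant set by the pairing
-/

open scoped ComplexConjugate commutatorElement
open Cfsg Module

set_option autoImplicit false
set_option linter.style.haveILetI false
set_option linter.unusedSectionVars false

attribute [local instance] Fintype.ofFinite

namespace Cfsg.Agent.Char.RelMcKay

universe u

variable {Γ : Type u} [Group Γ] [Finite Γ]

theorem sum_pairF {M H : Subgroup Γ} (hMH : M ≤ H) (θ : M → ℂ) :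
    ∑ g : H, ∑ h : H, pairF M θ g h = θ 1 * ∑ g : H, ∑ h : H, extendByZero M θ ⁅(g : Γ), (h : Γ)⁆ := by
  have hn : (Nat.card M : ℂ) ≠ 0 := Nat.cast_ne_zero.2 Nat.card_pos.ne'
  simp only [pairF, ← Finset.mul_sum]
  have shift : ∀ (m : M) (f : Γ → ℂ), ∑ h : H, f ((m : Γ) * h) = ∑ h : H, f h := fun m f =>
    Fintype.sum_equiv (Equiv.mulLeft (Subgroup.inclusion hMH m)) _ _ fun h => rfl
  have e : ∑ g : H, ∑ h : H, ∑ a : M, ∑ b : M, extendByZero M θ ⁅(a : Γ) * g, (b : Γ) * h⁆ =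
      (Nat.card M : ℂ) ^ 2 * ∑ g : H, ∑ h : H, extendByZero M θ ⁅(g : Γ), (h : Γ)⁆ := by
    have e1 : ∀ g : H, ∑ h : H, ∑ a : M, ∑ b : M, extendByZero M θ ⁅(a : Γ) * g, (b : Γ) * h⁆ =
        (Nat.card M : ℂ) * ∑ a : M, ∑ h : H, extendByZero M θ ⁅(a : Γ) * g, (h : Γ)⁆ := fun g => by
      rw [Finset.sum_comm, Finset.mul_sum]
      refine Finset.sum_congr rfl fun a _ => ?_
      rw [Finset.sum_comm, Finset.sum_congr rfl fun b _ => shift b fun z => extendByZero M θ ⁅(a : Γ) * g, z⁆,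
        Finset.sum_const, Finset.card_univ, nsmul_eq_mul, Nat.card_eq_fintype_card]
    rw [Finset.sum_congr rfl fun g _ => e1 g, ← Finset.mul_sum, Finset.sum_comm,
      Finset.sum_congr rfl fun a _ => shift a fun z => ∑ h : H, extendByZero M θ ⁅z, (h : Γ)⁆,
      Finset.sum_const, Finset.card_univ, nsmul_eq_mul, ← Nat.card_eq_fintype_card, sq, mul_assoc]
  rw [e]
  field_simp

/-- Frobenius' formula, evaluated against a function on a subgroup. -/
theorem sum_commutators {M H : Subgroup Γ} (hMH : M ≤ H) {θ : M → ℂ} (hθ : IsCharacter M θ) :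
    ∑ g : H, ∑ h : H, extendByZero M θ ⁅(g : Γ), (h : Γ)⁆ =
      (Nat.card H : ℂ) * (Nat.card M : ℂ) *
        ∑ χ : IrrCharacter H, inn M (extendByZero H (χ : H → ℂ)) θ / (χ : H → ℂ) 1 := by
  haveI : DecidableEq H := Classical.decEq _
  haveI : DecidablePred fun z : H => (z : Γ) ∈ M := Classical.decPred _
  have h0 : ∑ g : H, ∑ h : H, extendByZero M θ ⁅(g : Γ), (h : Γ)⁆ =
      ∑ g : H, ∑ h : H, conj (extendByZero M θ ⁅(g : Γ), (h : Γ)⁆) := by
    rw [Finset.sum_comm]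
    refine Finset.sum_congr rfl fun g _ => Finset.sum_congr rfl fun h _ => ?_
    rw [← extendByZero_inv hθ, commutatorElement_inv]
  rw [h0, ← Fintype.sum_prod_type',
    ← Finset.sum_fiberwise Finset.univ (fun gh : H × H => gh.1 * gh.2 * gh.1⁻¹ * gh.2⁻¹)]
  have e : ∀ z : H, (∑ gh ∈ Finset.univ.filter (fun gh : H × H => gh.1 * gh.2 * gh.1⁻¹ * gh.2⁻¹ = z),
      conj (extendByZero M θ ⁅(gh.1 : Γ), (gh.2 : Γ)⁆)) =
      (Nat.card {gh : H × H // gh.1 * gh.2 * gh.1⁻¹ * gh.2⁻¹ = z} : ℂ) *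
        conj (extendByZero M θ (z : Γ)) := fun z => by
    rw [Nat.card_eq_fintype_card, Fintype.card_subtype, ← nsmul_eq_mul, ← Finset.sum_const]
    refine Finset.sum_congr rfl fun gh hgh => ?_
    rw [← (Finset.mem_filter.1 hgh).2]
    rfl
  rw [Finset.sum_congr rfl fun z _ => e z]
  simp only [card_commutator_eq, Finset.mul_sum, Finset.sum_mul]
  rw [Finset.sum_comm]
  refine Finset.sum_congr rfl fun χ _ => ?_
  have hsum : ∑ z : H, (χ : H → ℂ) z * conj (extendByZero M θ (z : Γ)) =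
      (Nat.card M : ℂ) * inn M (extendByZero H (χ : H → ℂ)) θ := by
    rw [inn, classInner, mul_inv_cancel_left₀ (Nat.cast_ne_zero.2 Nat.card_pos.ne'),
      ← Finset.sum_filter_of_ne (p := fun z : H => (z : Γ) ∈ M) fun z _ hz => by
        by_contra hzM
        exact hz (by rw [extendByZero_not_mem M θ hzM, map_zero, mul_zero])]
    refine Eq.symm (Finset.sum_bij (fun (m : M) _ => Subgroup.inclusion hMH m) (fun m _ => ?_)
      (fun a _ b _ h => Subgroup.inclusion_injective hMH h)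
      (fun z hz => ⟨⟨z, (Finset.mem_filter.1 hz).2⟩, Finset.mem_univ _, rfl⟩) fun m _ => ?_)
    · exact Finset.mem_filter.2 ⟨Finset.mem_univ _, m.2⟩
    · rw [extendByZero_mem H _ (hMH m.2)]
      exact congrArg (fun w => _ * conj w) (extendByZero_mem M θ m.2).symm
  rw [mul_assoc, ← mul_div_assoc, ← hsum, Finset.sum_div, Finset.mul_sum]
  exact Finset.sum_congr rfl fun z _ => by ring

/-- The number of characters of `H` with a constituent in a stable set. -/
theorem count_pairs {M H : Subgroup Γ} (hMH : M ≤ H) (hn : H ≤ Subgroup.normalizer (M : Set Γ))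
    (X : Finset (IrrCharacter M))
    (hX : ∀ g, ∀ hg : g ∈ H, ∀ ζ ∈ X, conjI M g (hn hg) ζ ∈ X) :
    (Nat.card H : ℂ) * (Nat.card M : ℂ) *
        (Nat.card {χ : IrrCharacter H //
          ∃ ζ ∈ X, inn M (extendByZero H (χ : H → ℂ)) (ζ : M → ℂ) ≠ 0} : ℂ) =
      ∑ ζ ∈ X, ∑ g : H, ∑ h : H, pairF M (ζ : M → ℂ) g h := by
  haveI : DecidablePred fun χ : IrrCharacter H =>
    ∃ ζ ∈ X, inn M (extendByZero H (χ : H → ℂ)) (ζ : M → ℂ) ≠ 0 := Classical.decPred _
  simp only [sum_pairF hMH]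
  rw [Finset.sum_congr rfl fun ζ _ => by
    rw [sum_commutators hMH (irr_isCharacter ζ.2), mul_left_comm, Finset.mul_sum],
    ← Finset.mul_sum, Finset.sum_comm]
  congr 1
  rw [Nat.card_eq_fintype_card, Fintype.card_subtype, ← Finset.sum_boole]
  refine Finset.sum_congr rfl fun χ _ => ?_
  split_ifs with hgood
  · obtain ⟨ζ₀, hζ₀, h0⟩ := hgood
    have hout : ∀ ζ, ζ ∉ X → inn M (extendByZero H (χ : H → ℂ)) (ζ : M → ℂ) = 0 := fun ζ hζ => by
      by_contra hne
      obtain ⟨g, hg, e⟩ := constituents_conj hMH hn χ h0 hne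
      exact hζ (e ▸ hX g hg ζ₀ hζ₀)
    simp only [← mul_div_assoc, ← Finset.sum_div]
    rw [eq_comm, div_eq_one_iff_eq (irr_one_ne_zero χ.2),
      Finset.sum_subset (Finset.subset_univ X) fun ζ _ hζ => by rw [hout ζ hζ, mul_zero]]
    have := res_expansion hMH (irr_isCharacter χ.2) 1
    rw [OneMemClass.coe_one, extendByZero_mem H _ (one_mem H)] at this
    exact (Finset.sum_congr rfl fun ζ _ => mul_comm _ _).trans this.symm
  · push Not at hgood
    exact (Finset.sum_eq_zero fun ζ hζ => by rw [hgood ζ hζ, zero_div, mul_zero]).symm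

/-- Sums over a product of `M` and `U`. -/
theorem sum_over_product {M U H : Subgroup Γ} (hMH : M ≤ H) (hUH : U ≤ H)
    (hgen : ∀ h ∈ H, ∃ m ∈ M, ∃ u ∈ U, m * u = h) (f : Γ → ℂ) (hf : ∀ m ∈ M, ∀ z, f (m * z) = f z) :
    (Nat.card ↥(M ⊓ U) : ℂ) * ∑ h : H, f h = (Nat.card M : ℂ) * ∑ u : U, f u := by
  haveI : DecidableEq H := Classical.decEq _
  let P : M × U → H := fun mu => ⟨mu.1 * mu.2, mul_mem (hMH mu.1.2) (hUH mu.2.2)⟩
  have h1 : ∑ mu : M × U, f (P mu) = (Nat.card M : ℂ) * ∑ u : U, f u := by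
    rw [Fintype.sum_prod_type, Finset.sum_congr rfl fun m _ => Finset.sum_congr rfl fun u _ =>
      show f (P (m, u)) = f u from hf m m.2 u, Finset.sum_const, Finset.card_univ, nsmul_eq_mul,
      Nat.card_eq_fintype_card]
  rw [← h1, Finset.mul_sum, ← Finset.sum_fiberwise Finset.univ P]
  refine Finset.sum_congr rfl fun h _ => ?_
  rw [Finset.sum_congr rfl (g := fun _ => f h) fun mu hmu => by rw [(Finset.mem_filter.1 hmu).2],
    Finset.sum_const, nsmul_eq_mul]
  congr 2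
  obtain ⟨m, hm, u, hu, e⟩ := hgen h h.2
  rw [← Fintype.card_subtype, ← Nat.card_eq_fintype_card]
  refine Nat.card_congr
    { toFun := fun c => ⟨(⟨m * c, mul_mem hm c.2.1⟩, ⟨(c : Γ)⁻¹ * u, mul_mem (U.inv_mem c.2.2) hu⟩),
        Subtype.ext (show m * c * ((c : Γ)⁻¹ * u) = h by rw [← e]; group)⟩
      invFun := fun w => ⟨m⁻¹ * w.1.1, ⟨M.mul_mem (M.inv_mem hm) w.1.1.2, by
        have e' : (w.1.1 : Γ) * w.1.2 = m * u := (congrArg Subtype.val w.2).trans e.symm
        rw [show m⁻¹ * (w.1.1 : Γ) = u * (w.1.2 : Γ)⁻¹ by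
          rw [eq_mul_inv_iff_mul_eq, mul_assoc, e', inv_mul_cancel_left]]
        exact U.mul_mem hu (U.inv_mem w.1.2.2)⟩⟩
      left_inv := fun c => Subtype.ext (by simp)
      right_inv := fun w => Subtype.ext (Prod.ext (Subtype.ext (by simp)) (Subtype.ext (by
        have e' : (w.1.1 : Γ) * w.1.2 = m * u := (congrArg Subtype.val w.2).trans e.symm
        show (m⁻¹ * (w.1.1 : Γ))⁻¹ * u = _
        rw [mul_inv_rev, inv_inv, mul_assoc, ← e', inv_mul_cancel_left]))) }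

/-- The count, with the sums over a supplement. -/
theorem count_pairs_supplement {M U H : Subgroup Γ} (hMH : M ≤ H) (hUH : U ≤ H)
    (hn : H ≤ Subgroup.normalizer (M : Set Γ)) (hgen : ∀ h ∈ H, ∃ m ∈ M, ∃ u ∈ U, m * u = h)
    (X : Finset (IrrCharacter M)) (hX : ∀ g, ∀ hg : g ∈ H, ∀ ζ ∈ X, conjI M g (hn hg) ζ ∈ X) :
    (Nat.card U : ℂ) * (Nat.card ↥(M ⊓ U) : ℂ) *
        (Nat.card {χ : IrrCharacter H //
          ∃ ζ ∈ X, inn M (extendByZero H (χ : H → ℂ)) (ζ : M → ℂ) ≠ 0} : ℂ) =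
      ∑ ζ ∈ X, ∑ u : U, ∑ v : U, pairF M (ζ : M → ℂ) u v := by
  have h := count_pairs hMH hn X hX
  set A := (Nat.card {χ : IrrCharacter H //
          ∃ ζ ∈ X, inn M (extendByZero H (χ : H → ℂ)) (ζ : M → ℂ) ≠ 0} : ℂ)
  set C := (Nat.card ↥(M ⊓ U) : ℂ)
  have hone := sum_over_product hMH hUH hgen (fun _ => 1) fun _ _ _ => rfl
  simp only [Finset.sum_const, Finset.card_univ, nsmul_eq_mul, mul_one, ← Nat.card_eq_fintype_card] at hone
  have hS : ∀ ζ : IrrCharacter M, C * C * (∑ g : H, ∑ k : H, pairF M (ζ : M → ℂ) g k) =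
      (Nat.card M : ℂ) * (Nat.card M : ℂ) * ∑ u : U, ∑ v : U, pairF M (ζ : M → ℂ) u v := fun ζ => by
    have h2 : ∀ g : H, C * ∑ k : H, pairF M (ζ : M → ℂ) g k =
        (Nat.card M : ℂ) * ∑ v : U, pairF M (ζ : M → ℂ) g v := fun g =>
      sum_over_product hMH hUH hgen (fun z => pairF M (ζ : M → ℂ) g z) fun m hm z =>
        pairF_mul_right M _ hm _ z
    rw [mul_assoc, Finset.mul_sum (a := C), Finset.sum_congr rfl fun g _ => h2 g, ← Finset.mul_sum,
      mul_left_comm,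
      sum_over_product hMH hUH hgen (fun z => ∑ v : U, pairF M (ζ : M → ℂ) z v) fun m hm z =>
        Finset.sum_congr rfl fun v _ => pairF_mul_left M _ hm z v, ← mul_assoc]
  have h3 : C * C * ((Nat.card H : ℂ) * (Nat.card M : ℂ) * A) =
      (Nat.card M : ℂ) * (Nat.card M : ℂ) * ∑ ζ ∈ X, ∑ u : U, ∑ v : U, pairF M (ζ : M → ℂ) u v := by
    rw [h, Finset.mul_sum, Finset.mul_sum, Finset.sum_congr rfl fun ζ _ => hS ζ]
  refine mul_left_cancel₀ (mul_ne_zero (Nat.cast_ne_zero.2 (Nat.card_pos (α := M)).ne')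
    (Nat.cast_ne_zero.2 (Nat.card_pos (α := M)).ne')) (Eq.trans ?_ h3)
  linear_combination -(C * (Nat.card M : ℂ) * A) * hone

end Cfsg.Agent.Char.RelMcKay
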