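import Mathlib

/-!
# Two commuting automorphisms without common invariant subgroups generate a cyclic group
-/

set_option autoImplicit false

namespace Cfsg.Agent.Char.RelMcKay

universe u

/-- Commuting automorphisms of a finite abelian group with no common invariant subgroup generate
a cyclic group. -/
theorem exists_common_generator {E : Type u} [CommGroup E] [Finite E] [Nontrivial E] (a b : MulAut E)
    (hab : a * b = b * a)
    (hmin : ∀ T : Subgroup E, (∀ t ∈ T, a t ∈ T) → (∀ t ∈ T, b t ∈ T) → T = ⊥ ∨ T = ⊤) :
    ∃ (ζ : MulAut E) (i j : ℕ), a = ζ ^ i ∧ b = ζ ^ j := by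
  classical
  let f : MulAut E →* AddMonoid.End (Additive E) :=
    { toFun := fun α => MonoidHom.toAdditive α.toMonoidHom
      map_one' := rfl
      map_mul' := fun _ _ => rfl }
  have hf : ∀ α β : MulAut E, f α = f β → α = β := fun α β h => MulEquiv.ext fun e => by
    have := DFunLike.congr_fun h (Additive.ofMul e)
    exact this
  let R : Subring (AddMonoid.End (Additive E)) := Subring.closure {f a, f b}
  have haR : f a ∈ R := Subring.subset_closure (by simp)
  have hbR : f b ∈ R := Subring.subset_closure (by simp)
  have hcomm : ∀ r ∈ R, ∀ s ∈ R, r * s = s * r := by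
    have h1 : R ≤ Subring.centralizer {f a, f b} := by
      refine Subring.closure_le.2 ?_
      intro r hr
      rw [SetLike.mem_coe, Subring.mem_centralizer_iff]
      intro s hs
      simp only [Set.mem_insert_iff, Set.mem_singleton_iff] at hr hs
      rcases hr with rfl | rfl <;> rcases hs with rfl | rfl <;>
        simp only [← map_mul, hab]
    have h2 : R ≤ Subring.centralizer (R : Set (AddMonoid.End (Additive E))) := by
      refine Subring.closure_le.2 ?_
      intro r hr
      rw [SetLike.mem_coe, Subring.mem_centralizer_iff]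
      intro s hs
      exact (Subring.mem_centralizer_iff.1 (h1 hs) r hr).symm
    intro r hr s hs
    exact (Subring.mem_centralizer_iff.1 (h2 hr) s hs).symm
  letI : CommRing R :=
    { R.toRing with mul_comm := fun r s => Subtype.ext (hcomm r r.2 s s.2) }
  haveI : Nontrivial R := by
    refine ⟨⟨1, 0, fun h => ?_⟩⟩
    obtain ⟨e, he⟩ := exists_ne (1 : E)
    exact he (DFunLike.congr_fun (congrArg Subtype.val h) (Additive.ofMul e))
  haveI : NoZeroDivisors R := by
    refine ⟨fun {r s} h => ?_⟩
    refine or_iff_not_imp_left.2 fun hr => ?_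
    let T : Subgroup E :=
      { carrier := {e | r.1 (Additive.ofMul e) = 0}
        one_mem' := map_zero r.1
        mul_mem' := fun {x y} hx hy => by
          show r.1 (Additive.ofMul x + Additive.ofMul y) = 0
          rw [map_add, hx, hy, add_zero]
        inv_mem' := fun {x} hx => by
          show r.1 (-Additive.ofMul x) = 0
          rw [map_neg, hx, neg_zero] }
    have hstab : ∀ α : MulAut E, f α ∈ R → ∀ t ∈ T, α t ∈ T := fun α hα t ht => by
      show r.1 (f α (Additive.ofMul t)) = 0
      show (r.1 * f α) (Additive.ofMul t) = 0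
      rw [hcomm r.1 r.2 _ hα]
      show f α (r.1 (Additive.ofMul t)) = 0
      rw [show r.1 (Additive.ofMul t) = 0 from ht, map_zero]
    rcases hmin T (hstab a haR) (hstab b hbR) with hT | hT
    · refine Subtype.ext (AddMonoidHom.ext fun e => ?_)
      have hmem : Additive.toMul (s.1 e) ∈ T :=
        DFunLike.congr_fun (congrArg Subtype.val h) e
      rw [hT, Subgroup.mem_bot] at hmem
      exact hmem
    · refine absurd (Subtype.ext (AddMonoidHom.ext fun e => ?_)) hr
      have hmem : Additive.toMul e ∈ T := by rw [hT]; exact Subgroup.mem_top _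
      exact hmem
  haveI : IsDomain R := NoZeroDivisors.to_isDomain R
  let Amon : Submonoid (MulAut E) := R.toSubmonoid.comap f
  let A : Subgroup (MulAut E) :=
    { toSubmonoid := Amon
      inv_mem' := fun {α} hα => by
        have e : α⁻¹ = α ^ (orderOf α - 1) := by
          refine inv_eq_of_mul_eq_one_left ?_
          rw [← pow_succ, Nat.sub_add_cancel (orderOf_pos α), pow_orderOf_eq_one]
        show α⁻¹ ∈ Amon
        rw [e]
        exact pow_mem hα _ }
  let g : A →* R :=
    { toFun := fun α => ⟨f α.1, α.2⟩
      map_one' := Subtype.ext (map_one f)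
      map_mul' := fun α β => Subtype.ext (map_mul f α.1 β.1) }
  have hcyc : IsCyclic A := isCyclic_of_subgroup_isDomain g fun α β h =>
    Subtype.ext (hf _ _ (congrArg Subtype.val h))
  obtain ⟨ζ, hζ⟩ := hcyc.exists_generator
  obtain ⟨i, hi⟩ := (mem_powers_iff_mem_zpowers.2 (hζ ⟨a, haR⟩))
  obtain ⟨j, hj⟩ := (mem_powers_iff_mem_zpowers.2 (hζ ⟨b, hbR⟩))
  exact ⟨ζ.1, i, j, (congrArg Subtype.val hi).symm, (congrArg Subtype.val hj).symm⟩

end Cfsg.Agent.Char.RelMcKay
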