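import Cfsg.Agent.Lib.Char.RelMcKay.GlCorr
import Mathlib

/-!
# Transport along homomorphisms that are injective on a subgroup
-/

open scoped ComplexConjugate commutatorElement
open Cfsg Module

set_option autoImplicit false
set_option linter.style.haveILetI false
set_option linter.unusedSectionVars false

attribute [local instance] Fintype.ofFinite

namespace Cfsg.Agent.Char.RelMcKay

universe u

variable {Γ : Type u} [Group Γ] [Finite Γ] {Δ : Type u} [Group Δ] [Finite Δ] (f : Γ →* Δ)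

/-- `f` is injective on `M`. -/
abbrev InjOnSub (M : Subgroup Γ) : Prop := ∀ z ∈ M, f z = 1 → z = 1

/-- A subgroup on which `f` is injective and its image. -/
noncomputable def pushEquiv {M : Subgroup Γ} (h : InjOnSub f M) : M ≃* M.map f :=
  MulEquiv.ofBijective (f.subgroupMap M) ⟨(injective_iff_map_eq_one _).2 fun z hz =>
    Subtype.ext (h z z.2 (congrArg Subtype.val hz)), f.subgroupMap_surjective M⟩

theorem coe_pushEquiv {M : Subgroup Γ} (h : InjOnSub f M) (m : M) :
    ((pushEquiv f h m : M.map f) : Δ) = f m := rfl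

/-- The character of the image. -/
noncomputable def pushI {M : Subgroup Γ} (h : InjOnSub f M) (ζ : IrrCharacter M) :
    IrrCharacter ↥(M.map f) :=
  ⟨fun w => (ζ : M → ℂ) ((pushEquiv f h).symm w), isIrrCharacter_comp_equiv _ ζ.2⟩

theorem pushI_apply {M : Subgroup Γ} (h : InjOnSub f M) (ζ : IrrCharacter M) (m : M) :
    (pushI f h ζ : M.map f → ℂ) (pushEquiv f h m) = (ζ : M → ℂ) m := by
  simp [pushI]

theorem map_mem_normalizer {M : Subgroup Γ} {x : Γ} (hx : x ∈ Subgroup.normalizer (M : Set Γ)) :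
    f x ∈ Subgroup.normalizer ((M.map f : Subgroup Δ) : Set Δ) :=
  Subgroup.le_normalizer_map f ⟨x, hx, rfl⟩

theorem pairF_push {M : Subgroup Γ} (h : InjOnSub f M) (ζ : IrrCharacter M) {x y : Γ}
    (hx : x ∈ Subgroup.normalizer (M : Set Γ)) (hy : y ∈ Subgroup.normalizer (M : Set Γ))
    (hxy : ⁅x, y⁆ ∈ M) :
    pairF (M.map f) (pushI f h ζ : M.map f → ℂ) (f x) (f y) = pairF M (ζ : M → ℂ) x y := by
  rw [pairF_hom f (pushEquiv f h) (fun m => (coe_pushEquiv f h m).symm) _ hx hy hxy]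
  simp only [pushI_apply]

theorem charStab_push {M : Subgroup Γ} (h : InjOnSub f M) (ζ : IrrCharacter M) {x : Γ}
    (hx : x ∈ charStab M (ζ : M → ℂ)) : f x ∈ charStab (M.map f) (pushI f h ζ : M.map f → ℂ) := by
  refine mem_charStab_iff.2 ⟨map_mem_normalizer f hx.1, fun w w' e => ?_⟩
  obtain ⟨m, rfl⟩ := (pushEquiv f h).surjective w
  have hm : x * (m : Γ) * x⁻¹ ∈ M := (conj_mem_iff hx.1 _).2 m.2
  rw [show w' = pushEquiv f h ⟨_, hm⟩ from Subtype.ext (by
    rw [e, coe_pushEquiv, coe_pushEquiv, map_mul, map_mul, map_inv]), pushI_apply, pushI_apply]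
  exact (mem_charStab_iff.1 hx).2 m ⟨_, hm⟩ rfl

theorem inn_push {C K : Subgroup Γ} (hCK : C ≤ K) (hK : InjOnSub f K) (hC : InjOnSub f C)
    (θ : IrrCharacter K) (φ : IrrCharacter C) :
    inn (C.map f) (extendByZero (K.map f) (pushI f hK θ : K.map f → ℂ)) (pushI f hC φ : C.map f → ℂ) =
      inn C (extendByZero K (θ : K → ℂ)) (φ : C → ℂ) := by
  simp only [inn, classInner, ← Nat.card_congr (pushEquiv f hC).toEquiv]
  congr 1
  refine (Fintype.sum_equiv (pushEquiv f hC).toEquiv _ _ fun c => ?_).symm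
  show _ = extendByZero (K.map f) _ ((pushEquiv f hC c : C.map f) : Δ) *
    conj ((pushI f hC φ : C.map f → ℂ) (pushEquiv f hC c))
  rw [pushI_apply, coe_pushEquiv, show f (c : Γ) = ((pushEquiv f hK ⟨c, hCK c.2⟩ : K.map f) : Δ) from rfl,
    extendByZero_mem _ _ (Subtype.prop _), pushI_apply, extendByZero_mem K _ (hCK c.2)]

theorem PNd.push {p : ℕ} {C K : Subgroup Γ} (hCK : C ≤ K) (hK : InjOnSub f K) (hC : InjOnSub f C)
    {θ : IrrCharacter K} {φ : IrrCharacter C}
    (h : PNd p C (extendByZero K (θ : K → ℂ)) (φ : C → ℂ)) :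
    PNd p (C.map f) (extendByZero (K.map f) (pushI f hK θ : K.map f → ℂ))
      (pushI f hC φ : C.map f → ℂ) := fun n hn =>
  h n ((inn_push f hCK hK hC θ φ).symm.trans hn)

end Cfsg.Agent.Char.RelMcKay
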