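import Cfsg.Agent.Lib.Char.RelMcKay.Step
import Cfsg.Agent.Lib.Char.RelMcKay.Push
import Cfsg.Agent.Lib.Char.RelMcKay.Generator
import Mathlib

/-!
# The pairing is preserved by the correspondence of Glauberman
-/

open scoped ComplexConjugate commutatorElement
open Cfsg Module

set_option autoImplicit false
set_option linter.style.haveILetI false
set_option linter.unusedSectionVars false

attribute [local instance] Fintype.ofFinite

namespace Cfsg.Agent.Char.RelMcKay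

universe u

variable {Γ : Type u} [Group Γ] [Finite Γ]

theorem subgroupOf_normalizer {M N : Subgroup Γ} {x : N}
    (hx : (x : Γ) ∈ Subgroup.normalizer (M : Set Γ)) :
    x ∈ Subgroup.normalizer ((M.subgroupOf N : Subgroup N) : Set N) := by
  rw [Subgroup.mem_set_normalizer_iff]
  intro z
  show (z : Γ) ∈ M ↔ ((x * z * x⁻¹ : N) : Γ) ∈ M
  simpa using (conj_mem_iff hx (z : Γ)).symm

theorem charStab_up {M N : Subgroup Γ} (hMN : M ≤ N) (ζ : IrrCharacter M) {x : N}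
    (hx : (x : Γ) ∈ charStab M (ζ : M → ℂ)) :
    x ∈ charStab (M.subgroupOf N) (upI hMN ζ : M.subgroupOf N → ℂ) := by
  refine mem_charStab_iff.2 ⟨subgroupOf_normalizer hx.1, fun m m' e => ?_⟩
  refine (mem_charStab_iff.1 hx).2 (Subgroup.subgroupOfEquivOfLe hMN m)
    (Subgroup.subgroupOfEquivOfLe hMN m') ?_
  simpa using congrArg (Subtype.val : N → Γ) e

theorem inn_up {C M N : Subgroup Γ} (hCM : C ≤ M) (hMN : M ≤ N) (ζ : IrrCharacter M)
    (φ : IrrCharacter C) :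
    inn (C.subgroupOf N) (extendByZero (M.subgroupOf N) (upI hMN ζ : M.subgroupOf N → ℂ))
      (upI (hCM.trans hMN) φ : C.subgroupOf N → ℂ) =
      inn C (extendByZero M (ζ : M → ℂ)) (φ : C → ℂ) := by
  rw [← inn_subgroupOf (hCM.trans hMN)]
  simp only [inn, upI]
  congr 1
  funext x
  rw [extendByZero_mem (M.subgroupOf N) _ (show (x : N) ∈ M.subgroupOf N from hCM x.2)]
  exact (extendByZero_mem M _ (show ((x : N) : Γ) ∈ M from hCM x.2)).symm

theorem pairF_up {M N : Subgroup Γ} (hMN : M ≤ N) (ζ : IrrCharacter M) {x y : N}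
    (hx : (x : Γ) ∈ Subgroup.normalizer (M : Set Γ)) (hy : (y : Γ) ∈ Subgroup.normalizer (M : Set Γ))
    (hxy : ⁅(x : Γ), (y : Γ)⁆ ∈ M) :
    pairF M (ζ : M → ℂ) (x : Γ) (y : Γ) =
      pairF (M.subgroupOf N) (upI hMN ζ : M.subgroupOf N → ℂ) x y :=
  pairF_hom N.subtype (Subgroup.subgroupOfEquivOfLe hMN) (fun _ => rfl) _
    (subgroupOf_normalizer hx) (subgroupOf_normalizer hy)
    (show ((⁅x, y⁆ : N) : Γ) ∈ M from hxy)

theorem inf_eq_bot_of_coprime {p : ℕ} (hp : p.Prime) {K S : Subgroup Γ} (hS : IsPGroup p S)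
    (hco : ¬ p ∣ Nat.card K) : K ⊓ S = ⊥ := by
  haveI := Fact.mk hp
  obtain ⟨a, ha⟩ := IsPGroup.iff_card.1 hS
  rw [← Subgroup.card_eq_one]
  have h1 : Nat.card ↥(K ⊓ S) ∣ Nat.card K := Subgroup.card_dvd_of_le inf_le_left
  have h2 : Nat.card ↥(K ⊓ S) ∣ p ^ a := ha ▸ Subgroup.card_dvd_of_le inf_le_right
  exact Nat.eq_one_of_dvd_coprimes ((hp.coprime_iff_not_dvd.2 hco).pow_left a) h2 h1

/-- The recursion: pass to the quotient of the normalizer of a central subgroup. -/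
theorem transfer_descend {p : ℕ} (hp : p.Prime) {K K1 S S1 W C : Subgroup Γ} (hK1 : K1 = fixC K S1) (hS : IsPGroup p S)
    (hC : C = fixC K S) (hS1 : S1 ≤ S) (hS1ne : S1 ≠ ⊥) (hS1c : S ≤ Subgroup.centralizer (S1 : Set Γ))
    (hKW : K ≤ W) (hW : ¬ p ∣ Nat.card W)
    (θ1 : IrrCharacter K1) (hθ1 : S ≤ charStab K1 (θ1 : K1 → ℂ))
    (φ : IrrCharacter C) (hφ : PNd p C (extendByZero K1 (θ1 : K1 → ℂ)) (φ : C → ℂ))
    {x y : Γ} (hxW : x ∈ W) (hyW : y ∈ W) (hxS : x ∈ Subgroup.normalizer (S : Set Γ))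
    (hyS : y ∈ Subgroup.normalizer (S : Set Γ)) (hxS1 : x ∈ Subgroup.normalizer (S1 : Set Γ))
    (hyS1 : y ∈ Subgroup.normalizer (S1 : Set Γ))
    (hxθ : x ∈ charStab K1 (θ1 : K1 → ℂ))
    (hyθ : y ∈ charStab K1 (θ1 : K1 → ℂ))
    (hxφ : x ∈ charStab C (φ : C → ℂ)) (hyφ : y ∈ charStab C (φ : C → ℂ)) (hxy : ⁅x, y⁆ ∈ C)
    (IH : ∀ {Δ : Type u} [Group Δ] [Finite Δ] (K' S' C' W' : Subgroup Δ), Nat.card S' < Nat.card S →
      IsPGroup p S' → C' = fixC K' S' → K' ≤ W' → ¬ p ∣ Nat.card W' →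
      ∀ θ' : IrrCharacter K', S' ≤ charStab K' (θ' : K' → ℂ) →
      ∀ φ' : IrrCharacter C', PNd p C' (extendByZero K' (θ' : K' → ℂ)) (φ' : C' → ℂ) →
      ∀ x' y' : Δ, x' ∈ W' → y' ∈ W' → x' ∈ Subgroup.normalizer (S' : Set Δ) →
        y' ∈ Subgroup.normalizer (S' : Set Δ) → x' ∈ charStab K' (θ' : K' → ℂ) →
        y' ∈ charStab K' (θ' : K' → ℂ) → x' ∈ charStab C' (φ' : C' → ℂ) →
        y' ∈ charStab C' (φ' : C' → ℂ) → ⁅x', y'⁆ ∈ C' →
        pairF K' (θ' : K' → ℂ) x' y' = pairF C' (φ' : C' → ℂ) x' y') :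
    pairF K1 (θ1 : K1 → ℂ) x y = pairF C (φ : C → ℂ) x y := by
  set N := Subgroup.normalizer (S1 : Set Γ) with hN
  have hcen : Subgroup.centralizer (S1 : Set Γ) ≤ N := Subgroup.centralizer_le_normalizer _
  have hSN : S ≤ N := hS1c.trans hcen
  have hK1N : K1 ≤ N := hK1 ▸ inf_le_right.trans hcen
  have hCK1 : C ≤ K1 := hK1 ▸ hC ▸ inf_le_inf_left K (Subgroup.centralizer_le hS1)
  have hCN : C ≤ N := hCK1.trans hK1N
  have hcoK : ¬ p ∣ Nat.card K := fun h => hW (h.trans (Subgroup.card_dvd_of_le hKW))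
  have hKS := inf_eq_bot_of_coprime hp hS hcoK
  haveI : (S1.subgroupOf N).Normal := Subgroup.normal_subgroupOf_of_le_normalizer le_rfl
  let q : N →* N ⧸ S1.subgroupOf N := QuotientGroup.mk' _
  have hq1 : ∀ z : N, q z = 1 ↔ (z : Γ) ∈ S1 := fun z => QuotientGroup.eq_one_iff z
  have hinjK : InjOnSub q (K1.subgroupOf N) := fun z hz h => Subtype.ext (by
    have : (z : Γ) ∈ K ⊓ S := ⟨(hK1.le (show (z : Γ) ∈ K1 from hz)).1, hS1 ((hq1 z).1 h)⟩
    rw [hKS] at this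
    exact this)
  have hinjC : InjOnSub q (C.subgroupOf N) := fun z hz h => hinjK z (hCK1 hz) h
  let θ2 := upI hK1N θ1
  let φ2 := upI hCN φ
  have hφ2 : PNd p (C.subgroupOf N) (extendByZero (K1.subgroupOf N) (θ2 : K1.subgroupOf N → ℂ))
      (φ2 : C.subgroupOf N → ℂ) := fun n hn => hφ n ((inn_up hCK1 hK1N θ1 φ).symm.trans hn)
  let θ3 := pushI q hinjK θ2
  let φ3 := pushI q hinjC φ2
  let S3 := (S.subgroupOf N).map q
  let W3 := ((W ⊓ N).subgroupOf N).map q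
  let xN : N := ⟨x, hxS1⟩
  let yN : N := ⟨y, hyS1⟩
  have hxyK1 : ⁅x, y⁆ ∈ K1 := hCK1 hxy
  have hcard : Nat.card S3 < Nat.card S := by
    rw [← Nat.card_congr (Subgroup.subgroupOfEquivOfLe hSN).toEquiv]
    refine lt_of_le_of_ne (Nat.le_of_dvd Nat.card_pos (Subgroup.card_map_dvd _ q)) fun he => ?_
    have hbij : Function.Bijective (q.subgroupMap (S.subgroupOf N)) :=
      (q.subgroupMap_surjective _).bijective_of_nat_card_le he.ge
    apply hS1ne
    rw [eq_bot_iff]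
    intro s hs
    have hsN : s ∈ N := hSN (hS1 hs)
    have : (⟨⟨s, hsN⟩, hS1 hs⟩ : S.subgroupOf N) = 1 := hbij.injective (by
      rw [map_one]
      exact Subtype.ext ((hq1 ⟨s, hsN⟩).2 hs))
    exact congrArg (fun z : S.subgroupOf N => ((z : N) : Γ)) this
  have hS3 : IsPGroup p S3 := (hS.comap_of_injective N.subtype N.subtype_injective).map q
  have hC3 : (C.subgroupOf N).map q = fixC ((K1.subgroupOf N).map q) S3 := by
    ext w
    constructor
    · rintro ⟨c, hc, rfl⟩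
      refine ⟨⟨c, hCK1 hc, rfl⟩, Subgroup.mem_centralizer_iff.2 ?_⟩
      rintro _ ⟨s, hs, rfl⟩
      rw [← map_mul, ← map_mul]
      congr 1
      exact Subtype.ext (Subgroup.mem_centralizer_iff.1 (hC.le hc).2 _ hs)
    · rintro ⟨⟨k, hk, rfl⟩, hw⟩
      refine ⟨k, ?_, rfl⟩
      show (k : Γ) ∈ C
      rw [hC]
      refine ⟨(hK1.le (show (k : Γ) ∈ K1 from hk)).1, Subgroup.mem_centralizer_iff.2 fun s hs => ?_⟩
      have h1 := Subgroup.mem_centralizer_iff.1 hw (q ⟨s, hSN hs⟩) ⟨⟨s, hSN hs⟩, hs, rfl⟩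
      have h2 : ⁅(⟨s, hSN hs⟩ : N), k⁆ ∈ S1.subgroupOf N := by
        refine (QuotientGroup.eq_one_iff _).1 ?_
        show q ⁅(⟨s, hSN hs⟩ : N), k⁆ = 1
        rw [map_commutatorElement, commutatorElement_eq_one_iff_mul_comm]
        exact h1
      have h4 : ⁅s, (k : Γ)⁆ ∈ K1 := by
        rw [commutatorElement_def]
        exact mul_mem ((conj_mem_iff (hθ1 hs).1 _).2 hk) (inv_mem hk)
      have h5 : ⁅s, (k : Γ)⁆ ∈ K ⊓ S := ⟨(hK1.le h4).1, hS1 (show ((⁅(⟨s, hSN hs⟩ : N), k⁆ : N) : Γ) ∈ S1 from h2)⟩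
      rw [hKS, Subgroup.mem_bot, commutatorElement_eq_one_iff_mul_comm] at h5
      exact h5
  have hKW3 : (K1.subgroupOf N).map q ≤ W3 :=
    Subgroup.map_mono fun z hz => ⟨hKW (hK1.le (show (z : Γ) ∈ K1 from hz)).1, z.2⟩
  have hWN : W ⊓ N ≤ N := inf_le_right
  have hW3 : ¬ p ∣ Nat.card W3 := fun h => hW (by
    refine (h.trans (Subgroup.card_map_dvd _ q)).trans ?_
    rw [Nat.card_congr (Subgroup.subgroupOfEquivOfLe hWN).toEquiv]
    exact Subgroup.card_dvd_of_le inf_le_left)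
  have hSθ3 : S3 ≤ charStab ((K1.subgroupOf N).map q) (θ3 : (K1.subgroupOf N).map q → ℂ) := by
    rintro _ ⟨s, hs, rfl⟩
    exact charStab_push q hinjK θ2 (charStab_up hK1N θ1 (hθ1 hs))
  have main := IH ((K1.subgroupOf N).map q) S3 ((C.subgroupOf N).map q) W3 hcard hS3 hC3 hKW3 hW3 θ3
    hSθ3 φ3 (hφ2.push q (fun z hz => hCK1 hz) hinjK hinjC) (q xN) (q yN) ⟨xN, ⟨hxW, hxS1⟩, rfl⟩
    ⟨yN, ⟨hyW, hyS1⟩, rfl⟩ (map_mem_normalizer q (subgroupOf_normalizer hxS))
    (map_mem_normalizer q (subgroupOf_normalizer hyS))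
    (charStab_push q hinjK θ2 (charStab_up hK1N θ1 hxθ))
    (charStab_push q hinjK θ2 (charStab_up hK1N θ1 hyθ))
    (charStab_push q hinjC φ2 (charStab_up hCN φ hxφ))
    (charStab_push q hinjC φ2 (charStab_up hCN φ hyφ))
    ⟨⁅xN, yN⁆, hxy, map_commutatorElement q xN yN⟩
  rw [pairF_push q hinjK θ2 (subgroupOf_normalizer hxθ.1) (subgroupOf_normalizer hyθ.1) hxyK1,
    pairF_push q hinjC φ2 (subgroupOf_normalizer hxφ.1) (subgroupOf_normalizer hyφ.1) hxy,
    ← pairF_up hK1N θ1 (x := xN) (y := yN) hxθ.1 hyθ.1 hxyK1,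
    ← pairF_up hCN φ (x := xN) (y := yN) hxφ.1 hyφ.1 hxy] at main
  exact main

set_option maxHeartbeats 600000 in
/-- The correspondence preserves the pairing. -/
theorem pair_transfer {p : ℕ} (hp : p.Prime) : ∀ (n : ℕ) {Γ : Type u} [Group Γ] [Finite Γ]
    (K S C W : Subgroup Γ), Nat.card S = n → IsPGroup p S → C = fixC K S → K ≤ W →
    ¬ p ∣ Nat.card W → ∀ θ : IrrCharacter K, S ≤ charStab K (θ : K → ℂ) →
    ∀ φ : IrrCharacter C, PNd p C (extendByZero K (θ : K → ℂ)) (φ : C → ℂ) →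
    ∀ x y : Γ, x ∈ W → y ∈ W → x ∈ Subgroup.normalizer (S : Set Γ) →
      y ∈ Subgroup.normalizer (S : Set Γ) → x ∈ charStab K (θ : K → ℂ) →
      y ∈ charStab K (θ : K → ℂ) → x ∈ charStab C (φ : C → ℂ) →
      y ∈ charStab C (φ : C → ℂ) → ⁅x, y⁆ ∈ C →
      pairF K (θ : K → ℂ) x y = pairF C (φ : C → ℂ) x y := by
  intro n
  induction n using Nat.strong_induction_on with
  | _ n ih =>
  intro Γ _ _ K S C W hn hS hC hKW hW θ hθ φ hφ x y hxW hyW hxS hyS hxθ hyθ hxφ hyφ hxy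
  haveI := Fact.mk hp
  by_cases hSbot : S = ⊥
  · subst hSbot
    obtain rfl : C = K := by
      rw [hC]
      refine le_antisymm inf_le_left (le_inf le_rfl fun z _ => Subgroup.mem_centralizer_iff.2 ?_)
      intro s hs
      rw [Subgroup.mem_bot.1 hs]
      simp
    have : θ = φ := by
      by_contra hne
      apply hφ.ne_zero
      rw [inn, show (fun m : C => extendByZero C (θ : C → ℂ) m) = (θ : C → ℂ) from
        funext fun m => extendByZero_mem C _ m.2, irr_orth θ.2 φ.2,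
        if_neg fun e => hne (Subtype.ext e)]
    rw [this]
  -- a central subgroup without proper invariant subgroups
  let Zc := S ⊓ Subgroup.centralizer (S : Set Γ)
  let P : Subgroup Γ → Prop := fun T => T ≤ Zc ∧ T ≠ ⊥ ∧
    x ∈ Subgroup.normalizer (T : Set Γ) ∧ y ∈ Subgroup.normalizer (T : Set Γ)
  have hZc : P Zc := by
    refine ⟨le_rfl, ?_, mem_normalizer_fixC hxS hxS, mem_normalizer_fixC hyS hyS⟩
    haveI : Nontrivial S := (Subgroup.nontrivial_iff_ne_bot S).2 hSbot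
    haveI := hS.center_nontrivial
    obtain ⟨z, hz⟩ := exists_ne (1 : Subgroup.center S)
    intro h0
    apply hz
    have hmem : ((z : S) : Γ) ∈ Zc := ⟨(z : S).2, Subgroup.mem_centralizer_iff.2 fun s hs =>
      congrArg Subtype.val (Subgroup.mem_center_iff.1 z.2 ⟨s, hs⟩)⟩
    rw [h0] at hmem
    exact Subtype.ext (Subtype.ext hmem)
  obtain ⟨S1, ⟨hS1Z, hS1ne, hxS1, hyS1⟩, hmin⟩ := exists_minimal_of_wellFoundedLT P ⟨Zc, hZc⟩
  have hS1 : S1 ≤ S := hS1Z.trans inf_le_left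
  have hS1c : S ≤ Subgroup.centralizer (S1 : Set Γ) := fun s hs =>
    Subgroup.mem_centralizer_iff.2 fun t ht => (Subgroup.mem_centralizer_iff.1 (hS1Z ht).2 s hs).symm
  have hC1 : C ≤ Subgroup.centralizer (S1 : Set Γ) :=
    hC ▸ inf_le_right.trans (Subgroup.centralizer_le hS1)
  have hCcomm : ∀ a b : Γ, ⁅a, b⁆ ∈ C → ⁅b, a⁆ ∈ C := fun a b h => by
    rw [← commutatorElement_inv a b]; exact inv_mem h
  -- the elements considered
  let G0 : Subgroup Γ := W ⊓ Subgroup.normalizer (S : Set Γ) ⊓ charStab K (θ : K → ℂ) ⊓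
    charStab C (φ : C → ℂ) ⊓ Subgroup.normalizer (S1 : Set Γ)
  have hG0 : ∀ {z}, z ∈ G0 ↔ z ∈ W ∧ z ∈ Subgroup.normalizer (S : Set Γ) ∧
      z ∈ charStab K (θ : K → ℂ) ∧ z ∈ charStab C (φ : C → ℂ) ∧
      z ∈ Subgroup.normalizer (S1 : Set Γ) := fun {z} => by
    simp only [G0, Subgroup.mem_inf, and_assoc]
  have step : ∀ a b, a ∈ G0 → b ∈ G0 → ⁅a, b⁆ ∈ C → b ∈ Subgroup.centralizer (S1 : Set Γ) →
      pairF K (θ : K → ℂ) a b = pairF C (φ : C → ℂ) a b := by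
    intro a b ha hb hab hbc
    obtain ⟨haW, haS, haθ, haφ, haS1⟩ := hG0.1 ha
    obtain ⟨hbW, hbS, hbθ, hbφ, hbS1⟩ := hG0.1 hb
    obtain ⟨θ1, hθ1, haθ1, hbθ1, hφ1, he⟩ := transfer_step hp hS (hθ.trans (charStab_le _ _)) hC hS1
      hS1c hKW hW θ hθ φ hφ hbW haS1 hbc haθ hbθ hab
    rw [he]
    refine transfer_descend hp rfl hS hC hS1 hS1ne hS1c hKW hW θ1 hθ1 φ hφ1 haW hbW haS hbS haS1 hbS1
      haθ1 hbθ1 haφ hbφ hab ?_
    intro Δ _ _ K' S' C' W' hlt h1 h2 h3 h4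
    exact ih _ (hn ▸ hlt) K' S' C' W' rfl h1 h2 h3 h4
  -- automorphisms of `S1`
  letI : CommGroup S1 :=
    { (inferInstance : Group S1) with
      mul_comm := fun a b => Subtype.ext
        (Subgroup.mem_centralizer_iff.1 (hS1c (hS1 b.2)) a a.2) }
  haveI : Nontrivial S1 := (Subgroup.nontrivial_iff_ne_bot S1).2 hS1ne
  let α : MulAut S1 := normAut S1 x hxS1
  let β : MulAut S1 := normAut S1 y hyS1
  have hαβ : α * β = β * α := by
    refine MulEquiv.ext fun s => Subtype.ext ?_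
    show x * (y * s * y⁻¹) * x⁻¹ = y * (x * s * x⁻¹) * y⁻¹
    have hs' : y * x * s * (y * x)⁻¹ ∈ S1 := (conj_mem_iff (mul_mem hyS1 hxS1) _).2 s.2
    have h := Subgroup.mem_centralizer_iff.1 (hC1 hxy) _ hs'
    calc x * (y * (s : Γ) * y⁻¹) * x⁻¹
        = ⁅x, y⁆ * (y * x * (s : Γ) * (y * x)⁻¹) * ⁅x, y⁆⁻¹ := by rw [commutatorElement_def]; group
      _ = _ := by rw [← h, mul_inv_cancel_right]; group
  obtain ⟨ζ, i, j, hi, hj⟩ := exists_common_generator α β hαβ fun T hTα hTβ => by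
    by_cases hT : T = ⊥
    · exact Or.inl hT
    refine Or.inr ?_
    have hle : T.map S1.subtype ≤ S1 := Subgroup.map_subtype_le T
    have hnorm : ∀ (g : Γ) (hg : g ∈ Subgroup.normalizer (S1 : Set Γ)),
        (∀ t ∈ T, normAut S1 g hg t ∈ T) →
        g ∈ Subgroup.normalizer ((T.map S1.subtype : Subgroup Γ) : Set Γ) := by
      intro g hg hgT
      have hmap : (T.map S1.subtype).map (MulAut.conj g).toMonoidHom ≤ T.map S1.subtype := by
        rintro _ ⟨_, ⟨t, ht, rfl⟩, rfl⟩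
        exact ⟨normAut S1 g hg t, hgT t ht, rfl⟩
      have heq := Subgroup.eq_of_le_of_card_ge hmap
        (le_of_eq (Subgroup.card_map_of_injective (MulAut.conj g).injective).symm)
      rw [Subgroup.mem_set_normalizer_iff]
      intro h
      constructor
      · exact fun hh => heq ▸ ⟨h, hh, rfl⟩
      · intro hh
        rw [← heq] at hh
        obtain ⟨k, hk, e⟩ := hh
        rwa [← (MulAut.conj g).injective e]
    have hP : P (T.map S1.subtype) := ⟨hle.trans hS1Z, fun h0 => hT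
      ((Subgroup.map_eq_bot_iff_of_injective _ S1.subtype_injective).1 h0),
      hnorm x hxS1 hTα, hnorm y hyS1 hTβ⟩
    refine eq_top_iff.2 fun t _ => ?_
    obtain ⟨t', ht', e⟩ := hmin hP hle t.2
    exact (Subtype.ext e : t' = t) ▸ ht'
  let Acts : Γ → MulAut S1 → Prop := fun z a => ∀ s : S1, z * s * z⁻¹ = (a s : Γ)
  have hcent : ∀ z, Acts z 1 → z ∈ Subgroup.centralizer (S1 : Set Γ) := fun z hz =>
    Subgroup.mem_centralizer_iff.2 fun s hs => (mul_inv_eq_iff_eq_mul.1 (hz ⟨s, hs⟩)).symm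
  have key : ∀ m k : ℕ, ∀ a b, a ∈ G0 → b ∈ G0 → ⁅a, b⁆ ∈ C → Acts a (ζ ^ m) → Acts b (ζ ^ k) →
      pairF K (θ : K → ℂ) a b = pairF C (φ : C → ℂ) a b := by
    intro m k
    induction m, k using Nat.gcd.induction with
    | H0 k =>
      intro a b ha hb hab hA hB
      rw [pow_zero] at hA
      rw [pairF_symm (irr_isCharacter θ.2) b a, pairF_symm (irr_isCharacter φ.2) b a,
        step b a hb ha (hCcomm a b hab) (hcent a hA)]
    | H1 m k hm IH =>
      intro a b ha hb hab hA hB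
      let b' := b * a ^ (-((k / m : ℕ) : ℤ))
      have hb' : b' ∈ G0 := mul_mem hb (zpow_mem ha _)
      have hb'a : ⁅b', a⁆ = ⁅b, a⁆ := by
        simp only [b', commutatorElement_def]; group
      have hB' : Acts b' (ζ ^ (k % m)) := fun s => by
        have hA' : ∀ t : ℕ, Acts (a ^ t) ((ζ ^ m) ^ t) := by
          intro t
          induction t with
          | zero => intro s; simp
          | succ t iht =>
            intro s
            rw [pow_succ, pow_succ, MulAut.mul_apply, ← iht, ← hA]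
            group
        have e : ζ ^ k = ζ ^ (k % m) * (ζ ^ m) ^ (k / m) := by
          rw [← pow_mul, ← pow_add, Nat.mod_add_div]
        set s' := ((ζ ^ m) ^ (k / m))⁻¹ s with hs'
        have e1 : ((ζ ^ m) ^ (k / m)) s' = s := by rw [hs', MulAut.apply_inv_self]
        have e2 := hB s'
        rw [e, MulAut.mul_apply, e1] at e2
        rw [← e2]
        conv_lhs => rw [← e1, ← hA' (k / m) s']
        simp only [b', zpow_neg, zpow_natCast]
        group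
      have h := IH b' a hb' ha (hb'a ▸ hCcomm a b hab) hB' hA
      have hbW := (hG0.1 hb).2.2
      have haW := (hG0.1 ha).2.2
      rw [pairF_mul_zpow θ.2 hbW.1.1 haW.1.1, pairF_mul_zpow φ.2 hbW.2.1.1 haW.2.1.1] at h
      rw [pairF_symm (irr_isCharacter θ.2) b a, pairF_symm (irr_isCharacter φ.2) b a, h]
  exact key i j x y (hG0.2 ⟨hxW, hxS, hxθ, hxφ, hxS1⟩) (hG0.2 ⟨hyW, hyS, hyθ, hyφ, hyS1⟩) hxy
    (fun s => by rw [← hi]; rfl) (fun s => by rw [← hj]; rfl)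

end Cfsg.Agent.Char.RelMcKay
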