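import Cfsg.Agent.Lib.Char.RelMcKay.Semi
import Cfsg.Agent.Lib.Char.RelMcKay.Count
import Cfsg.Agent.Lib.Char.RelMcKay.Transfer
import Mathlib

/-!
# Characters of `p'`-degree over a central character, with a central-by-`p'` subgroup and a
normal product with a Sylow subgroup
-/

open scoped ComplexConjugate commutatorElement
open Cfsg Module

set_option autoImplicit false
set_option linter.style.haveILetI false
set_option linter.unusedSectionVars false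

attribute [local instance] Fintype.ofFinite

namespace Cfsg.Agent.Char.RelMcKay

universe u

variable {Γ : Type u} [Group Γ] [Finite Γ]

/-- The values of `ζ` on `Z ∩ M` are given by `μ`. -/
def Cen {Z : Subgroup Γ} (μ : Z →* ℂˣ) (M : Subgroup Γ) (ζ : M → ℂ) : Prop :=
  ∀ z : Z, (z : Γ) ∈ M → extendByZero M ζ (z : Γ) = ζ 1 * (μ z : ℂ)

/-- The characters of `p'`-degree over a central character. -/
noncomputable def cmu (p : ℕ) {Z : Subgroup Γ} (μ : Z →* ℂˣ) (H : Subgroup Γ) : ℕ :=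
  Nat.card {χ : IrrCharacter H // ¬ p ∣ deg (χ : H → ℂ) ∧ Cen μ H (χ : H → ℂ)}

/-- A character and its constituent have the same central character. -/
theorem cen_ratio_eq {M H : Subgroup Γ} (hMH : M ≤ H) (χ : IrrCharacter H) (ζ : IrrCharacter M)
    (h : inn M (extendByZero H (χ : H → ℂ)) (ζ : M → ℂ) ≠ 0) {z : Γ} (hzM : z ∈ M)
    (hz : ∀ a ∈ H, z * a = a * z) :
    extendByZero H (χ : H → ℂ) z * (ζ : M → ℂ) 1 =
      extendByZero M (ζ : M → ℂ) z * (χ : H → ℂ) 1 := by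
  obtain ⟨w, hw, -, -⟩ := central_scalar χ.2 (z := ⟨z, hMH hzM⟩) fun a => Subtype.ext (hz a a.2)
  choose v hv _ _ using fun ψ : IrrCharacter M =>
    central_scalar ψ.2 (z := ⟨z, hzM⟩) fun a => Subtype.ext (hz a (hMH a.2))
  have e : ∀ m : M, w * extendByZero H (χ : H → ℂ) m =
      ∑ ψ : IrrCharacter M, v ψ * inn M (extendByZero H (χ : H → ℂ)) (ψ : M → ℂ) * (ψ : M → ℂ) m := by
    intro m
    have h1 := res_expansion hMH (irr_isCharacter χ.2) (⟨z, hzM⟩ * m)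
    rw [extendByZero_mem H _ (hMH (⟨z, hzM⟩ * m : M).2)] at h1
    rw [extendByZero_mem H _ (hMH m.2), ← hw]
    refine Eq.trans h1 (Finset.sum_congr rfl fun ψ _ => ?_)
    rw [hv]
    ring
  have hwv : w = v ζ := by
    have h2 : classInner (w • fun m : M => extendByZero H (χ : H → ℂ) m) (ζ : M → ℂ) =
        classInner (∑ ψ : IrrCharacter M,
          (v ψ * inn M (extendByZero H (χ : H → ℂ)) (ψ : M → ℂ)) • (ψ : M → ℂ)) (ζ : M → ℂ) := by
      congr 1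
      funext m
      simpa [Finset.sum_apply] using e m
    rw [classInner_smul_left, classInner_sum_left,
      Finset.sum_eq_single ζ (fun ψ _ hψ => by
        rw [classInner_smul_left, irr_orth ψ.2 ζ.2, if_neg fun e' => hψ (Subtype.ext e'), mul_zero])
        (by simp), classInner_smul_left, irr_self ζ.2, mul_one] at h2
    exact mul_right_cancel₀ h h2
  have a1 := hw 1
  have a2 := hv ζ 1
  rw [mul_one] at a1 a2
  rw [extendByZero_mem H _ (hMH hzM), extendByZero_mem M _ hzM, a1, a2, hwv]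
  ring

theorem cen_iff_of_constituent {Z M H : Subgroup Γ} (hcen : Z ≤ Subgroup.center Γ) (μ : Z →* ℂˣ)
    (hMH : M ≤ H) (χ : IrrCharacter H) (ζ : IrrCharacter M)
    (h : inn M (extendByZero H (χ : H → ℂ)) (ζ : M → ℂ) ≠ 0)
    (hZ : ∀ z ∈ Z, z ∈ H → z ∈ M) : Cen μ H (χ : H → ℂ) ↔ Cen μ M (ζ : M → ℂ) := by
  have hr : ∀ z : Z, (z : Γ) ∈ M → extendByZero H (χ : H → ℂ) (z : Γ) * (ζ : M → ℂ) 1 =
      extendByZero M (ζ : M → ℂ) (z : Γ) * (χ : H → ℂ) 1 := fun z hz =>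
    cen_ratio_eq hMH χ ζ h hz fun a _ => (Subgroup.mem_center_iff.1 (hcen z.2) a).symm
  constructor
  · intro hχ z hz
    have e := hr z hz
    rw [hχ z (hMH hz)] at e
    refine mul_right_cancel₀ (irr_one_ne_zero χ.2) ?_
    linear_combination -e
  · intro hζ z hz
    have hzM := hZ z z.2 hz
    have e := hr z hzM
    rw [hζ z hzM] at e
    refine mul_right_cancel₀ (irr_one_ne_zero ζ.2) ?_
    linear_combination e

open scoped Classical in
/-- The summand. -/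
noncomputable def term {K S : Subgroup Γ} (C : Subgroup Γ) (θ : K → ℂ) (l : S →* ℂˣ) (u v : Γ) : ℂ :=
  if (u ∈ charStab K θ ∧ IsSemi.FixLin u l) ∧ (v ∈ charStab K θ ∧ IsSemi.FixLin v l) ∧ ⁅u, v⁆ ∈ C
  then pairF K θ u v else 0

open scoped Classical in
/-- Linear characters of `S` agreeing with `μ`. -/
noncomputable def linSet {Z : Subgroup Γ} (μ : Z →* ℂˣ) (S : Subgroup Γ) : Finset (S →* ℂˣ) :=
  Finset.univ.filter fun l => ∀ (z : Z) (s : S), (z : Γ) = s → l s = μ z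

open scoped Classical in
/-- Invariant characters with the given central values. -/
noncomputable def fixSet {Z : Subgroup Γ} (μ : Z →* ℂˣ) (K S : Subgroup Γ) :
    Finset {θ : IrrCharacter K // S ≤ charStab K (θ : K → ℂ)} :=
  Finset.univ.filter fun θ => Cen μ K (θ.1 : K → ℂ)

theorem mem_fixSet {Z : Subgroup Γ} {μ : Z →* ℂˣ} {K S : Subgroup Γ}
    {θ : {θ : IrrCharacter K // S ≤ charStab K (θ : K → ℂ)}} :
    θ ∈ fixSet μ K S ↔ Cen μ K (θ.1 : K → ℂ) := by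
  simp [fixSet]

theorem cen_Phi_iff {p : ℕ} {K S M Z : Subgroup Γ} (hs : IsSemi p K S M)
    (hcen : Z ≤ Subgroup.center Γ) (hZM : Z ≤ M)
    (hsplit : ∀ z ∈ Z, ∃ z₁ ∈ Z ⊓ K, ∃ z₂ ∈ Z ⊓ S, z₁ * z₂ = z) (μ : Z →* ℂˣ)
    (θ : {θ : IrrCharacter K // S ≤ charStab K (θ : K → ℂ)}) (l : S →* ℂˣ) :
    Cen μ M (hs.Phi θ l : M → ℂ) ↔ θ ∈ fixSet μ K S ∧ l ∈ linSet μ S := by
  have h := hs.Phi_central_iff hZM hcen hsplit μ θ l
  have e1 : Cen μ M (hs.Phi θ l : M → ℂ) ↔ ∀ z : Z, (hs.Phi θ l : M → ℂ) (Subgroup.inclusion hZM z) =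
      (hs.Phi θ l : M → ℂ) 1 * (μ z : ℂ) := by
    constructor
    · intro hc z
      rw [← hc z (hZM z.2), extendByZero_mem M _ (hZM z.2)]
      rfl
    · intro hc z hz
      rw [extendByZero_mem M _ hz]
      exact hc z
  have e2 : (∀ (z : Z) (k : K), (z : Γ) = k → (θ.1 : K → ℂ) k = (θ.1 : K → ℂ) 1 * (μ z : ℂ)) ↔
      θ ∈ fixSet μ K S := by
    rw [mem_fixSet]
    constructor
    · intro hc z hz
      rw [extendByZero_mem K _ hz]
      exact hc z ⟨z, hz⟩ rfl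
    · intro hc z k e
      rw [← hc z (e ▸ k.2), ← extendByZero_mem K (θ.1 : K → ℂ) k.2, e]
  rw [e1, h, e2]
  simp [linSet]

set_option maxHeartbeats 600000 in
/-- One side of the comparison. -/
theorem side_count {p : ℕ} {K S M H U C Z : Subgroup Γ} (hs : IsSemi p K S M)
    (hcen : Z ≤ Subgroup.center Γ) (μ : Z →* ℂˣ) (hMH : M ≤ H)
    (hn : H ≤ Subgroup.normalizer (M : Set Γ)) (hidx : ¬ p ∣ M.relIndex H) (hZM : Z ≤ M)
    (hsplit : ∀ z ∈ Z, ∃ z₁ ∈ Z ⊓ K, ∃ z₂ ∈ Z ⊓ S, z₁ * z₂ = z) (hUH : U ≤ H)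
    (hUK : U ≤ Subgroup.normalizer (K : Set Γ)) (hUS : U ≤ Subgroup.normalizer (S : Set Γ))
    (hgen : ∀ h ∈ H, ∃ m ∈ M, ∃ u ∈ U, m * u = h) (hMU : M ⊓ U = C) (hCK : C ≤ K) :
    (Nat.card U : ℂ) * (Nat.card C : ℂ) * (cmu p μ H : ℂ) =
      ∑ θ ∈ fixSet μ K S, ∑ l ∈ linSet μ S, ∑ u : U, ∑ v : U,
        term C (θ.1 : K → ℂ) l (u : Γ) (v : Γ) := by
  haveI : DecidableEq (IrrCharacter M) := Classical.decEq _
  let X : Finset (IrrCharacter M) := (fixSet μ K S ×ˢ linSet μ S).image fun q => hs.Phi q.1 q.2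
  have hX : ∀ ζ : IrrCharacter M, ζ ∈ X ↔ ¬ p ∣ deg (ζ : M → ℂ) ∧ Cen μ M (ζ : M → ℂ) := by
    intro ζ
    simp only [X, Finset.mem_image, Finset.mem_product, Prod.exists]
    constructor
    · rintro ⟨θ, l, hθl, rfl⟩
      exact ⟨by rw [hs.deg_Phi]; exact hs.not_dvd_deg θ.1, (cen_Phi_iff hs hcen hZM hsplit μ θ l).2 hθl⟩
    · rintro ⟨hd, hc⟩
      obtain ⟨θ, l, rfl⟩ := hs.exists_Phi_eq ζ hd
      exact ⟨θ, l, (cen_Phi_iff hs hcen hZM hsplit μ θ l).1 hc, rfl⟩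
  have hstable : ∀ g, ∀ hg : g ∈ H, ∀ ζ ∈ X, conjI M g (hn hg) ζ ∈ X := by
    intro g hg ζ hζ
    rw [hX] at hζ ⊢
    refine ⟨by rw [deg_conjI]; exact hζ.1, fun z hz => ?_⟩
    rw [ext_conjI, show g * (z : Γ) * g⁻¹ = z by
      rw [Subgroup.mem_center_iff.1 (hcen z.2) g, mul_inv_cancel_right], hζ.2 z hz, conjI_apply, map_one]
  have h := count_pairs_supplement hMH hUH hn hgen X hstable
  rw [hMU] at h
  have hset : Nat.card {χ : IrrCharacter H //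
      ∃ ζ ∈ X, inn M (extendByZero H (χ : H → ℂ)) (ζ : M → ℂ) ≠ 0} = cmu p μ H := by
    refine Nat.card_congr (Equiv.subtypeEquivRight fun χ => ?_)
    have key : ∀ ζ : IrrCharacter M, inn M (extendByZero H (χ : H → ℂ)) (ζ : M → ℂ) ≠ 0 →
        (ζ ∈ X ↔ ¬ p ∣ deg (χ : H → ℂ) ∧ Cen μ H (χ : H → ℂ)) := fun ζ hne => by
      rw [hX, not_dvd_deg_iff hMH hn hs.prime χ hidx hne,
        cen_iff_of_constituent hcen μ hMH χ ζ hne fun z hz _ => hZM hz]
    constructor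
    · rintro ⟨ζ, hζ, hne⟩
      exact (key ζ hne).1 hζ
    · intro hχ
      obtain ⟨ζ, hne⟩ := exists_constituent hMH χ.2
      exact ⟨ζ, (key ζ hne).2 hχ, hne⟩
  rw [hset] at h
  rw [h, Finset.sum_image fun a _ b _ hab => Prod.ext (hs.Phi_injective hab).1 (hs.Phi_injective hab).2,
    Finset.sum_product]
  refine Finset.sum_congr rfl fun θ _ => Finset.sum_congr rfl fun l _ =>
    Finset.sum_congr rfl fun u _ => Finset.sum_congr rfl fun v _ => ?_
  have huK := hUK u.2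
  have huS := hUS u.2
  have hvK := hUK v.2
  have hvS := hUS v.2
  have huM := hn (hUH u.2)
  have hvM := hn (hUH v.2)
  rw [term]
  split_ifs with hc
  · exact hs.pairF_Phi θ l huK huS hvK hvS hc.1 hc.2.1 (hCK hc.2.2)
  · by_cases hu : (u : Γ) ∈ charStab M (hs.Phi θ l : M → ℂ)
    swap
    · exact pairF_eq_zero_of_not_fix_left (hs.Phi θ l).2 huM hvM hu
    by_cases hv : (v : Γ) ∈ charStab M (hs.Phi θ l : M → ℂ)
    swap
    · exact pairF_eq_zero_of_not_fix_right (hs.Phi θ l).2 huM hvM hv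
    refine pairF_eq_zero_of_not_mem _ huM hvM fun hm => hc
      ⟨(hs.mem_charStab_Phi_iff θ l huK huS).1 hu, (hs.mem_charStab_Phi_iff θ l hvK hvS).1 hv, ?_⟩
    rw [← hMU]
    exact ⟨hm, (⁅u, v⁆ : U).2⟩

/-- The two sums agree along the correspondence. -/
theorem sum_term_eq {p : ℕ} {K S C U W Z : Subgroup Γ} (hp : p.Prime) (hS : IsPGroup p S)
    (hSK : S ≤ Subgroup.normalizer (K : Set Γ)) (hC : C = fixC K S) (hKW : K ≤ W) (hUW : U ≤ W)
    (hW : ¬ p ∣ Nat.card W) (hcen : Z ≤ Subgroup.center Γ) (μ : Z →* ℂˣ)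
    (hUK : U ≤ Subgroup.normalizer (K : Set Γ)) (hUS : U ≤ Subgroup.normalizer (S : Set Γ)) :
    ∑ θ ∈ fixSet μ K S, ∑ l ∈ linSet μ S, ∑ u : U, ∑ v : U, term C (θ.1 : K → ℂ) l (u : Γ) (v : Γ) =
      ∑ φ ∈ fixSet μ C S, ∑ l ∈ linSet μ S, ∑ u : U, ∑ v : U,
        term C (φ.1 : C → ℂ) l (u : Γ) (v : Γ) := by
  subst hC
  have hcoK : ¬ p ∣ Nat.card K := fun h => hW (h.trans (Subgroup.card_dvd_of_le hKW))
  have hSC : ∀ φ : IrrCharacter ↥(fixC K S), S ≤ charStab (fixC K S) (φ : fixC K S → ℂ) := by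
    intro φ s hs
    refine mem_charStab_iff.2 ⟨mem_normalizer_fixC (hSK hs) (Subgroup.le_normalizer hs), fun m m' e => ?_⟩
    rw [show m' = m from Subtype.ext (by
      rw [e, Subgroup.mem_centralizer_iff.1 m.2.2 s hs, mul_inv_cancel_right])]
  choose f hf using fun θ : {θ : IrrCharacter K // S ≤ charStab K (θ : K → ℂ)} =>
    exists_right hp hS hSK hcoK θ.1 θ.2
  have hcenf : ∀ θ, Cen μ K (θ.1 : K → ℂ) ↔ Cen μ (fixC K S) (f θ : fixC K S → ℂ) := fun θ =>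
    cen_iff_of_constituent hcen μ inf_le_left θ.1 (f θ) (hf θ).ne_zero fun z hz hzK =>
      ⟨hzK, Subgroup.mem_centralizer_iff.2 fun s _ => Subgroup.mem_center_iff.1 (hcen hz) s⟩
  have hstab : ∀ θ, ∀ v ∈ U, v ∈ charStab K (θ.1 : K → ℂ) ↔
      v ∈ charStab (fixC K S) (f θ : fixC K S → ℂ) := by
    intro θ v hv
    have hvC := mem_normalizer_fixC (hUK hv) (hUS hv)
    have hθ' : S ≤ charStab K (conjI K v (hUK hv) θ.1 : K → ℂ) := fun s hs => by
      refine ⟨hSK hs, fun z => ?_⟩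
      rw [ext_conjI, ext_conjI, show v * (s * z * s⁻¹) * v⁻¹ =
        (v * s * v⁻¹) * (v * z * v⁻¹) * (v * s * v⁻¹)⁻¹ by group]
      exact (θ.2 ((conj_mem_iff (hUS hv) s).2 hs)).2 _
    have hP : PNd p (fixC K S) (extendByZero K (conjI K v (hUK hv) θ.1 : K → ℂ))
        (conjI (fixC K S) v hvC (f θ) : fixC K S → ℂ) := by
      rw [show extendByZero K (conjI K v (hUK hv) θ.1 : K → ℂ) =
        fun z => extendByZero K (θ.1 : K → ℂ) (v * z * v⁻¹) from funext (ext_conjI K (hUK hv) θ.1)]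
      exact (hf θ).conj hvC
    rw [mem_charStab_iff_conjI (hUK hv), mem_charStab_iff_conjI hvC]
    constructor
    · intro e
      rw [e] at hP
      exact unique_right hp hS hSK hcoK θ.2 hP (hf θ)
    · intro e
      rw [e] at hP
      exact unique_left hp hS hSK hcoK hθ' θ.2 hP (hf θ)
  refine Finset.sum_bij (fun θ _ => ⟨f θ, hSC _⟩) (fun θ hθ => mem_fixSet.2 ((hcenf θ).1 (mem_fixSet.1 hθ)))
    (fun a _ b _ hab => Subtype.ext (unique_left hp hS hSK hcoK a.2 b.2 (hf a) ?_)) (fun φ hφ => ?_)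
    fun θ _ => ?_
  · rw [show f a = f b from congrArg Subtype.val hab]
    exact hf b
  · obtain ⟨θ, hθ, hθφ⟩ := exists_left hp hS hSK hcoK φ.1
    have e : f ⟨θ, hθ⟩ = φ.1 :=
      unique_right hp hS hSK hcoK (θ := θ) hθ (hf ⟨θ, hθ⟩) hθφ
    exact ⟨⟨θ, hθ⟩, mem_fixSet.2 ((hcenf _).2 (e ▸ mem_fixSet.1 hφ)), Subtype.ext e⟩
  · refine Finset.sum_congr rfl fun l _ => Finset.sum_congr rfl fun u _ =>
      Finset.sum_congr rfl fun v _ => ?_
    have hu := hstab θ u u.2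
    have hv := hstab θ v v.2
    by_cases hc : (((u : Γ) ∈ charStab K (θ.1 : K → ℂ) ∧ IsSemi.FixLin (u : Γ) l) ∧
        ((v : Γ) ∈ charStab K (θ.1 : K → ℂ) ∧ IsSemi.FixLin (v : Γ) l) ∧
        ⁅(u : Γ), (v : Γ)⁆ ∈ fixC K S)
    · have hc' : (((u : Γ) ∈ charStab (fixC K S) (f θ : fixC K S → ℂ) ∧ IsSemi.FixLin (u : Γ) l) ∧
          ((v : Γ) ∈ charStab (fixC K S) (f θ : fixC K S → ℂ) ∧ IsSemi.FixLin (v : Γ) l) ∧
          ⁅(u : Γ), (v : Γ)⁆ ∈ fixC K S) := ⟨⟨hu.1 hc.1.1, hc.1.2⟩, ⟨hv.1 hc.2.1.1, hc.2.1.2⟩, hc.2.2⟩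
      rw [term, term, if_pos hc, if_pos hc']
      exact pair_transfer hp _ K S (fixC K S) W rfl hS rfl hKW hW θ.1 θ.2 (f θ) (hf θ) u v (hUW u.2)
        (hUW v.2) (hUS u.2) (hUS v.2) hc.1.1 hc.2.1.1 hc'.1.1 hc'.2.1.1 hc.2.2
    · rw [term, term, if_neg hc, if_neg]
      exact fun hc' => hc ⟨⟨hu.2 hc'.1.1, hc'.1.2⟩, ⟨hv.2 hc'.2.1.1, hc'.2.1.2⟩, hc'.2.2⟩

end Cfsg.Agent.Char.RelMcKay
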