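import Cfsg.Agent.Lib.Char.RelMcKay.Central
import Mathlib

/-!
# The count for a central-by-`p'` subgroup with a normal product with a Sylow subgroup
-/

open scoped ComplexConjugate commutatorElement
open Cfsg Module

set_option autoImplicit false
set_option linter.style.haveILetI false
set_option linter.unusedSectionVars false

attribute [local instance] Fintype.ofFinite

namespace Cfsg.Agent.Char.RelMcKay

universe u

variable {Γ : Type u} [Group Γ] [Finite Γ]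

theorem not_dvd_card_sup {p : ℕ} (hp : p.Prime) {C U : Subgroup Γ}
    (hU : U ≤ Subgroup.normalizer (C : Set Γ)) (hC : ¬ p ∣ Nat.card C) (hU' : ¬ p ∣ Nat.card U) :
    ¬ p ∣ Nat.card ↥(C ⊔ U) := by
  haveI : (C.subgroupOf (C ⊔ U)).Normal :=
    Subgroup.normal_subgroupOf_of_le_normalizer (sup_le Subgroup.le_normalizer hU)
  let φ : U →* ↥(C ⊔ U) ⧸ C.subgroupOf (C ⊔ U) :=
    (QuotientGroup.mk' _).comp (Subgroup.inclusion le_sup_right)
  have hsurj : Function.Surjective φ := fun w => by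
    obtain ⟨⟨z, hz⟩, rfl⟩ := QuotientGroup.mk_surjective w
    obtain ⟨c, hc, u, hu, rfl⟩ := (mem_sup_iff hU).1 hz
    refine ⟨⟨u, hu⟩, ?_⟩
    show QuotientGroup.mk _ = _
    rw [QuotientGroup.eq]
    show (u⁻¹ : Γ) * (c * u) ∈ C
    have := (conj_mem_iff (inv_mem (hU hu)) c).2 hc
    rwa [inv_inv, mul_assoc] at this
  intro h
  rw [Subgroup.card_eq_card_quotient_mul_card_subgroup (C.subgroupOf (C ⊔ U)),
    Nat.card_congr (Subgroup.subgroupOfEquivOfLe le_sup_left).toEquiv] at h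
  exact (hp.dvd_mul.1 h).elim (fun h' => hU' (h'.trans (Subgroup.card_dvd_of_surjective φ hsurj))) hC

theorem sylow_relIndex_dvd {K S : Subgroup Γ} [K.Normal] :
    (K ⊓ S).relIndex K ∣ S.index := by
  have h1 : K.relIndex (S ⊔ K) = K.relIndex S := Subgroup.relIndex_sup_right S K
  have hK : Nat.card K * K.relIndex (S ⊔ K) = Nat.card ↥(S ⊔ K) := by
    have := Subgroup.relIndex_mul_relIndex ⊥ K (S ⊔ K) bot_le le_sup_right
    rwa [Subgroup.relIndex_bot_left, Subgroup.relIndex_bot_left] at this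
  have hS : Nat.card S * S.relIndex (S ⊔ K) = Nat.card ↥(S ⊔ K) := by
    have := Subgroup.relIndex_mul_relIndex ⊥ S (S ⊔ K) bot_le le_sup_left
    rwa [Subgroup.relIndex_bot_left, Subgroup.relIndex_bot_left] at this
  have hb : Nat.card ↥(K ⊓ S) * (K ⊓ S).relIndex K = Nat.card K := by
    have := Subgroup.relIndex_mul_relIndex ⊥ (K ⊓ S) K bot_le inf_le_left
    rwa [Subgroup.relIndex_bot_left, Subgroup.relIndex_bot_left] at this
  have hc : Nat.card ↥(K ⊓ S) * (K ⊓ S).relIndex S = Nat.card S := by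
    have := Subgroup.relIndex_mul_relIndex ⊥ (K ⊓ S) S bot_le inf_le_right
    rwa [Subgroup.relIndex_bot_left, Subgroup.relIndex_bot_left] at this
  have e : K.relIndex S = (K ⊓ S).relIndex S := (Subgroup.inf_relIndex_right K S).symm
  have hpos : 0 < Nat.card ↥(K ⊓ S) * (K ⊓ S).relIndex S := by rw [hc]; exact Nat.card_pos
  have key : S.relIndex (S ⊔ K) = (K ⊓ S).relIndex K := by
    refine Nat.eq_of_mul_eq_mul_left hpos ?_
    rw [h1, e, ← hb] at hK
    rw [← hc] at hS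
    rw [hS, ← hK]
    ring
  rw [← key]
  exact Dvd.intro _ (Subgroup.relIndex_mul_index le_sup_left)

set_option maxHeartbeats 600000 in
/-- The count over a central character. -/
theorem central_count {p : ℕ} (hp : p.Prime) {Z K S : Subgroup Γ} (hcen : Z ≤ Subgroup.center Γ)
    (μ : Z →* ℂˣ) (hS : IsPGroup p S) (hSi : ¬ p ∣ S.index) [K.Normal] (hKS : (K ⊔ S).Normal)
    (hZK : Z ≤ K) (hidx : ¬ p ∣ Z.relIndex K) :
    cmu p μ (⊤ : Subgroup Γ) = cmu p μ (Subgroup.normalizer (S : Set Γ)) := by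
  haveI := Fact.mk hp
  have hcz : ∀ z ∈ Z, ∀ a : Γ, z * a = a * z := fun z hz a => (Subgroup.mem_center_iff.1 (hcen hz) a).symm
  have hpelt : ∀ x ∈ K ⊓ S, x ∈ Z := by
    rintro x ⟨hxK, hxS⟩
    obtain ⟨b, hb⟩ := IsPGroup.iff_orderOf.1 hS ⟨x, hxS⟩
    rw [Subgroup.orderOf_mk] at hb
    haveI : Z.Normal := ⟨fun z hz g => by
      rw [← hcz z hz g, mul_inv_cancel_right]; exact hz⟩
    haveI : (Z.subgroupOf K).Normal := Subgroup.Normal.subgroupOf inferInstance K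
    have hpow : x ^ Z.relIndex K ∈ Z := Subgroup.pow_index_mem (Z.subgroupOf K) ⟨x, hxK⟩
    have hcop : (orderOf x).Coprime (Z.relIndex K) := hb ▸ ((hp.coprime_iff_not_dvd.2 hidx).pow_left b)
    obtain ⟨m, hm⟩ := exists_pow_eq_self_of_coprime hcop.symm
    rw [← hm]
    exact pow_mem hpow m
  let P : Subgroup K := (K ⊓ S).subgroupOf K
  haveI : P.Normal := ⟨fun z hz g => by
    have e : g * z * g⁻¹ = z := Subtype.ext (by
      simp only [Subgroup.coe_mul, Subgroup.coe_inv]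
      rw [← hcz (z : Γ) (hpelt _ hz) g, mul_inv_cancel_right])
    rw [e]; exact hz⟩
  obtain ⟨b, hbS⟩ := IsPGroup.iff_card.1 (hS.to_le (inf_le_right : K ⊓ S ≤ S))
  have hPcard : Nat.card P = p ^ b := by
    rw [Nat.card_congr (Subgroup.subgroupOfEquivOfLe inf_le_left).toEquiv, hbS]
  have hPi : ¬ p ∣ P.index := fun h => hSi (h.trans sylow_relIndex_dvd)
  obtain ⟨H, hH⟩ := Subgroup.exists_right_complement'_of_coprime (N := P)
    (hPcard ▸ (hp.coprime_iff_not_dvd.2 hPi).pow_left b)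
  let K0 : Subgroup Γ := H.map K.subtype
  set n := Nat.card K0 with hn
  have hK0K : K0 ≤ K := Subgroup.map_subtype_le H
  have hco : ¬ p ∣ Nat.card K0 := by
    rw [Subgroup.card_map_of_injective K.subtype_injective, ← hH.symm.index_eq_card]
    exact hPi
  have hdec : ∀ k ∈ K, ∃ z ∈ K ⊓ S, ∃ k0 ∈ K0, z * k0 = k := fun k hk => by
    have htop : (⟨k, hk⟩ : K) ∈ P ⊔ H := by rw [hH.sup_eq_top]; exact Subgroup.mem_top _
    obtain ⟨z, hz, h', hh', e⟩ := (mem_sup_iff (Subgroup.normalizer_eq_top (H := P) ▸ le_top)).1 htop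
    exact ⟨z, hz, h', ⟨h', hh', rfl⟩, congrArg Subtype.val e⟩
  have hchar : ∀ k ∈ K, k ^ n = 1 → k ∈ K0 := by
    intro k hk hkn
    obtain ⟨z, hz, k0, hk0, rfl⟩ := hdec k hk
    have hk0n : k0 ^ n = 1 := by
      have := congrArg Subtype.val (pow_card_eq_one' (x := (⟨k0, hk0⟩ : K0)))
      exact this
    have hzn : z ^ n = 1 := by
      rw [Commute.mul_pow (hcz z (hpelt z hz) k0), hk0n, mul_one] at hkn
      exact hkn
    have hzb : z ^ p ^ b = 1 := by
      have := congrArg Subtype.val (pow_card_eq_one' (x := (⟨z, hz⟩ : ↥(K ⊓ S))))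
      rw [hbS] at this
      exact this
    have hz1 : z = 1 := orderOf_eq_one_iff.1 (Nat.eq_one_of_dvd_coprimes
      ((hp.coprime_iff_not_dvd.2 hco).pow_left b) (orderOf_dvd_of_pow_eq_one hzb)
      (orderOf_dvd_of_pow_eq_one hzn))
    rw [hz1, one_mul]
    exact hk0
  haveI hK0n : K0.Normal := ⟨fun k hk g => hchar _ (Subgroup.Normal.conj_mem ‹K.Normal› k (hK0K hk) g) (by
    have := congrArg Subtype.val (pow_card_eq_one' (x := (⟨k, hk⟩ : K0)))
    simp only [Subgroup.coe_pow, Subgroup.coe_one] at this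
    rw [conj_pow, ← hn] at *
    rw [this, mul_one, mul_inv_cancel])⟩
  have hK0N : ∀ H' : Subgroup Γ, H' ≤ Subgroup.normalizer (K0 : Set Γ) := fun H' =>
    Subgroup.normalizer_eq_top (H := K0) ▸ le_top
  set N := Subgroup.normalizer (S : Set Γ) with hN
  have hs : IsSemi p K0 S (K ⊔ S) := ⟨hp, hS, hco, hK0N S, le_antisymm
    (sup_le (fun k hk => by
      obtain ⟨z, hz, k0, hk0, rfl⟩ := hdec k hk
      exact mul_mem (Subgroup.mem_sup_right hz.2) (Subgroup.mem_sup_left hk0)) le_sup_right)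
    (sup_le_sup_right hK0K S)⟩
  obtain ⟨C, hC⟩ : ∃ C, C = fixC K0 S := ⟨_, rfl⟩
  have hCK0 : C ≤ K0 := hC ▸ inf_le_left
  have hSN : S ≤ N := Subgroup.le_normalizer
  have hNC : N ≤ Subgroup.normalizer (C : Set Γ) := fun g hg =>
    hC ▸ mem_normalizer_fixC (hK0N ⊤ (Subgroup.mem_top g)) hg
  have hCN : C ≤ N := hC ▸ inf_le_right.trans (Subgroup.centralizer_le_normalizer _)
  have hcoC : ¬ p ∣ Nat.card C := fun h => hco (h.trans (Subgroup.card_dvd_of_le hCK0))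
  have hs' : IsSemi p C S (C ⊔ S) := ⟨hp, hS, hcoC, hSN.trans hNC, rfl⟩
  have hMN : ∀ a ∈ K ⊔ S, a ∈ N → a ∈ C ⊔ S := by
    intro a ha haN
    obtain ⟨k, hk, s, hsS, rfl⟩ := (mem_sup_iff hs.norm).1 (hs.eq.le ha)
    refine mul_mem (Subgroup.mem_sup_left ?_) (Subgroup.mem_sup_right hsS)
    have hkN : k ∈ N := (Subgroup.mul_mem_cancel_right _ (hSN hsS)).1 haN
    rw [hC]
    refine ⟨hk, Subgroup.mem_centralizer_iff.2 fun t ht => ?_⟩
    have h1 : ⁅k, t⁆ ∈ K0 ⊓ S := ⟨by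
      rw [commutatorElement_def, mul_assoc, mul_assoc]
      exact K0.mul_mem hk (by rw [← mul_assoc]; exact hK0n.conj_mem _ (K0.inv_mem hk) t), by
      rw [commutatorElement_def]; exact S.mul_mem ((conj_mem_iff hkN t).2 ht) (S.inv_mem ht)⟩
    rw [hs.inf_eq_bot, Subgroup.mem_bot, commutatorElement_eq_one_iff_mul_comm] at h1
    exact h1.symm
  -- a complement of `S` in its normalizer
  haveI : (S.subgroupOf N).Normal := Subgroup.normal_subgroupOf_of_le_normalizer le_rfl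
  obtain ⟨a, haS⟩ := IsPGroup.iff_card.1 hS
  have hSNi : ¬ p ∣ (S.subgroupOf N).index := fun h =>
    hSi (h.trans (Dvd.intro _ (Subgroup.relIndex_mul_index hSN)))
  obtain ⟨U0, hU0⟩ := Subgroup.exists_right_complement'_of_coprime (N := S.subgroupOf N) (by
    rw [Nat.card_congr (Subgroup.subgroupOfEquivOfLe hSN).toEquiv, haS]
    exact (hp.coprime_iff_not_dvd.2 hSNi).pow_left a)
  let U : Subgroup Γ := U0.map N.subtype
  have hUN : U ≤ N := Subgroup.map_subtype_le U0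
  have hcoU : ¬ p ∣ Nat.card U := by
    rw [Subgroup.card_map_of_injective N.subtype_injective, ← hU0.symm.index_eq_card]
    exact hSNi
  have hSU : ∀ z ∈ N, ∃ s ∈ S, ∃ u ∈ U, s * u = z := fun z hz => by
    have htop : (⟨z, hz⟩ : N) ∈ S.subgroupOf N ⊔ U0 := by rw [hU0.sup_eq_top]; exact Subgroup.mem_top _
    obtain ⟨s, hs0, u, hu, e⟩ :=
      (mem_sup_iff (Subgroup.normalizer_eq_top (H := S.subgroupOf N) ▸ le_top)).1 htop
    exact ⟨s, hs0, u, ⟨u, hu, rfl⟩, congrArg Subtype.val e⟩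
  have hCU : C ≤ U := by
    intro c hc
    obtain ⟨s, hsS, u, hu, e⟩ := hSU c (hCN hc)
    have hco' := not_dvd_card_sup hp (hUN.trans hNC) hcoC hcoU
    have hs1 : s ∈ (C ⊔ U) ⊓ S := ⟨by
      rw [show s = c * u⁻¹ by rw [← e]; group]
      exact mul_mem (Subgroup.mem_sup_left hc) (Subgroup.mem_sup_right (inv_mem hu)), hsS⟩
    rw [inf_eq_bot_of_coprime hp hS hco', Subgroup.mem_bot] at hs1
    rw [← e, hs1, one_mul]
    exact hu
  have hUS : ∀ a ∈ S, a ∈ U → a = 1 := fun a ha haU => by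
    have h := inf_eq_bot_of_coprime hp hS hcoU
    exact Subgroup.mem_bot.1 (h.le ⟨haU, ha⟩)
  have hMU' : (C ⊔ S) ⊓ U = C := by
    refine le_antisymm ?_ (le_inf le_sup_left hCU)
    rintro z ⟨hz, hzU⟩
    obtain ⟨c, hc, s, hsS, rfl⟩ := (mem_sup_iff hs'.norm).1 hz
    rw [hUS s hsS ((Subgroup.mul_mem_cancel_left _ (hCU hc)).1 hzU), mul_one]
    exact hc
  have hMU : (K ⊔ S) ⊓ U = C := by
    refine le_antisymm (fun z hz => hMU'.le ⟨hMN z hz.1 (hUN hz.2), hz.2⟩) ?_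
    exact le_inf (hCK0.trans (hK0K.trans le_sup_left)) hCU
  -- Frattini
  have hgen : ∀ h ∈ (⊤ : Subgroup Γ), ∃ m ∈ K ⊔ S, ∃ u ∈ U, m * u = h := by
    intro h _
    have hSi' : ¬ p ∣ (S.subgroupOf (K ⊔ S)).index := fun h' =>
      hSi (h'.trans (Dvd.intro _ (Subgroup.relIndex_mul_index (le_sup_right : S ≤ K ⊔ S))))
    let P' : Sylow p ↥(K ⊔ S) :=
      (hS.comap_of_injective (K ⊔ S).subtype (K ⊔ S).subtype_injective).toSylow hSi'
    haveI := hKS
    have hfr := Sylow.normalizer_sup_eq_top P'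
    have hmap : ((P' : Subgroup ↥(K ⊔ S)).map (K ⊔ S).subtype) = S :=
      Subgroup.map_subgroupOf_eq_of_le le_sup_right
    rw [hmap] at hfr
    have hh : h ∈ (K ⊔ S) ⊔ N := by rw [sup_comm, hfr]; exact Subgroup.mem_top h
    obtain ⟨m, hm, z, hz, rfl⟩ :=
      (mem_sup_iff (Subgroup.normalizer_eq_top (H := K ⊔ S) ▸ le_top)).1 hh
    obtain ⟨s, hsS, u, hu, rfl⟩ := hSU z hz
    exact ⟨m * s, mul_mem hm (Subgroup.mem_sup_right hsS), u, hu, by rw [mul_assoc]⟩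
  have hgen' : ∀ h ∈ N, ∃ m ∈ C ⊔ S, ∃ u ∈ U, m * u = h := fun h hh => by
    obtain ⟨s, hsS, u, hu, e⟩ := hSU h hh
    exact ⟨s, Subgroup.mem_sup_right hsS, u, hu, e⟩
  have hsplit : ∀ z ∈ Z, ∃ z₁ ∈ Z ⊓ K0, ∃ z₂ ∈ Z ⊓ S, z₁ * z₂ = z := fun z hz => by
    obtain ⟨z', hz', k0, hk0, e⟩ := hdec z (hZK hz)
    have hzZ := hpelt z' hz'
    refine ⟨k0, ⟨?_, hk0⟩, z', ⟨hzZ, hz'.2⟩, ?_⟩
    · rw [show k0 = z'⁻¹ * z by rw [← e]; group]; exact Z.mul_mem (Z.inv_mem hzZ) hz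
    · rw [← hcz z' hzZ k0, e]
  have hsplit' : ∀ z ∈ Z, ∃ z₁ ∈ Z ⊓ C, ∃ z₂ ∈ Z ⊓ S, z₁ * z₂ = z := fun z hz => by
    obtain ⟨z₁, hz₁, z₂, hz₂, e⟩ := hsplit z hz
    refine ⟨z₁, ⟨hz₁.1, hC ▸ ⟨hz₁.2, Subgroup.mem_centralizer_iff.2 fun s _ => ?_⟩⟩, z₂, hz₂, e⟩
    exact (hcz z₁ hz₁.1 s).symm
  have hZM' : Z ≤ C ⊔ S := fun z hz => by
    obtain ⟨z₁, hz₁, z₂, hz₂, e⟩ := hsplit' z hz
    rw [← e]
    exact mul_mem (Subgroup.mem_sup_left hz₁.2) (Subgroup.mem_sup_right hz₂.2)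
  have hnM' : N ≤ Subgroup.normalizer ((C ⊔ S : Subgroup Γ) : Set Γ) := fun g hg =>
    hs'.mem_normalizer (hNC hg) hg
  have hiM : ¬ p ∣ (K ⊔ S).relIndex ⊤ := fun h => hSi (h.trans (by
    rw [Subgroup.relIndex_top_right]; exact Subgroup.index_dvd_of_le le_sup_right))
  have hiM' : ¬ p ∣ (C ⊔ S).relIndex N := fun h =>
    hSNi (h.trans (Subgroup.relIndex_dvd_of_le_left N le_sup_right))
  have h1 := side_count hs hcen μ (H := ⊤) le_top
    (by rw [Subgroup.normalizer_eq_top (H := K ⊔ S)]) hiM (hZK.trans le_sup_left) hsplit le_top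
    (hK0N U) hUN hgen hMU hCK0
  have h2 := side_count hs' hcen μ (H := N) (sup_le hCN hSN) hnM' hiM' hZM' hsplit' hUN
    (hUN.trans hNC) hUN hgen' hMU' le_rfl
  have hW := not_dvd_card_sup hp (hK0N U) hco hcoU
  have h3 := sum_term_eq (K := K0) (U := U) (W := K0 ⊔ U) hp hS (hK0N S) hC le_sup_left le_sup_right
    hW hcen μ (hK0N U) hUN
  rw [h3, ← h2] at h1
  exact_mod_cast mul_left_cancel₀ (mul_ne_zero (Nat.cast_ne_zero.2 (Nat.card_pos (α := U)).ne')
    (Nat.cast_ne_zero.2 (Nat.card_pos (α := C)).ne')) h1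

end Cfsg.Agent.Char.RelMcKay
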