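import Cfsg.Agent.Lib.Char.RelMcKay.Over
import Cfsg.Agent.Lib.Char.CliffordGen
import Mathlib

/-!
# Counting through the stabilizer of a character of a normal subgroup
-/

open scoped ComplexConjugate
open Cfsg Module

set_option autoImplicit false
set_option linter.style.haveILetI false
set_option linter.unusedSectionVars false

attribute [local instance] Fintype.ofFinite

namespace Cfsg.Agent.Char.RelMcKay

universe u

variable {Γ : Type u} [Group Γ] [Finite Γ]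

/-- The inner product factors through an intermediate subgroup. -/
theorem inn_chain {B A : Subgroup Γ} (hBA : B ≤ A) {f : Γ → ℂ}
    (hf : IsCharacter A fun a : A => f a) (φ : B → ℂ) :
    inn B f φ = ∑ ψ : IrrCharacter A, inn A f (ψ : A → ℂ) * inn B (extendByZero A (ψ : A → ℂ)) φ := by
  have e : ∀ k : B, f k = ∑ ψ : IrrCharacter A, inn A f (ψ : A → ℂ) * (ψ : A → ℂ) ⟨k, hBA k.2⟩ :=
    fun k => by
    have := congrFun (char_expansion hf) ⟨(k : Γ), hBA k.2⟩
    simpa [inn, Finset.sum_apply] using this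
  simp only [inn, classInner]
  rw [Finset.sum_congr rfl (g := fun k : B => ∑ ψ : IrrCharacter A,
      inn A f (ψ : A → ℂ) * (extendByZero A (ψ : A → ℂ) k * conj (φ k))) fun k _ => ?_,
    Finset.sum_comm, Finset.mul_sum]
  · refine Finset.sum_congr rfl fun ψ _ => ?_
    simp only [inn, classInner]
    rw [← Finset.mul_sum]
    ring
  · rw [e, Finset.sum_mul]
    refine Finset.sum_congr rfl fun ψ _ => ?_
    rw [extendByZero_mem A _ (hBA k.2), mul_assoc]

/-- The count over the whole group. -/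
theorem cnt_top (p : ℕ) (L : Subgroup Γ) (ν : L → ℂ) : cnt p ⊤ L ν =
    Nat.card {χ : IrrCharacter Γ // ¬ p ∣ deg (χ : Γ → ℂ) ∧ inn L (χ : Γ → ℂ) ν ≠ 0} := by
  refine Nat.card_congr (Equiv.subtypeEquiv
    { toFun := fun χ => ⟨fun g => (χ : (⊤ : Subgroup Γ) → ℂ) (Subgroup.topEquiv.symm g),
        isIrrCharacter_comp_equiv Subgroup.topEquiv.symm χ.2⟩
      invFun := fun χ => ⟨fun g => (χ : Γ → ℂ) (Subgroup.topEquiv g),
        isIrrCharacter_comp_equiv Subgroup.topEquiv χ.2⟩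
      left_inv := fun χ => Subtype.ext (funext fun g => rfl)
      right_inv := fun χ => Subtype.ext (funext fun g => by simp) } fun χ => ?_)
  simp only [Equiv.coe_fn_mk]
  rw [deg_comp_equiv Subgroup.topEquiv.symm χ]
  have e : extendByZero ⊤ (χ : (⊤ : Subgroup Γ) → ℂ) =
      fun g => (χ : (⊤ : Subgroup Γ) → ℂ) (Subgroup.topEquiv.symm g) := funext fun g => by
    rw [extendByZero_mem ⊤ _ (Subgroup.mem_top g)]
    rfl
  rw [e]

set_option maxHeartbeats 400000 in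
/-- Counting through the inertia group. -/
theorem cnt_inertia {p : ℕ} (hp : p.Prime) (L : Subgroup Γ) [L.Normal] (ν : IrrCharacter L)
    (hidx : ¬ p ∣ (charStab L (ν : L → ℂ)).index) :
    cnt p ⊤ L (ν : L → ℂ) = cnt p (charStab L (ν : L → ℂ)) L (ν : L → ℂ) := by
  rw [cnt_top]
  obtain ⟨T, hTdef⟩ : ∃ T, T = charStab L (ν : L → ℂ) := ⟨_, rfl⟩
  rw [← hTdef] at hidx ⊢
  have hnorm : ∀ g : Γ, g ∈ Subgroup.normalizer (L : Set Γ) := fun g => by
    rw [Subgroup.normalizer_eq_top]; trivial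
  have hLT : L ≤ T := hTdef ▸ le_charStab (isClassFunction_character (irr_isCharacter ν.2))
  have hTiff : ∀ g : Γ, g ∈ T ↔ irrComp (MulAut.conjNormal g) ν = ν := fun g => by
    rw [hTdef, mem_charStab_iff_conjI (hnorm g)]
    have : conjI L g (hnorm g) ν = irrComp (MulAut.conjNormal g) ν := Subtype.ext (funext fun m => by
      rw [conjI_apply, irrComp_apply]
      congr 1)
    rw [this]
  -- every character over `ν` has a correspondent, unique among the characters over `ν`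
  have hcorr : ∀ χ : IrrCharacter Γ, inn L (χ : Γ → ℂ) (ν : L → ℂ) ≠ 0 →
      ∃ ψ : IrrCharacter T, (χ : Γ → ℂ) = indFun T (ψ : T → ℂ) ∧
        inn L (extendByZero T (ψ : T → ℂ)) (ν : L → ℂ) ≠ 0 ∧
        ∀ φ : IrrCharacter T, inn T (χ : Γ → ℂ) (φ : T → ℂ) ≠ 0 →
          inn L (extendByZero T (φ : T → ℂ)) (ν : L → ℂ) ≠ 0 → φ = ψ := by
    intro χ hχ
    obtain ⟨T', ψ, e, hAT, hψ, hind, he, hT', hres, hinner⟩ := exists_correspondent χ.2 L ν hχ
    have hTT : T = T' := Subgroup.ext fun g => (hTiff g).trans (hT' g).symm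
    subst hTT
    have hψν : inn L (extendByZero T ψ) (ν : L → ℂ) = (e : ℂ) := by
      rw [inn, show (fun m : L => extendByZero T ψ m) = (e : ℂ) • (ν : L → ℂ) from funext fun m => by
        rw [extendByZero_mem T ψ (hLT m.2), Pi.smul_apply, smul_eq_mul]; exact hres m,
        classInner_smul_left, irr_self ν.2, mul_one]
    have hψχ : inn T (χ : Γ → ℂ) ψ ≠ 0 := by
      rw [inn, ← frobenius_right T ψ (isClassFunction_character (irr_isCharacter χ.2)), ← hind, irr_self χ.2]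
      exact one_ne_zero
    refine ⟨⟨ψ, hψ⟩, hind, by rw [hψν]; exact Nat.cast_ne_zero.2 he, fun φ hφ1 hφ2 => ?_⟩
    by_contra hne
    have hchar : IsCharacter T fun a : T => (χ : Γ → ℂ) a := isCharacter_comp T.subtype (irr_isCharacter χ.2)
    choose a ha using fun φ' : IrrCharacter T => classInner_natCast hchar (irr_isCharacter φ'.2)
    choose b hb using fun φ' : IrrCharacter T => inn_natCast hLT (irr_isCharacter φ'.2) ν
    have ha' : ∀ φ' : IrrCharacter T, inn T (χ : Γ → ℂ) (φ' : T → ℂ) = a φ' := ha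
    have hsum := inn_chain hLT hchar (ν : L → ℂ)
    rw [show inn L (χ : Γ → ℂ) (ν : L → ℂ) = (e : ℂ) from hinner,
      Finset.sum_congr rfl fun φ' _ => by rw [ha', hb, ← Nat.cast_mul], ← Nat.cast_sum] at hsum
    have hsum' : e = ∑ φ' : IrrCharacter T, a φ' * b φ' := by exact_mod_cast hsum
    have hbψ : b ⟨ψ, hψ⟩ = e := by exact_mod_cast (hb ⟨ψ, hψ⟩).symm.trans hψν
    have ha1 : a ⟨ψ, hψ⟩ ≠ 0 := fun h0 => hψχ (by
      rw [show inn T (χ : Γ → ℂ) ψ = _ from ha' ⟨ψ, hψ⟩, h0, Nat.cast_zero])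
    have ha2 : a φ ≠ 0 := fun h0 => hφ1 (by rw [ha', h0, Nat.cast_zero])
    have hb2 : b φ ≠ 0 := fun h0 => hφ2 (by rw [hb, h0, Nat.cast_zero])
    have h2 : a ⟨ψ, hψ⟩ * b ⟨ψ, hψ⟩ + a φ * b φ ≤ ∑ φ' : IrrCharacter T, a φ' * b φ' := by
      classical
      rw [← Finset.sum_pair (f := fun φ' => a φ' * b φ') (Ne.symm hne)]
      exact Finset.sum_le_univ_sum_of_nonneg fun _ => Nat.zero_le _
    have h3 : e ≤ a ⟨ψ, hψ⟩ * b ⟨ψ, hψ⟩ := hbψ ▸ Nat.le_mul_of_pos_left _ (Nat.pos_of_ne_zero ha1)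
    have h4 : 1 ≤ a φ * b φ := Nat.one_le_iff_ne_zero.2 (mul_ne_zero ha2 hb2)
    omega
  -- induction of a character over `ν`
  have hind : ∀ φ : IrrCharacter T, inn L (extendByZero T (φ : T → ℂ)) (ν : L → ℂ) ≠ 0 →
      ∃ χ : IrrCharacter Γ, inn L (χ : Γ → ℂ) (ν : L → ℂ) ≠ 0 ∧ (χ : Γ → ℂ) = indFun T (φ : T → ℂ) ∧
        inn T (χ : Γ → ℂ) (φ : T → ℂ) ≠ 0 := by
    intro φ hφ
    have hI := isCharacter_indFun T (irr_isCharacter φ.2)
    obtain ⟨χ, hχ⟩ : ∃ χ : IrrCharacter Γ, classInner (indFun T (φ : T → ℂ)) (χ : Γ → ℂ) ≠ 0 := by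
      by_contra hno
      push Not at hno
      have h := congrFun (char_expansion hI) 1
      simp only [hno, zero_smul, Finset.sum_const_zero, Pi.zero_apply, indFun_one] at h
      exact mul_ne_zero (Nat.cast_ne_zero.2 Subgroup.index_ne_zero_of_finite) (irr_one_ne_zero φ.2) h
    have hφχ : inn T (χ : Γ → ℂ) (φ : T → ℂ) ≠ 0 := by
      rw [inn, ← frobenius_right T (φ : T → ℂ) (isClassFunction_character (irr_isCharacter χ.2)),
        ← classInner_symm]
      exact (map_ne_zero _).2 hχ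
    have hchar : IsCharacter T fun a : T => (χ : Γ → ℂ) a := isCharacter_comp T.subtype (irr_isCharacter χ.2)
    have hχν : inn L (χ : Γ → ℂ) (ν : L → ℂ) ≠ 0 := by
      choose a ha using fun φ' : IrrCharacter T => classInner_natCast hchar (irr_isCharacter φ'.2)
      choose b hb using fun φ' : IrrCharacter T => inn_natCast hLT (irr_isCharacter φ'.2) ν
      have ha' : ∀ φ' : IrrCharacter T, inn T (χ : Γ → ℂ) (φ' : T → ℂ) = a φ' := ha
      rw [inn_chain hLT hchar, Finset.sum_congr rfl fun φ' _ => by rw [ha', hb, ← Nat.cast_mul],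
        ← Nat.cast_sum, Nat.cast_ne_zero]
      intro h0
      rw [Finset.sum_eq_zero_iff] at h0
      rcases Nat.mul_eq_zero.1 (h0 φ (Finset.mem_univ _)) with h1 | h1
      · exact hφχ (by rw [ha', h1, Nat.cast_zero])
      · exact hφ (by rw [hb, h1, Nat.cast_zero])
    obtain ⟨ψ, hψ1, -, hψ3⟩ := hcorr χ hχν
    exact ⟨χ, hχν, (hψ3 φ hφχ hφ).symm ▸ hψ1, hφχ⟩
  have hdeg : ∀ (φ : IrrCharacter T) (χ : IrrCharacter Γ), (χ : Γ → ℂ) = indFun T (φ : T → ℂ) →
      (¬ p ∣ deg (χ : Γ → ℂ) ↔ ¬ p ∣ deg (φ : T → ℂ)) := fun φ χ e => by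
    have h : deg (χ : Γ → ℂ) = T.index * deg (φ : T → ℂ) := by
      apply Nat.cast_injective (R := ℂ)
      push_cast
      rw [← char_one_eq_deg (irr_isCharacter χ.2), ← char_one_eq_deg (irr_isCharacter φ.2), e, indFun_one]
    rw [h]
    exact ⟨fun h1 h2 => h1 (h2.mul_left _), fun h1 h2 => (hp.dvd_mul.1 h2).elim hidx h1⟩
  choose F hF1 hF2 hF3 using hind
  symm
  refine Nat.card_congr (Equiv.ofBijective
    (fun φ => ⟨F φ.1 φ.2.2, (hdeg φ.1 _ (hF2 φ.1 φ.2.2)).2 φ.2.1, hF1 φ.1 φ.2.2⟩)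
    ⟨fun φ φ' h => ?_, fun χ => ?_⟩)
  · have e : F φ.1 φ.2.2 = F φ'.1 φ'.2.2 := congrArg Subtype.val h
    obtain ⟨ψ, -, -, hu⟩ := hcorr (F φ.1 φ.2.2) (hF1 φ.1 φ.2.2)
    refine Subtype.ext ((hu φ.1 (hF3 φ.1 φ.2.2) φ.2.2).trans (hu φ'.1 ?_ φ'.2.2).symm)
    rw [e]
    exact hF3 φ'.1 φ'.2.2
  · obtain ⟨ψ, hψ1, hψ2, -⟩ := hcorr χ.1 χ.2.2
    refine ⟨⟨ψ, (hdeg ψ χ.1 hψ1).1 χ.2.1, hψ2⟩, Subtype.ext (Subtype.ext ?_)⟩
    exact (hF2 ψ hψ2).trans hψ1.symm

theorem mem_charStab_up {M H : Subgroup Γ} (hMH : M ≤ H) (ν : IrrCharacter M) (x : H) :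
    x ∈ charStab (M.subgroupOf H) (upI hMH ν : M.subgroupOf H → ℂ) ↔
      (x : Γ) ∈ Subgroup.normalizer (M : Set Γ) ∧
        x ∈ (charStab M (ν : M → ℂ)).subgroupOf H := by
  let e := Subgroup.subgroupOfEquivOfLe hMH
  constructor
  · intro h
    have hn : (x : Γ) ∈ Subgroup.normalizer (M : Set Γ) := by
      rw [Subgroup.mem_set_normalizer_iff]
      intro z
      constructor
      · intro hz
        exact (conj_mem_iff h.1 ⟨z, hMH hz⟩).2 hz
      · intro hz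
        have hzH : z ∈ H := by
          have := mul_mem (mul_mem (inv_mem x.2) (hMH hz)) x.2
          rwa [show (x : Γ)⁻¹ * ((x : Γ) * z * (x : Γ)⁻¹) * (x : Γ) = z by group] at this
        exact (conj_mem_iff h.1 ⟨z, hzH⟩).1 hz
    refine ⟨hn, mem_charStab_iff.2 ⟨hn, fun m m' e' => ?_⟩⟩
    exact (mem_charStab_iff.1 h).2 (e.symm m) (e.symm m') (Subtype.ext e')
  · rintro ⟨hn, h⟩
    refine mem_charStab_iff.2 ⟨?_, fun m m' e' => ?_⟩
    · rw [Subgroup.mem_set_normalizer_iff]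
      intro z
      show (z : Γ) ∈ M ↔ ((x * z * x⁻¹ : H) : Γ) ∈ M
      simpa using (conj_mem_iff hn (z : Γ)).symm
    · exact (mem_charStab_iff.1 h).2 (e m) (e m') (congrArg (Subtype.val : H → Γ) e')

/-- Counting through the inertia group, for a subgroup normalizing `L`. -/
theorem cnt_stab {p : ℕ} (hp : p.Prime) {H L : Subgroup Γ} (hLH : L ≤ H)
    (hn : H ≤ Subgroup.normalizer (L : Set Γ)) (ν : IrrCharacter L)
    (hidx : ¬ p ∣ (H ⊓ charStab L (ν : L → ℂ)).relIndex H) :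
    cnt p H L (ν : L → ℂ) = cnt p (H ⊓ charStab L (ν : L → ℂ)) L (ν : L → ℂ) := by
  haveI : (L.subgroupOf H).Normal := Subgroup.normal_subgroupOf_of_le_normalizer hn
  set H0 := H ⊓ charStab L (ν : L → ℂ) with hH0
  have hLH0 : L ≤ H0 := le_inf hLH (le_charStab (isClassFunction_character (irr_isCharacter ν.2)))
  have hst : charStab (L.subgroupOf H) (upI hLH ν : L.subgroupOf H → ℂ) = H0.subgroupOf H :=
    Subgroup.ext fun x => (mem_charStab_up hLH ν x).trans
      ⟨fun h => ⟨x.2, h.2⟩, fun h => ⟨hn x.2, h.2⟩⟩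
  have h := cnt_inertia hp (L.subgroupOf H) (upI hLH ν) (by rw [hst]; exact hidx)
  have e1 : cnt p H L (ν : L → ℂ) = cnt p ⊤ (L.subgroupOf H) (upI hLH ν : L.subgroupOf H → ℂ) :=
    cnt_hom p H.subtype le_top Subgroup.topEquiv (Subgroup.subgroupOfEquivOfLe hLH) (fun _ => rfl)
      (fun _ => rfl) (ν : L → ℂ)
  have e2 : cnt p H0 L (ν : L → ℂ) =
      cnt p (H0.subgroupOf H) (L.subgroupOf H) (upI hLH ν : L.subgroupOf H → ℂ) :=
    cnt_hom p H.subtype (fun x hx => hLH0 hx) (Subgroup.subgroupOfEquivOfLe inf_le_left)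
      (Subgroup.subgroupOfEquivOfLe hLH) (fun _ => rfl) (fun _ => rfl) (ν : L → ℂ)
  rw [e1, e2, h, hst]

end Cfsg.Agent.Char.RelMcKay
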