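import Cfsg.Agent.Lib.Char.RelMcKay.CliffCount
import Mathlib

/-!
# Splitting a count along an intermediate normal subgroup
-/

open scoped ComplexConjugate
open Cfsg Module

set_option autoImplicit false
set_option linter.style.haveILetI false
set_option linter.unusedSectionVars false

attribute [local instance] Fintype.ofFinite

namespace Cfsg.Agent.Char.RelMcKay

universe u

variable {Γ : Type u} [Group Γ] [Finite Γ]

/-- Without nonzero fixed values an invariant natural sum is a multiple of `p`. -/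
theorem dvd_sum_of_no_fixed {p : ℕ} [Fact p.Prime] {X S : Type*} [Group S] [Finite X] [MulAction S X]
    (hS : IsPGroup p S) (f : X → ℕ) (hinv : ∀ (s : S) x, f (s • x) = f x)
    (h : ∀ x ∈ MulAction.fixedPoints S X, f x = 0) : p ∣ ∑ x, f x := by
  classical
  rw [← Finset.sum_fiberwise_of_maps_to (t := Finset.univ.image f)
    (fun x _ => Finset.mem_image_of_mem f (Finset.mem_univ x))]
  refine Finset.dvd_sum fun a _ => ?_
  rw [Finset.sum_congr rfl (g := fun _ => a) fun x hx => (Finset.mem_filter.1 hx).2,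
    Finset.sum_const, smul_eq_mul]
  by_cases ha : a = 0
  · rw [ha, mul_zero]; exact dvd_zero p
  refine Dvd.dvd.mul_right ?_ a
  letI : MulAction S {x : X // f x = a} :=
    { smul := fun s x => ⟨s • x.1, (hinv s x.1).trans x.2⟩
      one_smul := fun x => Subtype.ext (one_smul S x.1)
      mul_smul := fun s t x => Subtype.ext (mul_smul s t x.1) }
  have h1 := hS.card_modEq_card_fixedPoints {x : X // f x = a}
  haveI : IsEmpty (MulAction.fixedPoints S {x : X // f x = a}) :=
    ⟨fun x => ha (x.1.2.symm.trans (h x.1.1 fun s => congrArg Subtype.val (x.2 s)))⟩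
  rw [Nat.card_of_isEmpty (α := MulAction.fixedPoints S {x : X // f x = a}), Nat.modEq_zero_iff_dvd,
    Nat.card_eq_fintype_card, Fintype.card_subtype] at h1
  exact h1

/-- Sylow conjugacy, inside a subgroup. -/
theorem exists_conj_map_eq {p : ℕ} [Fact p.Prime] {H A B : Subgroup Γ} (hA : A ≤ H) (hB : B ≤ H)
    (hAp : IsPGroup p A) (hBp : IsPGroup p B) (hAi : ¬ p ∣ A.relIndex H) (hBi : ¬ p ∣ B.relIndex H) :
    ∃ t ∈ H, A.map (MulAut.conj t).toMonoidHom = B := by
  let A' : Sylow p H := (hAp.comap_of_injective H.subtype H.subtype_injective).toSylow hAi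
  let B' : Sylow p H := (hBp.comap_of_injective H.subtype H.subtype_injective).toSylow hBi
  obtain ⟨t, ht⟩ := MulAction.exists_smul_eq H A' B'
  refine ⟨t, t.2, ?_⟩
  have h1 : ((A' : Subgroup H).map (MulAut.conj t).toMonoidHom) = (B' : Subgroup H) := by
    rw [← ht]
    rfl
  have h2 := congrArg (Subgroup.map H.subtype) h1
  rw [Subgroup.map_map] at h2
  have eA : (A' : Subgroup H) = A.subgroupOf H := rfl
  have eB : (B' : Subgroup H) = B.subgroupOf H := rfl
  rw [eA, eB, Subgroup.map_subgroupOf_eq_of_le hB] at h2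
  have e : H.subtype.comp (MulAut.conj t).toMonoidHom = (MulAut.conj (t : Γ)).toMonoidHom.comp H.subtype :=
    MonoidHom.ext fun x => rfl
  rwa [e, ← Subgroup.map_map, Subgroup.map_subgroupOf_eq_of_le hA] at h2

/-- Conjugacy under a group of operators. -/
def ConjRel {K : Subgroup Γ} (R : Subgroup Γ) (θ θ' : IrrCharacter K) : Prop :=
  ∃ g ∈ R, ∀ z : Γ, extendByZero K (θ' : K → ℂ) z = extendByZero K (θ : K → ℂ) (g * z * g⁻¹)

theorem ConjRel.refl {K : Subgroup Γ} (R : Subgroup Γ) (θ : IrrCharacter K) : ConjRel R θ θ :=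
  ⟨1, one_mem R, fun z => by simp⟩

theorem ConjRel.symm {K R : Subgroup Γ} {θ θ' : IrrCharacter K} (h : ConjRel R θ θ') :
    ConjRel R θ' θ := by
  obtain ⟨g, hg, e⟩ := h
  refine ⟨g⁻¹, inv_mem hg, fun z => ?_⟩
  rw [e]
  congr 1
  group

theorem ConjRel.trans {K R : Subgroup Γ} {a b c : IrrCharacter K} (h : ConjRel R a b)
    (h' : ConjRel R b c) : ConjRel R a c := by
  obtain ⟨g, hg, e⟩ := h
  obtain ⟨g', hg', e'⟩ := h'
  refine ⟨g * g', mul_mem hg hg', fun z => ?_⟩
  rw [e', e]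
  congr 1
  group

open scoped Classical in
/-- The fixed characters of `p'`-degree over `ν`. -/
noncomputable def midSet (p : ℕ) (K S L : Subgroup Γ) (ν : L → ℂ) : Finset (IrrCharacter K) :=
  Finset.univ.filter fun θ => ¬ p ∣ deg (θ : K → ℂ) ∧ S ≤ charStab K (θ : K → ℂ) ∧
    inn L (extendByZero K (θ : K → ℂ)) ν ≠ 0

theorem mem_midSet {p : ℕ} {K S L : Subgroup Γ} {ν : L → ℂ} {θ : IrrCharacter K} :
    θ ∈ midSet p K S L ν ↔ ¬ p ∣ deg (θ : K → ℂ) ∧ S ≤ charStab K (θ : K → ℂ) ∧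
      inn L (extendByZero K (θ : K → ℂ)) ν ≠ 0 := by
  simp [midSet]

open scoped Classical in
/-- The class of a character in the set. -/
noncomputable def midClass (p : ℕ) (K S L : Subgroup Γ) (ν : L → ℂ) (R : Subgroup Γ)
    (θ : IrrCharacter K) : Finset (IrrCharacter K) :=
  (midSet p K S L ν).filter fun θ' => ConjRel R θ θ'

set_option maxHeartbeats 600000 in
/-- The count over `ν` as a weighted sum of counts over characters of `K`. -/
theorem decomp {p : ℕ} (hp : p.Prime) {H K L S : Subgroup Γ} (hLK : L ≤ K) (hKH : K ≤ H)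
    (hnK : H ≤ Subgroup.normalizer (K : Set Γ)) (hnL : H ≤ Subgroup.normalizer (L : Set Γ))
    (ν : IrrCharacter L) (hν : H ≤ charStab L (ν : L → ℂ)) (hSH : S ≤ H) (hS : IsPGroup p S)
    (hSi : ¬ p ∣ S.relIndex H) :
    (cnt p H L (ν : L → ℂ) : ℂ) = ∑ θ ∈ midSet p K S L (ν : L → ℂ),
      (cnt p H K (θ : K → ℂ) : ℂ) *
        ((midClass p K S L (ν : L → ℂ) (H ⊓ Subgroup.normalizer (S : Set Γ)) θ).card : ℂ)⁻¹ := by
  haveI := Fact.mk hp
  set R := H ⊓ Subgroup.normalizer (S : Set Γ) with hR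
  set X := midSet p K S L (ν : L → ℂ) with hX
  have hnat : ∀ (χ : IrrCharacter H) (θ : IrrCharacter K), ∃ n : ℕ,
      inn K (extendByZero H (χ : H → ℂ)) (θ : K → ℂ) = n := fun χ θ =>
    inn_natCast hKH (irr_isCharacter χ.2) θ
  choose a ha using hnat
  have hpos : ∀ (χ : IrrCharacter H) (θ : IrrCharacter K) (ζ : IrrCharacter L),
      inn K (extendByZero H (χ : H → ℂ)) (θ : K → ℂ) ≠ 0 →
      inn L (extendByZero K (θ : K → ℂ)) (ζ : L → ℂ) ≠ 0 →
      inn L (extendByZero H (χ : H → ℂ)) (ζ : L → ℂ) ≠ 0 := by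
    intro χ θ ζ h1 h2
    choose b hb using fun ψ : IrrCharacter K => inn_natCast hLK (irr_isCharacter ψ.2) ζ
    rw [inn_chain hLK (resFun_isCharacter hKH (irr_isCharacter χ.2)),
      Finset.sum_congr rfl fun ψ _ => by rw [ha, hb, ← Nat.cast_mul], ← Nat.cast_sum, Nat.cast_ne_zero]
    intro h0
    rw [Finset.sum_eq_zero_iff] at h0
    rcases Nat.mul_eq_zero.1 (h0 θ (Finset.mem_univ _)) with h | h
    · exact h1 (by rw [ha, h, Nat.cast_zero])
    · exact h2 (by rw [hb, h, Nat.cast_zero])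
  -- a good character has a constituent in the set
  have hexists : ∀ χ : IrrCharacter H, ¬ p ∣ deg (χ : H → ℂ) →
      inn L (extendByZero H (χ : H → ℂ)) (ν : L → ℂ) ≠ 0 →
      ∃ θ ∈ X, inn K (extendByZero H (χ : H → ℂ)) (θ : K → ℂ) ≠ 0 := by
    intro χ hd hχν
    have hSK := hSH.trans hnK
    let φ : S →* MulAut K := conjActHom K S fun s hs g hg => (conj_mem_iff (hSK hs) g).2 hg
    letI : MulAction S (IrrCharacter K) := irrAction φ
    have hsm : ∀ (s : S) (θ : IrrCharacter K),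
        s • θ = conjI K ((s⁻¹ : S) : Γ) (hSK (s⁻¹ : S).2) θ := fun s θ => rfl
    have hinv : ∀ (s : S) (θ : IrrCharacter K),
        a χ (s • θ) * deg ((s • θ : IrrCharacter K) : K → ℂ) = a χ θ * deg (θ : K → ℂ) := by
      intro s θ
      rw [hsm, deg_conjI]
      congr 1
      have h1 := inn_conjI (f := extendByZero H (χ : H → ℂ)) (hSK (s⁻¹ : S).2)
        (fun z => extendByZero_conj (isClassFunction_character (irr_isCharacter χ.2)) (hSH (s⁻¹ : S).2) z) θ
      rw [ha, ha] at h1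
      exact_mod_cast h1
    have hsum : deg (χ : H → ℂ) = ∑ θ : IrrCharacter K, a χ θ * deg (θ : K → ℂ) := by
      apply Nat.cast_injective (R := ℂ)
      have := res_expansion hKH (irr_isCharacter χ.2) 1
      rw [OneMemClass.coe_one, extendByZero_mem H _ (one_mem H)] at this
      push_cast
      rw [← char_one_eq_deg (irr_isCharacter χ.2)]
      refine this.trans (Finset.sum_congr rfl fun θ _ => ?_)
      rw [ha, char_one_eq_deg (irr_isCharacter θ.2)]
    obtain ⟨θ, hθf, hθne⟩ : ∃ θ ∈ MulAction.fixedPoints S (IrrCharacter K), a χ θ * deg (θ : K → ℂ) ≠ 0 := by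
      by_contra hno
      push Not at hno
      exact hd (hsum ▸ dvd_sum_of_no_fixed hS _ hinv hno)
    have hne : inn K (extendByZero H (χ : H → ℂ)) (θ : K → ℂ) ≠ 0 := by
      rw [ha, Nat.cast_ne_zero]
      exact (mul_ne_zero_iff.1 hθne).1
    refine ⟨θ, mem_midSet.2 ⟨fun h => hd (h.trans (deg_constituent_dvd hKH hnK χ hne).1), ?_, ?_⟩, hne⟩
    · intro s hs
      rw [mem_charStab_iff_conjI (hSK hs)]
      have h1 := hθf ⟨s⁻¹, inv_mem hs⟩
      rw [hsm] at h1
      refine Eq.trans ?_ h1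
      simp
    · obtain ⟨ζ, hζ⟩ := exists_constituent hLK θ.2
      obtain ⟨g, hg, e⟩ := constituents_conj (hLK.trans hKH) hnL χ hχν (hpos χ θ ζ hne hζ)
      rw [(mem_charStab_iff_conjI (hnL hg) ν).1 (hν hg)] at e
      rwa [← e] at hζ
  -- the constituents in the set form one class
  have hclass : ∀ (χ : IrrCharacter H) (θ : IrrCharacter K), θ ∈ X →
      inn K (extendByZero H (χ : H → ℂ)) (θ : K → ℂ) ≠ 0 → ∀ θ',
      (θ' ∈ X ∧ inn K (extendByZero H (χ : H → ℂ)) (θ' : K → ℂ) ≠ 0) ↔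
        θ' ∈ midClass p K S L (ν : L → ℂ) R θ := by
    intro χ θ hθ hne θ'
    classical
    rw [midClass, Finset.mem_filter]
    constructor
    · rintro ⟨hθ', hne'⟩
      refine ⟨hθ', ?_⟩
      obtain ⟨g, hg, e⟩ := constituents_conj hKH hnK χ hne hne'
      set H0 := H ⊓ charStab K (θ : K → ℂ) with hH0
      have hSθ := (mem_midSet.1 hθ).2.1
      have hS0 : S ≤ H0 := le_inf hSH hSθ
      set B := S.map (MulAut.conj g).toMonoidHom with hB
      have hB0 : B ≤ H0 := by
        rintro _ ⟨s, hs, rfl⟩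
        refine ⟨H.mul_mem (H.mul_mem hg (hSH hs)) (H.inv_mem hg), Subgroup.mul_mem _ (Subgroup.mul_mem _ (hnK hg) (hnK (hSH hs)))
          (Subgroup.inv_mem _ (hnK hg)), fun z => ?_⟩
        have hs' := ((mem_midSet.1 hθ').2.1 hs).2 (g⁻¹ * z * g)
        rw [← e, ext_conjI, ext_conjI] at hs'
        show extendByZero K (θ : K → ℂ) ((g * s * g⁻¹) * z * (g * s * g⁻¹)⁻¹) = _
        rw [show (g * s * g⁻¹) * z * (g * s * g⁻¹)⁻¹ = g * (s * (g⁻¹ * z * g) * s⁻¹) * g⁻¹ by group, hs']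
        congr 1
        group
      have hcard : Nat.card B = Nat.card S := Subgroup.card_map_of_injective (MulAut.conj g).injective
      have hSi0 : ¬ p ∣ S.relIndex H0 := fun h => hSi (h.trans (Dvd.intro _
        (Subgroup.relIndex_mul_relIndex S H0 H hS0 inf_le_left)))
      have hBi : ¬ p ∣ B.relIndex H0 := by
        have h1 := Subgroup.relIndex_mul_relIndex ⊥ B H0 bot_le hB0
        have h2 := Subgroup.relIndex_mul_relIndex ⊥ S H0 bot_le hS0
        rw [Subgroup.relIndex_bot_left, Subgroup.relIndex_bot_left, hcard] at h1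
        rw [Subgroup.relIndex_bot_left, Subgroup.relIndex_bot_left] at h2
        rw [Nat.eq_of_mul_eq_mul_left Nat.card_pos (h1.trans h2.symm)]
        exact hSi0
      obtain ⟨t, ht, hmap⟩ := exists_conj_map_eq hB0 hS0 (hS.map _) hS hBi hSi0
      refine ⟨t * g, ⟨mul_mem ht.1 hg, ?_⟩, fun z => ?_⟩
      · have hm : S.map (MulAut.conj (t * g)).toMonoidHom = S := by
          conv_rhs => rw [← hmap]
          rw [hB, Subgroup.map_map]
          congr 1
          ext z
          simp [mul_assoc]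
        show t * g ∈ Subgroup.normalizer (S : Set Γ)
        rw [Subgroup.mem_set_normalizer_iff]
        intro z
        constructor
        · exact fun hz => hm ▸ ⟨z, hz, rfl⟩
        · intro hz
          obtain ⟨w, hw, e'⟩ := hm.symm ▸ hz
          rwa [← (MulAut.conj (t * g)).injective e']
      · rw [← e, ext_conjI, show t * g * z * (t * g)⁻¹ = t * (g * z * g⁻¹) * t⁻¹ by group, ht.2.2]
    · rintro ⟨hθ', g, hg, e⟩
      refine ⟨hθ', ?_⟩
      have he : θ' = conjI K g (hnK hg.1) θ := Subtype.ext (ext_inj fun z => by rw [ext_conjI, e])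
      rw [he, inn_conjI (hnK hg.1) (fun z =>
        extendByZero_conj (isClassFunction_character (irr_isCharacter χ.2)) hg.1 z)]
      exact hne
  classical
  have hcnt : ∀ (M : Subgroup Γ) (τ : M → ℂ), (cnt p H M τ : ℂ) = ∑ χ : IrrCharacter H,
      if ¬ p ∣ deg (χ : H → ℂ) ∧ inn M (extendByZero H (χ : H → ℂ)) τ ≠ 0 then 1 else 0 := by
    intro M τ
    rw [cnt, Nat.card_eq_fintype_card, Fintype.card_subtype, Finset.sum_boole]
  rw [hcnt]
  simp only [hcnt, Finset.sum_mul]
  rw [Finset.sum_comm]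
  refine Finset.sum_congr rfl fun χ _ => ?_
  by_cases hgood : ¬ p ∣ deg (χ : H → ℂ) ∧ inn L (extendByZero H (χ : H → ℂ)) (ν : L → ℂ) ≠ 0
  · obtain ⟨θ₀, hθ₀, hne₀⟩ := hexists χ hgood.1 hgood.2
    rw [if_pos hgood, ← Finset.sum_subset (show midClass p K S L (ν : L → ℂ) R θ₀ ⊆ X from
      Finset.filter_subset _ _) fun θ hθ hout => ?_]
    · have hval : ∀ θ ∈ midClass p K S L (ν : L → ℂ) R θ₀,
          (if ¬ p ∣ deg (χ : H → ℂ) ∧ inn K (extendByZero H (χ : H → ℂ)) (θ : K → ℂ) ≠ 0 then (1 : ℂ) else 0) *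
            ((midClass p K S L (ν : L → ℂ) R θ).card : ℂ)⁻¹ =
          ((midClass p K S L (ν : L → ℂ) R θ₀).card : ℂ)⁻¹ := fun θ hθ => by
        have h1 := (hclass χ θ₀ hθ₀ hne₀ θ).2 hθ
        have e : midClass p K S L (ν : L → ℂ) R θ = midClass p K S L (ν : L → ℂ) R θ₀ :=
          Finset.ext fun w => (hclass χ θ h1.1 h1.2 w).symm.trans (hclass χ θ₀ hθ₀ hne₀ w)
        rw [if_pos ⟨hgood.1, h1.2⟩, one_mul, e]
      rw [Finset.sum_congr rfl hval, Finset.sum_const, nsmul_eq_mul, mul_inv_cancel₀]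
      exact Nat.cast_ne_zero.2 (Finset.card_ne_zero_of_mem ((hclass χ θ₀ hθ₀ hne₀ θ₀).1 ⟨hθ₀, hne₀⟩))
    · rw [if_neg fun h => hout ((hclass χ θ₀ hθ₀ hne₀ θ).1 ⟨hθ, h.2⟩), zero_mul]
  · rw [if_neg hgood, Finset.sum_eq_zero fun θ hθ => ?_]
    rw [if_neg fun h => hgood ⟨h.1, hpos χ θ ν h.2 (mem_midSet.1 hθ).2.2⟩, zero_mul]

end Cfsg.Agent.Char.RelMcKay
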