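import Cfsg.Agent.Lib.Char.RelMcKay.Over
import Cfsg.Agent.Lib.Char.GlaubermanOver
import Mathlib

/-!
# The correspondence of Glauberman through multiplicities prime to `p`
-/

open scoped ComplexConjugate commutatorElement
open Cfsg Module

set_option autoImplicit false
set_option linter.style.haveILetI false
set_option linter.unusedSectionVars false

attribute [local instance] Fintype.ofFinite

namespace Cfsg.Agent.Char.RelMcKay

universe u

variable {Γ : Type u} [Group Γ] [Finite Γ]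

/-- The fixed points of `S` in `K`. -/
abbrev fixC (K S : Subgroup Γ) : Subgroup Γ := K ⊓ Subgroup.centralizer (S : Set Γ)

/-- The multiplicity is not a multiple of `p`. -/
def PNd (p : ℕ) (M : Subgroup Γ) (f : Γ → ℂ) (θ : M → ℂ) : Prop :=
  ∀ n : ℕ, inn M f θ = n → ¬ p ∣ n

theorem PNd.ne_zero {p : ℕ} {M : Subgroup Γ} {f : Γ → ℂ} {θ : M → ℂ} (h : PNd p M f θ) :
    inn M f θ ≠ 0 := fun h0 => h 0 (by rw [h0, Nat.cast_zero]) (dvd_zero p)

variable {p : ℕ} {K S : Subgroup Γ}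

theorem exists_coprimeFix (hp : p.Prime) (hS : IsPGroup p S) (hn : S ≤ Subgroup.normalizer (K : Set Γ))
    (hco : ¬ p ∣ Nat.card K) : ∃ (J : Ideal AlgInt) (φ : S →* MulAut K),
      (∀ (s : S) (k : K), ((φ s k : K) : Γ) = s * k * (s : Γ)⁻¹) ∧
      CoprimeFix J p φ
        (Subgroup.inclusion (inf_le_left : fixC K S ≤ K)) := by
  obtain ⟨J, hJ⟩ := exists_pModular hp
  refine ⟨J, conjActHom K S fun s hs g hg => (conj_mem_iff (hn hs) g).2 hg, fun s k => rfl,
    { pmod := hJ, pgroup := hS, coprime := hco, inj := Subgroup.inclusion_injective _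
      range := fun g => ?_ }⟩
  constructor
  · rintro ⟨c, rfl⟩ s
    refine Subtype.ext ?_
    show (s : Γ) * c * (s : Γ)⁻¹ = c
    rw [Subgroup.mem_centralizer_iff.1 c.2.2 s s.2]
    group
  · intro h
    refine ⟨⟨g, g.2, Subgroup.mem_centralizer_iff.2 fun s hs => ?_⟩, rfl⟩
    exact mul_inv_eq_iff_eq_mul.1 (congrArg Subtype.val (h ⟨s, hs⟩))

theorem inn_fix_eq (θ : IrrCharacter K) (φ : IrrCharacter ↥(fixC K S)) :
    inn (fixC K S) (extendByZero K (θ : K → ℂ)) (φ : fixC K S → ℂ) =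
      classInner ((θ : K → ℂ) ∘ Subgroup.inclusion inf_le_left) (φ : fixC K S → ℂ) := by
  rw [inn]
  congr 1
  funext c
  exact extendByZero_mem K _ c.2.1

section Corr

variable (hp : p.Prime) (hS : IsPGroup p S) (hn : S ≤ Subgroup.normalizer (K : Set Γ))
  (hco : ¬ p ∣ Nat.card K)
include hp hS hn hco

/-- The relation of having multiplicity prime to `p` is the graph of a bijection. -/
theorem corr_graph : ∃ c : IrrCharacter ↥(fixC K S) → IrrCharacter K,
    Function.Injective c ∧ (∀ φ, S ≤ charStab K (c φ : K → ℂ)) ∧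
    (∀ θ : IrrCharacter K, S ≤ charStab K (θ : K → ℂ) → ∃ φ, c φ = θ) ∧
    ∀ θ : IrrCharacter K, S ≤ charStab K (θ : K → ℂ) → ∀ φ : IrrCharacter ↥(fixC K S),
      (PNd p (fixC K S) (extendByZero K (θ : K → ℂ)) (φ : fixC K S → ℂ) ↔
        c φ = θ) := by
  obtain ⟨J, a, ha, h⟩ := exists_coprimeFix hp hS hn hco
  have hfix : ∀ θ : IrrCharacter K,
      S ≤ charStab K (θ : K → ℂ) ↔ ∀ s k, (θ : K → ℂ) (a s k) = (θ : K → ℂ) k := fun θ => by
    constructor
    · intro hs s k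
      exact (mem_charStab_iff.1 (hs s.2)).2 k (a s k) (ha s k)
    · intro hs x hx
      refine mem_charStab_iff.2 ⟨hn hx, fun m m' e => ?_⟩
      rw [show m' = a ⟨x, hx⟩ m from Subtype.ext (e.trans (ha ⟨x, hx⟩ m).symm), hs]
  refine ⟨h.corr, h.corr_injective, fun φ => (hfix _).2 fun s k => h.corr_inv φ s k,
    fun θ hθ => h.corr_surjective ((hfix θ).1 hθ), fun θ hθ φ => ?_⟩
  obtain ⟨m, hm⟩ := inn_natCast (M := K ⊓ Subgroup.centralizer (S : Set Γ)) inf_le_left
    (irr_isCharacter θ.2) φ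
  have hm' := (inn_fix_eq θ φ).symm.trans hm
  obtain ⟨h1, h2⟩ := h.multiplicity ((hfix θ).1 hθ) φ hm'
  constructor
  · intro hnd
    by_contra hne
    exact hnd m hm (h2 hne)
  · intro he n hn' hdvd
    obtain rfl : n = m := by exact_mod_cast hn'.symm.trans hm
    have hd : (p : ℤ) ∣ (n : ℤ) := Int.natCast_dvd_natCast.2 hdvd
    rcases h1 he with e | e
    · have := dvd_add (Int.modEq_iff_dvd.1 e) hd
      rw [sub_add_cancel] at this
      exact hp.one_lt.ne' (Nat.dvd_one.1 (Int.natCast_dvd_natCast.1 this))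
    · have := dvd_add (Int.modEq_iff_dvd.1 e) hd
      rw [sub_add_cancel, dvd_neg] at this
      exact hp.one_lt.ne' (Nat.dvd_one.1 (Int.natCast_dvd_natCast.1 this))

theorem exists_right (θ : IrrCharacter K) (hθ : S ≤ charStab K (θ : K → ℂ)) :
    ∃ φ : IrrCharacter ↥(fixC K S),
      PNd p (fixC K S) (extendByZero K (θ : K → ℂ)) (φ : fixC K S → ℂ) := by
  obtain ⟨c, -, -, hsur, hiff⟩ := corr_graph hp hS hn hco
  obtain ⟨φ, hφ⟩ := hsur θ hθ
  exact ⟨φ, (hiff θ hθ φ).2 hφ⟩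

theorem exists_left (φ : IrrCharacter ↥(fixC K S)) :
    ∃ θ : IrrCharacter K, S ≤ charStab K (θ : K → ℂ) ∧
      PNd p (fixC K S) (extendByZero K (θ : K → ℂ)) (φ : fixC K S → ℂ) := by
  obtain ⟨c, -, hfix, -, hiff⟩ := corr_graph hp hS hn hco
  exact ⟨c φ, hfix φ, (hiff _ (hfix φ) φ).2 rfl⟩

theorem unique_right {θ : IrrCharacter K} (hθ : S ≤ charStab K (θ : K → ℂ))
    {φ φ' : IrrCharacter ↥(fixC K S)}
    (h : PNd p (fixC K S) (extendByZero K (θ : K → ℂ)) (φ : fixC K S → ℂ))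
    (h' : PNd p (fixC K S) (extendByZero K (θ : K → ℂ)) (φ' : fixC K S → ℂ)) :
    φ = φ' := by
  obtain ⟨c, hinj, -, -, hiff⟩ := corr_graph hp hS hn hco
  exact hinj (((hiff θ hθ φ).1 h).trans ((hiff θ hθ φ').1 h').symm)

theorem unique_left {θ θ' : IrrCharacter K} (hθ : S ≤ charStab K (θ : K → ℂ))
    (hθ' : S ≤ charStab K (θ' : K → ℂ))
    {φ : IrrCharacter ↥(fixC K S)}
    (h : PNd p (fixC K S) (extendByZero K (θ : K → ℂ)) (φ : fixC K S → ℂ))
    (h' : PNd p (fixC K S) (extendByZero K (θ' : K → ℂ)) (φ : fixC K S → ℂ)) :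
    θ = θ' := by
  obtain ⟨c, -, -, -, hiff⟩ := corr_graph hp hS hn hco
  exact ((hiff θ hθ φ).1 h).symm.trans ((hiff θ' hθ' φ).1 h')

end Corr

theorem PNd.conj {M : Subgroup Γ} {f : Γ → ℂ} {g : Γ} (hg : g ∈ Subgroup.normalizer (M : Set Γ))
    {θ : IrrCharacter M} (h : PNd p M f (θ : M → ℂ)) :
    PNd p M (fun z => f (g * z * g⁻¹)) (conjI M g hg θ : M → ℂ) := by
  intro n hn
  refine h n (Eq.trans ?_ hn)
  simp only [inn, classInner]
  congr 1
  exact (Fintype.sum_equiv (normAut M g hg).toEquiv _ _ fun m => rfl).symm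

/-- Multiplicities prime to `p` factor through an intermediate subgroup. -/
theorem PNd.chain {A B : Subgroup Γ} (hBA : B ≤ A) {H : Subgroup Γ} (hAH : A ≤ H)
    {χ : H → ℂ} (hχ : IsCharacter H χ) {φ : IrrCharacter B}
    (h : PNd p B (extendByZero H χ) (φ : B → ℂ)) :
    ∃ ψ : IrrCharacter A, PNd p A (extendByZero H χ) (ψ : A → ℂ) ∧
      PNd p B (extendByZero A (ψ : A → ℂ)) (φ : B → ℂ) := by
  choose a ha using fun ψ : IrrCharacter A => inn_natCast hAH hχ ψ
  choose b hb using fun ψ : IrrCharacter A => inn_natCast hBA (irr_isCharacter ψ.2) φ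
  have e : inn B (extendByZero H χ) (φ : B → ℂ) = ((∑ ψ, a ψ * b ψ : ℕ) : ℂ) := by
    push_cast
    simp only [← ha, ← hb]
    simp only [inn, classInner]
    rw [Finset.sum_congr rfl (g := fun k : B => ∑ ψ : IrrCharacter A,
      inn A (extendByZero H χ) (ψ : A → ℂ) *
        (extendByZero A (ψ : A → ℂ) k * conj ((φ : B → ℂ) k))) fun k _ => ?_,
      Finset.sum_comm, Finset.mul_sum]
    · refine Finset.sum_congr rfl fun ψ _ => ?_
      simp only [inn, classInner]
      rw [← Finset.mul_sum]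
      ring
    · rw [show extendByZero H χ k = extendByZero H χ ((⟨(k : Γ), hBA k.2⟩ : A) : Γ) from rfl,
        res_expansion hAH hχ, Finset.sum_mul]
      refine Finset.sum_congr rfl fun ψ _ => ?_
      rw [extendByZero_mem A _ (hBA k.2), mul_assoc]
  by_contra hno
  push Not at hno
  refine h _ e (Finset.dvd_sum fun ψ _ => ?_)
  by_cases hA : p ∣ a ψ
  · exact hA.mul_right _
  by_cases hB : p ∣ b ψ
  · exact hB.mul_left _
  refine absurd ?_ (hno ψ fun n hn => ?_)
  · intro n hn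
    obtain rfl : n = b ψ := by exact_mod_cast hn.symm.trans (hb ψ)
    exact hB
  · obtain rfl : n = a ψ := by exact_mod_cast hn.symm.trans (ha ψ)
    exact hA

end Cfsg.Agent.Char.RelMcKay
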