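import Cfsg.Agent.Lib.Char.RelMcKay.Over
import Mathlib

/-!
# Inflation along surjections, characters over invariant characters
-/

open scoped ComplexConjugate
open Cfsg Module

set_option autoImplicit false
set_option linter.style.haveILetI false
set_option linter.unusedSectionVars false

attribute [local instance] Fintype.ofFinite

namespace Cfsg.Agent.Char.RelMcKay

universe u

theorem isIrr_comp_surj {A B : Type u} [Group A] [Group B] [Finite A] [Finite B] (f : A →* B)
    (hf : Function.Surjective f) {χ : B → ℂ} (h : IsIrrCharacter B χ) :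
    IsIrrCharacter A fun a => χ (f a) := by
  let e : A ⧸ f.ker ≃* B := QuotientGroup.quotientKerEquivOfSurjective f hf
  have h1 := isIrrCharacter_comp_equiv e h
  exact isIrr_inflate f.ker h1

theorem exists_descend {A B : Type u} [Group A] [Group B] [Finite A] [Finite B] (f : A →* B)
    (hf : Function.Surjective f) {ξ : A → ℂ} (h : IsIrrCharacter A ξ)
    (hker : ∀ a, f a = 1 → ξ a = ξ 1) :
    ∃ χ : IrrCharacter B, ∀ a, (χ : B → ℂ) (f a) = ξ a := by
  let e : A ⧸ f.ker ≃* B := QuotientGroup.quotientKerEquivOfSurjective f hf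
  obtain ⟨χ', hχ'⟩ := exists_deflate f.ker h fun n hn => hker n (MonoidHom.mem_ker.1 hn)
  refine ⟨⟨fun b => (χ' : A ⧸ f.ker → ℂ) (e.symm b), isIrrCharacter_comp_equiv e.symm χ'.2⟩, fun a => ?_⟩
  show (χ' : A ⧸ f.ker → ℂ) (e.symm (f a)) = ξ a
  rw [← hχ', show f a = e (QuotientGroup.mk a) from rfl, MulEquiv.symm_apply_apply]

variable {Γ : Type u} [Group Γ] [Finite Γ]

/-- Over an invariant character the restriction is a multiple. -/
theorem inn_ne_zero_iff {L H : Subgroup Γ} (hLH : L ≤ H) (hn : H ≤ Subgroup.normalizer (L : Set Γ))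
    (ν : IrrCharacter L) (hinv : H ≤ charStab L (ν : L → ℂ)) (χ : IrrCharacter H) :
    inn L (extendByZero H (χ : H → ℂ)) (ν : L → ℂ) ≠ 0 ↔
      ∀ l : L, extendByZero H (χ : H → ℂ) l * (ν : L → ℂ) 1 = (χ : H → ℂ) 1 * (ν : L → ℂ) l := by
  constructor
  · intro h l
    have hout : ∀ ζ : IrrCharacter L, ζ ≠ ν → inn L (extendByZero H (χ : H → ℂ)) (ζ : L → ℂ) = 0 := by
      intro ζ hζ
      by_contra hne
      obtain ⟨g, hg, e⟩ := constituents_conj hLH hn χ h hne
      rw [(mem_charStab_iff_conjI (hn hg) ν).1 (hinv hg)] at e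
      exact hζ e.symm
    have e : ∀ m : L, extendByZero H (χ : H → ℂ) m =
        inn L (extendByZero H (χ : H → ℂ)) (ν : L → ℂ) * (ν : L → ℂ) m := fun m => by
      rw [res_expansion hLH (irr_isCharacter χ.2) m, Finset.sum_eq_single ν
        (fun ζ _ hζ => by rw [hout ζ hζ, zero_mul]) (by simp)]
    have e1 := e 1
    rw [OneMemClass.coe_one, extendByZero_mem H _ (one_mem H)] at e1
    rw [e l, show (χ : H → ℂ) 1 = _ from e1]
    ring
  · intro h
    have e : (fun m : L => extendByZero H (χ : H → ℂ) m) =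
        ((χ : H → ℂ) 1 / (ν : L → ℂ) 1) • (ν : L → ℂ) := funext fun m => by
      rw [Pi.smul_apply, smul_eq_mul, div_mul_eq_mul_div, eq_div_iff (irr_one_ne_zero ν.2)]
      exact h m
    rw [inn, e, classInner_smul_left, irr_self ν.2, mul_one]
    exact div_ne_zero (irr_one_ne_zero χ.2) (irr_one_ne_zero ν.2)

theorem cnt_eq_zero_of_dvd {p : ℕ} {L H : Subgroup Γ} (hLH : L ≤ H)
    (hn : H ≤ Subgroup.normalizer (L : Set Γ)) (ν : IrrCharacter L) (hd : p ∣ deg (ν : L → ℂ)) :
    cnt p H L (ν : L → ℂ) = 0 := by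
  rw [cnt, Nat.card_eq_zero]
  exact Or.inl ⟨fun χ => χ.2.1 (hd.trans (deg_constituent_dvd hLH hn χ.1 χ.2.2).1)⟩

end Cfsg.Agent.Char.RelMcKay
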