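import Cfsg.Agent.Lib.Char.RelMcKay.CentralFinal
import Cfsg.Agent.Lib.Char.RelMcKay.Lifts
import Cfsg.Agent.Lib.Char.ProjRep
import Mathlib

/-!
# Reduction of an invariant character to a central one
-/

open scoped ComplexConjugate commutatorElement
open Cfsg Module

set_option autoImplicit false
set_option linter.style.haveILetI false
set_option linter.unusedSectionVars false

attribute [local instance] Fintype.ofFinite

namespace Cfsg.Agent.Char.RelMcKay

universe u

theorem over_iff {A : Type u} [Group A] [Finite A] (N : Subgroup A) [N.Normal] {θ : N → ℂ}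
    (hθ : IsIrrCharacter N θ) (hinv : ∀ (a : A) (n : N), θ (MulAut.conjNormal a n) = θ n) {ξ : A → ℂ}
    (hξ : IsIrrCharacter A ξ) :
    classInner (indFun N θ) ξ ≠ 0 ↔ ∀ n : N, ξ n * θ 1 = ξ 1 * θ n := by
  rw [frobenius N _ (isClassFunction_character (irr_isCharacter hξ)), ← classInner_symm, ne_eq,
    map_eq_zero]
  constructor
  · intro h n
    have hc := clifford_restrict ⟨ξ, hξ⟩ ⟨θ, hθ⟩ h
    have horb : cliffOrbit N (⟨θ, hθ⟩ : IrrCharacter N) = {⟨θ, hθ⟩} := by
      refine Finset.eq_singleton_iff_unique_mem.2 ⟨self_mem_cliffOrbit _, fun ψ hψ => ?_⟩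
      obtain ⟨a, rfl⟩ := mem_cliffOrbit.1 hψ
      exact Subtype.ext (funext fun m => hinv a m)
    rw [horb, Finset.sum_singleton] at hc
    have e1 := congrFun hc n
    have e2 := congrFun hc 1
    simp only [Pi.smul_apply, smul_eq_mul, OneMemClass.coe_one] at e1 e2
    rw [e1, e2]
    ring
  · intro h
    have e : (fun n : N => ξ n) = (ξ 1 / θ 1) • θ := funext fun n => by
      rw [Pi.smul_apply, smul_eq_mul, div_mul_eq_mul_div, eq_div_iff (irr_one_ne_zero hθ)]
      exact h n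
    rw [e, classInner_smul_left, irr_self hθ, mul_one]
    exact div_ne_zero (irr_one_ne_zero hξ) (irr_one_ne_zero hθ)

variable {G E Γ : Type u} [Group G] [Finite G] [Group E] [Finite E] [Group Γ] [Finite Γ]

set_option maxHeartbeats 800000 in
/-- The correspondence given by an extension on a covering group. -/
theorem lift_count {p : ℕ} (hp : p.Prime) {L : Subgroup G} [L.Normal] (ν : IrrCharacter L)
    (hν : ⊤ ≤ charStab L (ν : L → ℂ)) (hνp : ¬ p ∣ deg (ν : L → ℂ))
    (π : E →* G) (hπ : Function.Surjective π) (q : E →* Γ) (ψ : E → ℂ) (hψ : IsCharacter E ψ)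
    (μ0 : L.comap π →* ℂˣ) (μ : (L.comap π).map q →* ℂˣ)
    (hμ : ∀ (z : L.comap π), μ ⟨q z, ⟨z, z.2, rfl⟩⟩ = μ0 z)
    (hψν : ∀ z : L.comap π, (μ0 z : ℂ) * ψ z = (ν : L → ℂ) ⟨π z, z.2⟩)
    (hμinv : ∀ (h : E) (z z' : L.comap π), (z' : E) = h * z * h⁻¹ → μ0 z' = μ0 z)
    (hker : ∀ e : E, q e = 1 → ∃ he : e ∈ L.comap π, μ0 ⟨e, he⟩ = 1)
    (H : Subgroup G) (hLH : L ≤ H) :
    cnt p H L (ν : L → ℂ) = cmu p μ ((H.comap π).map q) := by
  have hle : (L.comap π) ≤ (H.comap π) := Subgroup.comap_mono hLH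
  let N : Subgroup (H.comap π) := (L.comap π).subgroupOf (H.comap π)
  let φ0 : N →* ℂˣ := μ0.comp (Subgroup.subgroupOfEquivOfLe hle).toMonoidHom
  let φ : N → ℂ := fun n => (φ0 n : ℂ)
  let ϑ : N → ℂ := fun n => ψ ((n : (H.comap π)) : E)
  let g : (H.comap π) →* H := π.subgroupComap H
  have hg : Function.Surjective g := fun h => by
    obtain ⟨e, he⟩ := hπ h
    exact ⟨⟨e, show π e ∈ H by rw [he]; exact h.2⟩, Subtype.ext he⟩
  let f : (H.comap π) →* (H.comap π).map q := q.subgroupMap (H.comap π)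
  have hf : Function.Surjective f := q.subgroupMap_surjective (H.comap π)
  let gN : N →* L := (π.subgroupComap L).comp (Subgroup.subgroupOfEquivOfLe hle).toMonoidHom
  have hgN : Function.Surjective gN := fun l => by
    obtain ⟨e, he⟩ := hπ l
    have hmem : e ∈ (L.comap π) := show π e ∈ L by rw [he]; exact l.2
    exact ⟨⟨⟨e, hle hmem⟩, hmem⟩, Subtype.ext he⟩
  have hprodeq : φ * ϑ = fun n => (ν : L → ℂ) (gN n) := funext fun n => hψν (Subgroup.subgroupOfEquivOfLe hle n)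
  have hprod : IsIrrCharacter N (φ * ϑ) := hprodeq ▸ isIrr_comp_surj gN hgN ν.2
  have hφinv : ∀ (a : (H.comap π)) (n : N), φ (MulAut.conjNormal a n) = φ n := fun a n => by
    show ((μ0 _ : ℂˣ) : ℂ) = ((μ0 _ : ℂˣ) : ℂ)
    congr 1
    refine hμinv (a : E) _ _ ?_
    show (((MulAut.conjNormal a n : N) : (H.comap π)) : E) = _
    rw [MulAut.conjNormal_apply]
    rfl
  have hϑinv : ∀ (a : (H.comap π)) (n : N), ϑ (MulAut.conjNormal a n) = ϑ n := fun a n => by
    show ψ _ = ψ _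
    rw [MulAut.conjNormal_apply]
    exact isClassFunction_character hψ _ _
  have hprodinv : ∀ (a : (H.comap π)) (n : N), (φ * ϑ) (MulAut.conjNormal a n) = (φ * ϑ) n := fun a n => by
    rw [Pi.mul_apply, Pi.mul_apply, hφinv, hϑinv]
  have hφirr : IsIrrCharacter N φ := isIrrCharacter_linear φ0
  have hgal := gallagher N φ ϑ hφirr hφinv hϑinv hprod
    (χ := fun a : (H.comap π) => ψ (a : E)) (isCharacter_comp (H.comap π).subtype hψ) fun n => rfl
  have hν1 : (φ * ϑ) 1 = (ν : L → ℂ) 1 := by rw [hprodeq]; simp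
  have hψ1 : ψ 1 = (ν : L → ℂ) 1 := by
    have := hψν 1
    rw [map_one, Units.val_one, one_mul] at this
    refine this.trans (congrArg (ν : L → ℂ) (Subtype.ext (map_one π)))
  -- over `μ` below, over `ν` above
  have hcenA : ∀ β : IrrCharacter ↥((H.comap π).map q), Cen μ ((H.comap π).map q) (β : ↥((H.comap π).map q) → ℂ) ↔
      classInner (indFun N φ) (fun a => (β : ↥((H.comap π).map q) → ℂ) (f a)) ≠ 0 := fun β => by
    rw [over_iff N hφirr hφinv (isIrr_comp_surj f hf β.2)]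
    constructor
    · intro hc n
      have hn : ((n : (H.comap π)) : E) ∈ (L.comap π) := n.2
      have h1 := hc ⟨q ((n : (H.comap π)) : E), ⟨_, hn, rfl⟩⟩ ⟨_, (n : (H.comap π)).2, rfl⟩
      rw [extendByZero_mem ((H.comap π).map q) _ (⟨_, (n : (H.comap π)).2, rfl⟩ : q ((n : (H.comap π)) : E) ∈ (H.comap π).map q),
        hμ ⟨_, hn⟩] at h1
      show (β : ↥((H.comap π).map q) → ℂ) (f (n : (H.comap π))) * ((φ0 1 : ℂˣ) : ℂ) = (β : ↥((H.comap π).map q) → ℂ) (f 1) * φ n
      rw [map_one φ0, map_one f, Units.val_one, mul_one]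
      exact h1
    · intro hc z _
      obtain ⟨w, hw, hwz⟩ := z.2
      have h1 := hc ⟨⟨w, hle hw⟩, hw⟩
      rw [show φ 1 = 1 by simp [φ], mul_one, map_one f] at h1
      rw [show z = ⟨q w, ⟨w, hw, rfl⟩⟩ from Subtype.ext hwz.symm,
        extendByZero_mem ((H.comap π).map q) _ (⟨w, hle hw, rfl⟩ : q w ∈ (H.comap π).map q), hμ ⟨w, hw⟩]
      exact h1
  have hoverH : ∀ χ : IrrCharacter H, inn L (extendByZero H (χ : H → ℂ)) (ν : L → ℂ) ≠ 0 ↔
      classInner (indFun N (φ * ϑ)) (fun a => (χ : H → ℂ) (g a)) ≠ 0 := fun χ => by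
    rw [over_iff N hprod hprodinv (isIrr_comp_surj g hg χ.2),
      inn_ne_zero_iff hLH (Subgroup.normalizer_eq_top (H := L) ▸ le_top) ν (le_top.trans hν) χ, hν1,
      map_one g]
    constructor
    · intro hc n
      have := hc (gN n)
      rw [extendByZero_mem H _ (hLH (gN n).2)] at this
      rw [hprodeq]
      exact this
    · intro hc l
      obtain ⟨n, rfl⟩ := hgN l
      have := hc n
      rw [hprodeq] at this
      rw [extendByZero_mem H _ (hLH (gN n).2)]
      exact this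
  have hξ : ∀ β : {β : IrrCharacter ↥((H.comap π).map q) //
      ¬ p ∣ deg (β : ↥((H.comap π).map q) → ℂ) ∧ Cen μ ((H.comap π).map q) (β : ↥((H.comap π).map q) → ℂ)},
      ∃ χ : {χ : IrrCharacter H // ¬ p ∣ deg (χ : H → ℂ) ∧ inn L (extendByZero H (χ : H → ℂ)) (ν : L → ℂ) ≠ 0},
        ∀ a : (H.comap π), (χ.1 : H → ℂ) (g a) = (β.1 : ↥((H.comap π).map q) → ℂ) (f a) * ψ (a : E) := by
    intro β
    obtain ⟨hirr, hover⟩ := hgal.mapsTo (x := fun a => (β.1 : ↥((H.comap π).map q) → ℂ) (f a))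
      ⟨isIrr_comp_surj f hf β.1.2, (hcenA β.1).1 β.2.2⟩
    have hk : ∀ a : (H.comap π), g a = 1 → (β.1 : ↥((H.comap π).map q) → ℂ) (f a) * ψ (a : E) =
        (β.1 : ↥((H.comap π).map q) → ℂ) (f 1) * ψ ((1 : (H.comap π)) : E) := fun a ha => by
      have hπa : π (a : E) = 1 := congrArg Subtype.val ha
      have haN : a ∈ N := show π (a : E) ∈ L by rw [hπa]; exact one_mem L
      have h1 := (over_iff N hprod hprodinv hirr).1 hover ⟨a, haN⟩
      rw [hprodeq] at h1
      beta_reduce at h1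
      rw [map_one gN, show gN ⟨a, haN⟩ = 1 from Subtype.ext hπa] at h1
      exact mul_right_cancel₀ (irr_one_ne_zero ν.2) h1
    obtain ⟨χ, hχ⟩ := exists_descend g hg hirr hk
    have hinn : inn L (extendByZero H (χ : H → ℂ)) (ν : L → ℂ) ≠ 0 := by
      rw [hoverH, funext hχ]
      exact hover
    have hdeg : deg (χ : H → ℂ) = deg (β.1 : ↥((H.comap π).map q) → ℂ) * deg (ν : L → ℂ) := by
      apply Nat.cast_injective (R := ℂ)
      push_cast
      rw [← char_one_eq_deg (irr_isCharacter χ.2), ← char_one_eq_deg (irr_isCharacter β.1.2),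
        ← char_one_eq_deg (irr_isCharacter ν.2), ← map_one g, hχ]
      show (β.1 : ↥((H.comap π).map q) → ℂ) (f 1) * ψ 1 = _
      rw [map_one, hψ1]
    exact ⟨⟨χ, by rw [hdeg]; exact fun h => (hp.dvd_mul.1 h).elim β.2.1 hνp, hinn⟩, hχ⟩
  choose F hF using hξ
  symm
  refine Nat.card_congr (Equiv.ofBijective F ⟨fun β β' h => ?_, fun χ => ?_⟩)
  · have e : (fun a : (H.comap π) => (β.1 : ↥((H.comap π).map q) → ℂ) (f a) * ψ (a : E)) =
        fun a => (β'.1 : ↥((H.comap π).map q) → ℂ) (f a) * ψ (a : E) := funext fun a => by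
      rw [← hF, ← hF, h]
    have h2 := hgal.injOn (x₁ := fun a => (β.1 : ↥((H.comap π).map q) → ℂ) (f a))
      ⟨isIrr_comp_surj f hf β.1.2, (hcenA β.1).1 β.2.2⟩
      (x₂ := fun a => (β'.1 : ↥((H.comap π).map q) → ℂ) (f a))
      ⟨isIrr_comp_surj f hf β'.1.2, (hcenA β'.1).1 β'.2.2⟩ e
    refine Subtype.ext (Subtype.ext (funext fun w => ?_))
    obtain ⟨a, rfl⟩ := hf w
    exact congrFun h2 a
  · obtain ⟨γ, ⟨hγ, hγ1⟩, hγe⟩ := hgal.surjOn
      (show (fun a => (χ.1 : H → ℂ) (g a)) ∈ {ξ : (H.comap π) → ℂ | IsIrrCharacter (H.comap π) ξ ∧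
        classInner (indFun N (φ * ϑ)) ξ ≠ 0} from ⟨isIrr_comp_surj g hg χ.1.2, (hoverH χ.1).1 χ.2.2⟩)
    have hk : ∀ a : (H.comap π), f a = 1 → γ a = γ 1 := fun a ha => by
      obtain ⟨he, hμ1⟩ := hker (a : E) (congrArg Subtype.val ha)
      have h1 := (over_iff N hφirr hφinv hγ).1 hγ1 ⟨a, he⟩
      rw [show φ 1 = 1 by simp [φ], mul_one] at h1
      rw [h1, show φ ⟨a, he⟩ = (μ0 ⟨(a : E), he⟩ : ℂ) from rfl, hμ1, Units.val_one, mul_one]
    obtain ⟨β, hβ⟩ := exists_descend f hf hγ hk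
    have hfun : (fun a => (β : ↥((H.comap π).map q) → ℂ) (f a)) = γ := funext hβ
    have hdeg : deg (χ.1 : H → ℂ) = deg (β : ↥((H.comap π).map q) → ℂ) * deg (ν : L → ℂ) := by
      apply Nat.cast_injective (R := ℂ)
      push_cast
      rw [← char_one_eq_deg (irr_isCharacter χ.1.2), ← char_one_eq_deg (irr_isCharacter β.2),
        ← char_one_eq_deg (irr_isCharacter ν.2), ← map_one g]
      rw [← show γ 1 * ψ ((1 : (H.comap π)) : E) = (χ.1 : H → ℂ) (g 1) from congrFun hγe 1, ← hβ, map_one,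
        OneMemClass.coe_one, hψ1]
    refine ⟨⟨β, fun h => χ.2.1 (hdeg ▸ h.mul_right _), (hcenA β).2 (hfun ▸ hγ1)⟩, ?_⟩
    refine Subtype.ext (Subtype.ext (funext fun w => ?_))
    obtain ⟨a, rfl⟩ := hg w
    rw [hF]
    show (β : ↥((H.comap π).map q) → ℂ) (f a) * ψ (a : E) = _
    rw [hβ]
    exact congrFun hγe a

set_option maxHeartbeats 600000 in
/-- An invariant character reduces to a central character of a covering group. -/
theorem exists_triple {p : ℕ} (hp : p.Prime) {L : Subgroup G} [L.Normal] (ν : IrrCharacter L)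
    (hν : ⊤ ≤ charStab L (ν : L → ℂ)) (hνp : ¬ p ∣ deg (ν : L → ℂ)) :
    ∃ (E Γ : Type u) (_ : Group E) (_ : Finite E) (_ : Group Γ) (_ : Finite Γ) (π : E →* G) (q : E →* Γ)
      (μ : (L.comap π).map q →* ℂˣ), Function.Surjective π ∧ Function.Surjective q ∧
      q.ker ≤ L.comap π ∧ (L.comap π).map q ≤ Subgroup.center Γ ∧
      ∀ H : Subgroup G, L ≤ H → cnt p H L (ν : L → ℂ) = cmu p μ ((H.comap π).map q) := by
  obtain ⟨d, σ, hσ, hσc⟩ := id ν.2
  haveI := hσ
  have hd : d ≠ 0 := fun h0 => irr_one_ne_zero ν.2 (by rw [← hσc]; simp [h0])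
  have hinv : ∀ (g : G) (n : L), σ.character (MulAut.conjNormal g n) = σ.character n := fun g n => by
    rw [hσc]
    exact (mem_charStab_iff.1 (hν (Subgroup.mem_top g))).2 n _ (MulAut.conjNormal_apply g n)
  let E := ↥(projCover σ)
  haveI : Finite E := finite_projCover σ hd
  let π : E →* G := coverProj σ
  have hπ : Function.Surjective π := coverProj_surjective σ hd hinv
  let τ : Representation ℂ E (Fin d → ℂ) :=
    (Units.coeHom _).comp ((MonoidHom.snd _ _).comp (projCover σ).subtype)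
  set Ls := L.comap π with hLs
  have hscal : ∀ z : Ls, ∃ c : ℂ, c ≠ 0 ∧ τ (z : E) = c • σ ⟨π z, z.2⟩ := by
    intro z
    set n : L := ⟨π z, z.2⟩ with hn
    have hz := (mem_projCover_iff σ _).1 (z : E).2
    obtain ⟨c, hc⟩ := schur_scalar σ (σ n⁻¹ * τ (z : E)) (fun k => by
      show σ n⁻¹ * τ (z : E) * σ k = σ k * (σ n⁻¹ * τ (z : E))
      rw [mul_assoc, show τ (z : E) * σ k = _ from hz.1 k, ← mul_assoc, ← mul_assoc, ← map_mul,
        ← map_mul]
      congr 2
      apply Subtype.ext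
      rw [show (z : E).1.1 = (n : G) from rfl]
      simp only [Subgroup.coe_mul, Subgroup.coe_inv, MulAut.conjNormal_apply]
      group)
    have hX : τ (z : E) = c • σ n := by
      have := congrArg (fun f => σ n * f) hc
      simp only [← mul_assoc, ← map_mul, mul_inv_cancel, map_one, one_mul] at this
      rw [this, ← Module.End.one_eq_id, mul_smul_comm, mul_one]
    refine ⟨c, fun h0 => ?_, hX⟩
    rw [h0, zero_smul] at hX
    have h1 : LinearMap.det (τ (z : E)) = 1 := hz.2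
    rw [hX, ← zero_smul ℂ (LinearMap.id : Module.End ℂ (Fin d → ℂ)), LinearMap.det_smul,
      Module.finrank_fin_fun, zero_pow hd, zero_mul] at h1
    exact zero_ne_one h1
  choose c hc0 hc using hscal
  have hu : ∀ n : L, IsUnit (σ n) := fun n =>
    IsUnit.of_mul_eq_one (σ n⁻¹) (by rw [← map_mul, mul_inv_cancel, map_one])
  have hcuniq : ∀ (z : Ls) (a : ℂ), τ (z : E) = a • σ ⟨π z, z.2⟩ → c z = a := fun z a h =>
    scalar_unique hd _ _ _ (hu _) ((hc z).symm.trans h)
  have hc1 : c 1 = 1 := hcuniq 1 1 (by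
    rw [show (⟨π ((1 : Ls) : E), (1 : Ls).2⟩ : L) = 1 from Subtype.ext (map_one π), map_one σ, one_smul]
    exact map_one τ)
  have hcmul : ∀ a b : Ls, c (a * b) = c a * c b := fun a b => hcuniq _ _ (by
    rw [show (⟨π ((a * b : Ls) : E), (a * b).2⟩ : L) = ⟨π a, a.2⟩ * ⟨π b, b.2⟩ from
      Subtype.ext (map_mul π (a : E) (b : E)), map_mul σ, ← smul_mul_smul_comm, ← hc, ← hc]
    exact map_mul τ _ _)
  let μ0 : Ls →* ℂˣ := MonoidHom.toHomUnits
    { toFun := fun z => (c z)⁻¹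
      map_one' := by rw [hc1, inv_one]
      map_mul' := fun a b => by rw [hcmul, mul_inv] }
  have hμ0 : ∀ z, (μ0 z : ℂ) = (c z)⁻¹ := fun z => rfl
  have hμinv : ∀ (h : E) (z z' : Ls), (z' : E) = h * z * h⁻¹ → μ0 z' = μ0 z := by
    intro h z z' e
    apply Units.ext
    rw [hμ0, hμ0]
    congr 1
    refine hcuniq z' (c z) ?_
    have hh := ((mem_projCover_iff σ _).1 h.2).1 ⟨π z, z.2⟩
    rw [show τ (z' : E) = τ (h * z * h⁻¹) from congrArg τ e, map_mul, map_mul, hc, mul_smul_comm,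
      smul_mul_assoc]
    congr 1
    rw [show τ h * σ ⟨π z, z.2⟩ = _ from hh, mul_assoc,
      show (h.1.2 : Module.End ℂ (Fin d → ℂ)) * τ h⁻¹ = 1 by
        show τ h * τ h⁻¹ = 1
        rw [← map_mul, mul_inv_cancel, map_one], mul_one]
    congr 1
    apply Subtype.ext
    rw [MulAut.conjNormal_apply]
    show π h * π z * (π h)⁻¹ = π z'
    rw [e, map_mul, map_mul, map_inv]
  let R : Subgroup E := μ0.ker.map Ls.subtype
  have hRL : R ≤ Ls := Subgroup.map_subtype_le _
  haveI hRn : R.Normal := ⟨fun r hr h => by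
    obtain ⟨z, hz, rfl⟩ := hr
    have hmem : h * (z : E) * h⁻¹ ∈ Ls := Subgroup.Normal.conj_mem inferInstance _ z.2 h
    exact ⟨⟨_, hmem⟩, MonoidHom.mem_ker.2 ((hμinv h z ⟨_, hmem⟩ rfl).trans (MonoidHom.mem_ker.1 hz)), rfl⟩⟩
  let q : E →* E ⧸ R := QuotientGroup.mk' R
  have hker : ∀ e : E, q e = 1 → ∃ he : e ∈ Ls, μ0 ⟨e, he⟩ = 1 := fun e he => by
    obtain ⟨z, hz, rfl⟩ := (QuotientGroup.eq_one_iff e).1 he
    exact ⟨z.2, MonoidHom.mem_ker.1 hz⟩
  have hsurj : Function.Surjective (q.subgroupMap Ls) := q.subgroupMap_surjective Ls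
  have hkle : (q.subgroupMap Ls).ker ≤ μ0.ker := fun z hz => by
    obtain ⟨he, h1⟩ := hker z (congrArg Subtype.val (MonoidHom.mem_ker.1 hz))
    exact MonoidHom.mem_ker.2 h1
  let μ : Ls.map q →* ℂˣ := (q.subgroupMap Ls).liftOfSurjective hsurj ⟨μ0, hkle⟩
  have hμ : ∀ z : Ls, μ ⟨q z, ⟨z, z.2, rfl⟩⟩ = μ0 z := fun z =>
    MonoidHom.liftOfRightInverse_comp_apply _ _ _ ⟨μ0, hkle⟩ z
  refine ⟨E, E ⧸ R, inferInstance, inferInstance, inferInstance, inferInstance, π, q, μ, hπ,
    QuotientGroup.mk'_surjective R, fun e he => hRL ((QuotientGroup.eq_one_iff e).1 (MonoidHom.mem_ker.1 he)),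
    ?_, fun H hLH => lift_count hp ν hν hνp π hπ q τ.character (isCharacter_character τ) μ0 μ hμ ?_
      hμinv hker H hLH⟩
  · rintro _ ⟨z, hz, rfl⟩
    rw [Subgroup.mem_center_iff]
    intro w
    obtain ⟨h, rfl⟩ := QuotientGroup.mk_surjective w
    have hmem : h * z * h⁻¹ ∈ Ls := Subgroup.Normal.conj_mem inferInstance z hz h
    have h1 : h * z * h⁻¹ * z⁻¹ ∈ R := by
      refine ⟨⟨_, hmem⟩ * ⟨z, hz⟩⁻¹, ?_, rfl⟩
      show _ ∈ μ0.ker
      rw [MonoidHom.mem_ker, map_mul, map_inv, hμinv h ⟨z, hz⟩ ⟨_, hmem⟩ rfl, mul_inv_cancel]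
    have h2 : q (h * z * h⁻¹ * z⁻¹) = 1 := (QuotientGroup.eq_one_iff _).2 h1
    rw [map_mul, map_mul, map_mul, map_inv, map_inv, mul_inv_eq_one, mul_inv_eq_iff_eq_mul] at h2
    exact h2
  · intro z
    rw [hμ0]
    show (c z)⁻¹ * LinearMap.trace ℂ _ (τ (z : E)) = _
    rw [hc, map_smul, smul_eq_mul, inv_mul_cancel_left₀ (hc0 z), ← hσc]
    rfl

/-- The final case: `K` is `p'` over `L` and `K S` is normal. -/
theorem final_case {p : ℕ} (hp : p.Prime) {G : Type u} [Group G] [Finite G] (L K S : Subgroup G)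
    [L.Normal] [K.Normal] (ν : IrrCharacter L) (hν : ⊤ ≤ charStab L (ν : L → ℂ)) (hLK : L ≤ K)
    (hidx : ¬ p ∣ L.relIndex K) (hS : IsPGroup p S) (hSi : ¬ p ∣ S.index) (hKS : (K ⊔ S).Normal) :
    cnt p ⊤ L (ν : L → ℂ) =
      cnt p (Subgroup.normalizer ((L ⊔ S : Subgroup G) : Set G)) L (ν : L → ℂ) := by
  haveI := Fact.mk hp
  set P := L ⊔ S with hP
  have hLN : L ≤ Subgroup.normalizer (P : Set G) := le_sup_left.trans Subgroup.le_normalizer
  have hLtop : ∀ H : Subgroup G, H ≤ Subgroup.normalizer (L : Set G) := fun H =>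
    Subgroup.normalizer_eq_top (H := L) ▸ le_top
  by_cases hνp : p ∣ deg (ν : L → ℂ)
  · rw [cnt_eq_zero_of_dvd le_top (hLtop _) ν hνp, cnt_eq_zero_of_dvd hLN (hLtop _) ν hνp]
  obtain ⟨E, Γ, _, _, _, _, π, q, μ, hπ, hq, hker, hcen, hcnt⟩ := exists_triple hp ν hν hνp
  rw [hcnt ⊤ le_top, hcnt _ hLN]
  set img : Subgroup G → Subgroup Γ := fun H => (H.comap π).map q with himg
  set Z := img L with hZ
  have hkerH : ∀ H, L ≤ H → q.ker ≤ H.comap π := fun H hH => hker.trans (Subgroup.comap_mono hH)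
  have hcm : ∀ H, L ≤ H → (img H).comap q = H.comap π := fun H hH =>
    Subgroup.comap_map_eq_self (hkerH H hH)
  have hrel : ∀ H, L ≤ H → Z.relIndex (img H) = L.relIndex H := fun H hH => by
    rw [hZ, himg]
    show (Subgroup.map q (L.comap π)).relIndex (Subgroup.map q (H.comap π)) = _
    rw [Subgroup.relIndex_map_map, sup_eq_left.2 hker, sup_eq_left.2 (hkerH H hH), Subgroup.relIndex_comap,
      Subgroup.map_comap_eq_self_of_surjective hπ]
  have hPi : ¬ p ∣ (img P).index := fun h => hSi (by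
    have e : (img P).index = P.index := by
      show (Subgroup.map q (P.comap π)).index = _
      rw [Subgroup.index_map_eq _ hq (hkerH P le_sup_left), Subgroup.index_comap_of_surjective _ hπ]
    rw [e] at h
    exact h.trans (Subgroup.index_dvd_of_le le_sup_right))
  obtain ⟨T⟩ : Nonempty (Sylow p (img P)) := inferInstance
  set SΓ := (T : Subgroup (img P)).map (img P).subtype with hSΓ
  have hSΓp : IsPGroup p SΓ := T.isPGroup'.map _
  have hSΓle : SΓ ≤ img P := Subgroup.map_subtype_le _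
  have hTi : ¬ p ∣ SΓ.relIndex (img P) := by
    rw [hSΓ, Subgroup.relIndex, Subgroup.subgroupOf,
      Subgroup.comap_map_eq_self_of_injective (img P).subtype_injective]
    exact T.not_dvd_index
  have hSΓi : ¬ p ∣ SΓ.index := by
    rw [← Subgroup.relIndex_mul_index hSΓle]
    exact fun h => (hp.dvd_mul.1 h).elim hTi hPi
  have hZP : Z ≤ img P := Subgroup.map_mono (Subgroup.comap_mono le_sup_left)
  have hPZ : img P = Z ⊔ SΓ := by
    refine le_antisymm ?_ (sup_le hZP hSΓle)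
    rw [← Subgroup.relIndex_eq_one]
    obtain ⟨b, hb⟩ := IsPGroup.iff_card.1 hS
    have h1 : (Z ⊔ SΓ).relIndex (img P) ∣ p ^ b := by
      refine (Subgroup.relIndex_dvd_of_le_left _ le_sup_left).trans ?_
      rw [hrel P le_sup_left, hP, sup_comm, Subgroup.relIndex_sup_right, ← hb]
      exact Subgroup.relIndex_dvd_card _ _
    have h2 : (Z ⊔ SΓ).relIndex (img P) ∣ SΓ.relIndex (img P) :=
      Subgroup.relIndex_dvd_of_le_left _ le_sup_right
    exact Nat.eq_one_of_dvd_coprimes ((hp.coprime_iff_not_dvd.2 hTi).pow_left b) h1 h2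
  have hSΓn : img P ≤ Subgroup.normalizer (SΓ : Set Γ) := by
    rw [hPZ]
    exact sup_le (hcen.trans ((Subgroup.center_le_centralizer _).trans
      (Subgroup.centralizer_le_normalizer _))) Subgroup.le_normalizer
  have hpel : ∀ x ∈ img P, (∃ k, orderOf x = p ^ k) → x ∈ SΓ := by
    rintro x hx ⟨k, hk⟩
    haveI : (SΓ.subgroupOf (img P)).Normal := Subgroup.normal_subgroupOf_of_le_normalizer hSΓn
    have hpow : x ^ SΓ.relIndex (img P) ∈ SΓ := Subgroup.pow_index_mem (SΓ.subgroupOf (img P)) ⟨x, hx⟩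
    have hcop : (orderOf x).Coprime (SΓ.relIndex (img P)) :=
      hk ▸ ((hp.coprime_iff_not_dvd.2 hTi).pow_left k)
    obtain ⟨m, hm⟩ := exists_pow_eq_self_of_coprime hcop.symm
    rw [← hm]
    exact pow_mem hpow m
  have hnorm : Subgroup.normalizer (SΓ : Set Γ) = Subgroup.normalizer ((img P : Subgroup Γ) : Set Γ) := by
    refine le_antisymm (fun g hg => ?_) fun g hg => ?_
    · rw [Subgroup.mem_set_normalizer_iff]
      have key : ∀ w ∈ Subgroup.normalizer (SΓ : Set Γ), ∀ a ∈ img P, w * a * w⁻¹ ∈ img P := by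
        intro w hw a ha
        obtain ⟨z, hz, s, hs, rfl⟩ := (mem_sup_iff (hcen.trans ((Subgroup.center_le_centralizer _).trans
          (Subgroup.centralizer_le_normalizer _)))).1 ((sup_comm Z SΓ).le (hPZ.le ha))
        rw [show w * (z * s) * w⁻¹ = (w * z * w⁻¹) * (w * s * w⁻¹) by group,
          Subgroup.mem_center_iff.1 (hcen hs) w, mul_inv_cancel_right]
        exact mul_mem (hSΓle ((conj_mem_iff hw z).2 hz)) (hZP hs)
      refine fun a => ⟨key g hg a, fun h => ?_⟩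
      have := key g⁻¹ (inv_mem hg) _ h
      rwa [show g⁻¹ * (g * a * g⁻¹) * g⁻¹⁻¹ = a by group] at this
    · rw [Subgroup.mem_set_normalizer_iff]
      have key : ∀ w ∈ Subgroup.normalizer ((img P : Subgroup Γ) : Set Γ), ∀ a ∈ SΓ, w * a * w⁻¹ ∈ SΓ := by
        intro w hw a ha
        refine hpel _ ((conj_mem_iff hw a).2 (hSΓle ha)) ?_
        obtain ⟨k, hk⟩ := IsPGroup.iff_orderOf.1 hSΓp ⟨a, ha⟩
        rw [Subgroup.orderOf_mk] at hk
        exact ⟨k, by rw [← hk]; exact MulEquiv.orderOf_eq (MulAut.conj w) a⟩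
      refine fun a => ⟨key g hg a, fun h => ?_⟩
      have := key g⁻¹ (inv_mem hg) _ h
      rwa [show g⁻¹ * (g * a * g⁻¹) * g⁻¹⁻¹ = a by group] at this
  haveI : (img K).Normal := (Subgroup.Normal.comap inferInstance π).map q hq
  have hKS' : (img K ⊔ SΓ).Normal := by
    have e : img K ⊔ SΓ = img (K ⊔ S) := by
      have h1 : img K ⊔ img P = img (K ⊔ S) := by
        show Subgroup.map q _ ⊔ Subgroup.map q _ = Subgroup.map q _
        rw [← Subgroup.map_sup, Subgroup.comap_sup_eq _ _ _ hπ, hP, ← sup_assoc, sup_eq_left.2 hLK]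
      have hZK : Z ≤ img K := Subgroup.map_mono (Subgroup.comap_mono hLK)
      rw [← h1, hPZ, ← sup_assoc, sup_eq_left.2 hZK]
    rw [e]
    exact (hKS.comap π).map q hq
  have h := central_count hp (K := img K) (S := SΓ) hcen μ hSΓp hSΓi hKS'
    (Subgroup.map_mono (Subgroup.comap_mono hLK)) ((hrel K hLK).symm ▸ hidx)
  have htop : img ⊤ = ⊤ := by
    show Subgroup.map q (Subgroup.comap π ⊤) = ⊤
    rw [Subgroup.comap_top, Subgroup.map_top_of_surjective q hq]
  have hN : img (Subgroup.normalizer (P : Set G)) = Subgroup.normalizer (SΓ : Set Γ) := by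
    show Subgroup.map q _ = _
    rw [hnorm, Subgroup.comap_normalizer_eq_of_surjective P hπ, ← hcm P le_sup_left,
      ← Subgroup.comap_normalizer_eq_of_surjective _ hq, Subgroup.map_comap_eq_self_of_surjective hq]
  rw [← htop, ← hN] at h
  exact h

end Cfsg.Agent.Char.RelMcKay
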