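import Cfsg.Agent.Lib.Char.RelMcKay.Decomp
import Cfsg.Agent.Lib.Char.RelMcKay.Triple
import Cfsg.Agent.Lib.Char.DegreePrimeNormalize
import Cfsg.Agent.Lib.Char.PSolvHeight
import Cfsg.Agent.Lib.Solv.PSolvHall
import Mathlib

/-!
# Relative counting of characters of `p'`-degree in `p`-solvable groups
-/

open scoped ComplexConjugate
open Cfsg Module

set_option autoImplicit false
set_option linter.style.haveILetI false
set_option linter.unusedSectionVars false

attribute [local instance] Fintype.ofFinite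

namespace Cfsg.Agent.Char.RelMcKay

universe u

variable {Γ : Type u} [Group Γ] [Finite Γ]

theorem relIndex_lt_of_lt {A B C : Subgroup Γ} (hAB : A ≤ B) (hBC : B ≤ C) (h : ¬ C ≤ B) :
    A.relIndex B < A.relIndex C := by
  rw [← Subgroup.relIndex_mul_relIndex A B C hAB hBC]
  have h1 : B.relIndex C ≠ 1 := fun e => h (Subgroup.relIndex_eq_one.1 e)
  have h2 : B.relIndex C ≠ 0 := Subgroup.index_ne_zero_of_finite
  exact lt_mul_of_one_lt_right (Nat.pos_of_ne_zero Subgroup.index_ne_zero_of_finite) (by omega)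

/-- A chief factor above `L`. -/
theorem exists_chief {p : ℕ} [Fact p.Prime] (hG : IsPSolvable p Γ) {T L S : Subgroup Γ} (hLT : L ≤ T)
    (hn : T ≤ Subgroup.normalizer (L : Set Γ)) (hne : ¬ T ≤ L) (hST : S ≤ T) (hS : IsPGroup p S)
    (hSi : ¬ p ∣ S.relIndex T) :
    ∃ K : Subgroup Γ, L ≤ K ∧ K ≤ T ∧ T ≤ Subgroup.normalizer (K : Set Γ) ∧
      1 < L.relIndex K ∧ (K ≤ L ⊔ S ∨ ¬ p ∣ L.relIndex K) := by
  haveI : (L.subgroupOf T).Normal := Subgroup.normal_subgroupOf_of_le_normalizer hn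
  let Q := T ⧸ L.subgroupOf T
  let mk : T →* Q := QuotientGroup.mk' _
  have hsurj : Function.Surjective mk := QuotientGroup.mk'_surjective _
  haveI : Nontrivial Q := by
    rw [← Finite.one_lt_card_iff_nontrivial]
    have h1 : Nat.card Q ≠ 1 := fun e => hne (Subgroup.relIndex_eq_one.1 e)
    have h2 : 0 < Nat.card Q := Nat.card_pos
    omega
  have hQ : IsPSolvable p Q :=
    Solv.isPSolvable_map Fact.out (isPSolvable_subgroup Fact.out hG T) mk hsurj
  obtain ⟨N0, hN0, hN0ne, hmin⟩ := Solv.exists_minimal_normal (G := Q)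
  haveI := hN0
  let K' : Subgroup T := N0.comap mk
  haveI : K'.Normal := hN0.comap mk
  have hLK' : L.subgroupOf T ≤ K' := fun z hz => by
    show mk z ∈ N0
    rw [show mk z = 1 from (QuotientGroup.eq_one_iff z).2 hz]
    exact one_mem N0
  have hrel : (L.subgroupOf T).relIndex K' = Nat.card N0 := by
    have h1 : mk.ker.relIndex K' = Nat.card N0 := by
      rw [← MonoidHom.comap_bot, Subgroup.relIndex_comap,
        Subgroup.map_comap_eq_self_of_surjective hsurj, Subgroup.relIndex_bot_left]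
    exact (congrArg (fun A : Subgroup T => A.relIndex K') (QuotientGroup.ker_mk' _)).symm.trans h1
  let K : Subgroup Γ := K'.map T.subtype
  have hLK : L ≤ K := by
    rw [← Subgroup.map_subgroupOf_eq_of_le hLT]
    exact Subgroup.map_mono hLK'
  have hKT : K ≤ T := Subgroup.map_subtype_le K'
  have hKsub : K.subgroupOf T = K' := Subgroup.comap_map_eq_self_of_injective T.subtype_injective K'
  have hrelK : L.relIndex K = Nat.card N0 := by
    have h1 := Subgroup.relIndex_map_map_of_injective (L.subgroupOf T) K' T.subtype_injective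
    rw [Subgroup.map_subgroupOf_eq_of_le hLT] at h1
    rw [← hrel]
    exact h1
  refine ⟨K, hLK, hKT, ?_, ?_, ?_⟩
  · haveI : (K.subgroupOf T).Normal := hKsub ▸ inferInstance
    exact (Subgroup.normal_subgroupOf_iff_le_normalizer hKT).1 inferInstance
  · rw [hrelK]
    haveI := (Subgroup.nontrivial_iff_ne_bot N0).2 hN0ne
    exact Finite.one_lt_card_iff_nontrivial.2 inferInstance
  rcases DegNorm.minimal_normal_type hQ hN0ne (fun M hM hle => hmin M hM hle) with hp | hp
  · left
    let S' : Subgroup T := S.subgroupOf T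
    have hS' : IsPGroup p (S'.map mk) := (hS.comap_of_injective T.subtype T.subtype_injective).map mk
    have hSi' : ¬ p ∣ (S'.map mk).index := fun h => hSi (h.trans (Subgroup.index_map_dvd _ hsurj))
    have hle : N0 ≤ S'.map mk := hp.le_sylow_of_normal (hS'.toSylow hSi')
    have hK'le : K' ≤ S' ⊔ L.subgroupOf T := by
      refine (Subgroup.comap_mono hle).trans ?_
      rw [Subgroup.comap_map_eq, QuotientGroup.ker_mk']
    refine (Subgroup.map_mono hK'le).trans ?_
    rw [Subgroup.map_sup, Subgroup.map_subgroupOf_eq_of_le hST, Subgroup.map_subgroupOf_eq_of_le hLT,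
      sup_comm]
  · right
    rw [hrelK]
    exact (Fact.out : p.Prime).coprime_iff_not_dvd.1 hp.symm

set_option maxHeartbeats 800000 in
/-- The relative count. -/
theorem main_count {p : ℕ} (hp : p.Prime) (hG : IsPSolvable p Γ) : ∀ (n : ℕ) (T L S : Subgroup Γ),
    L ≤ T → T ≤ Subgroup.normalizer (L : Set Γ) → S ≤ T → IsPGroup p S → ¬ p ∣ S.relIndex T →
    L.relIndex T = n → ∀ ν : IrrCharacter L, L ⊔ S ≤ charStab L (ν : L → ℂ) →
      cnt p T L (ν : L → ℂ) =
        cnt p (T ⊓ Subgroup.normalizer ((L ⊔ S : Subgroup Γ) : Set Γ)) L (ν : L → ℂ) := by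
  intro n
  induction n using Nat.strong_induction_on with
  | _ n ih =>
  intro T L S hLT hTL hST hS hSi hn ν hν
  haveI := Fact.mk hp
  set P := L ⊔ S with hP
  by_cases h0 : T ≤ Subgroup.normalizer (P : Set Γ)
  · rw [inf_eq_left.2 h0]
  have hPT : P ≤ T := sup_le hLT hST
  have hPN : P ≤ Subgroup.normalizer (P : Set Γ) := Subgroup.le_normalizer
  have hdvd : ∀ {A B : Subgroup Γ}, S ≤ A → A ≤ B → B ≤ T → ¬ p ∣ A.relIndex B := fun {A B} h1 h2 h3 h => by
    apply hSi
    rw [← Subgroup.relIndex_mul_relIndex S A T h1 (h2.trans h3),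
      ← Subgroup.relIndex_mul_relIndex A B T h2 h3]
    exact (h.mul_right _).mul_left _
  have hSP : S ≤ P := le_sup_right
  -- the inertia group is proper
  by_cases hstab : T ≤ charStab L (ν : L → ℂ)
  swap
  · set T0 := T ⊓ charStab L (ν : L → ℂ) with hT0
    set N := T ⊓ Subgroup.normalizer (P : Set Γ) with hN
    have hST0 : S ≤ T0 := le_inf hST (hSP.trans hν)
    have hLT0 : L ≤ T0 := le_inf hLT (le_sup_left.trans hν)
    have hLN : L ≤ N := le_inf hLT (le_sup_left.trans hPN)
    have hSN : S ≤ N := le_inf hST (hSP.trans hPN)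
    have e1 : cnt p T L (ν : L → ℂ) = cnt p T0 L (ν : L → ℂ) :=
      cnt_stab hp hLT hTL ν (hdvd hST0 inf_le_left le_rfl)
    have e2 : cnt p N L (ν : L → ℂ) = cnt p (N ⊓ charStab L (ν : L → ℂ)) L (ν : L → ℂ) :=
      cnt_stab hp hLN (inf_le_left.trans hTL) ν
        (hdvd (le_inf hSN (hSP.trans hν)) inf_le_left inf_le_left)
    have hlt : L.relIndex T0 < n :=
      hn ▸ relIndex_lt_of_lt hLT0 inf_le_left fun h => hstab (h.trans inf_le_right)
    have e3 := ih _ hlt T0 L S hLT0 (inf_le_left.trans hTL) hST0 hS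
      (hdvd (A := S) le_rfl hST0 inf_le_left) rfl ν hν
    rw [e1, e2, e3]
    congr 1
    rw [hN, hT0]
    ac_rfl
  have hTL' : ¬ T ≤ L := fun h => h0 ((h.trans le_sup_left).trans hPN)
  obtain ⟨K, hLK, hKT, hTK, hKi, hcases⟩ := exists_chief hG hLT hTL hTL' hST hS hSi
  set R := T ⊓ Subgroup.normalizer (S : Set Γ) with hR
  have hRP : R ≤ Subgroup.normalizer (P : Set Γ) := by
    intro g hg
    have key : ∀ w ∈ R, ∀ a ∈ P, w * a * w⁻¹ ∈ P := by
      intro w hw a ha
      obtain ⟨l, hl, s, hs, rfl⟩ := (mem_sup_iff (hST.trans hTL)).1 ha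
      rw [show w * (l * s) * w⁻¹ = (w * l * w⁻¹) * (w * s * w⁻¹) by group]
      exact mul_mem (Subgroup.mem_sup_left ((conj_mem_iff (hTL hw.1) l).2 hl))
        (hSP ((conj_mem_iff hw.2 s).2 hs))
    rw [Subgroup.mem_set_normalizer_iff]
    refine fun a => ⟨key g hg a, fun h => ?_⟩
    have := key g⁻¹ (inv_mem hg) _ h
    rwa [show g⁻¹ * (g * a * g⁻¹) * g⁻¹⁻¹ = a by group] at this
  have hlt : K.relIndex T < n := by
    rw [← hn, ← Subgroup.relIndex_mul_relIndex L K T hLK hKT]
    exact lt_mul_of_one_lt_left (Nat.pos_of_ne_zero Subgroup.index_ne_zero_of_finite) hKi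
  set X := midSet p K S L (ν : L → ℂ) with hX
  have hIH : ∀ θ ∈ X, cnt p T K (θ : K → ℂ) =
      cnt p (T ⊓ Subgroup.normalizer ((K ⊔ S : Subgroup Γ) : Set Γ)) K (θ : K → ℂ) := fun θ hθ =>
    ih _ hlt T K S hKT hTK hST hS hSi rfl θ
      (sup_le (le_charStab (isClassFunction_character (irr_isCharacter θ.2))) (mem_midSet.1 hθ).2.1)
  -- comparing two groups between `R` and `T`
  have hcomp : ∀ H : Subgroup Γ, H ≤ T → K ≤ H → R ≤ H →
      (∀ θ ∈ X, cnt p T K (θ : K → ℂ) = cnt p H K (θ : K → ℂ)) →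
      cnt p T L (ν : L → ℂ) = cnt p H L (ν : L → ℂ) := by
    intro H hHT hKH hRH heq
    have hSH : S ≤ H := (le_inf hST Subgroup.le_normalizer).trans hRH
    have eR : H ⊓ Subgroup.normalizer (S : Set Γ) = R :=
      le_antisymm (inf_le_inf_right _ hHT) (le_inf hRH inf_le_right)
    have d1 := decomp hp hLK hKT hTK hTL ν hstab hST hS hSi
    have d2 := decomp hp hLK hKH (hHT.trans hTK) (hHT.trans hTL) ν (hHT.trans hstab) hSH hS
      (hdvd le_rfl hSH hHT)
    rw [eR] at d2
    have : (cnt p T L (ν : L → ℂ) : ℂ) = (cnt p H L (ν : L → ℂ) : ℂ) := by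
      rw [d1, d2]
      exact Finset.sum_congr rfl fun θ hθ => by rw [heq θ hθ]
    exact_mod_cast this
  rcases hcases with hKP | hKi'
  · refine hcomp _ inf_le_left (le_inf hKT (hKP.trans hPN)) (le_inf inf_le_left hRP) fun θ hθ => ?_
    rw [hIH θ hθ, show K ⊔ S = P from le_antisymm (sup_le hKP hSP) (sup_le_sup_right hLK S)]
  · set G1 := T ⊓ Subgroup.normalizer ((K ⊔ S : Subgroup Γ) : Set Γ) with hG1
    have hKG1 : K ≤ G1 := le_inf hKT (le_sup_left.trans Subgroup.le_normalizer)
    have hsub : T ⊓ Subgroup.normalizer (P : Set Γ) ≤ G1 := by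
      intro g hg
      refine ⟨hg.1, ?_⟩
      have hKP' : K ⊔ S = K ⊔ P := by rw [hP, ← sup_assoc, sup_eq_left.2 hLK]
      have key : ∀ w ∈ T ⊓ Subgroup.normalizer (P : Set Γ), ∀ a ∈ K ⊔ S, w * a * w⁻¹ ∈ K ⊔ S := by
        intro w hw a ha
        obtain ⟨k, hk, s, hs, rfl⟩ := (mem_sup_iff (hST.trans hTK)).1 ha
        rw [show w * (k * s) * w⁻¹ = (w * k * w⁻¹) * (w * s * w⁻¹) by group]
        refine mul_mem (Subgroup.mem_sup_left ((conj_mem_iff (hTK hw.1) k).2 hk)) ?_
        rw [hKP']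
        exact Subgroup.mem_sup_right ((conj_mem_iff hw.2 s).2 (hSP hs))
      show g ∈ Subgroup.normalizer ((K ⊔ S : Subgroup Γ) : Set Γ)
      rw [Subgroup.mem_set_normalizer_iff]
      refine fun a => ⟨key g hg a, fun h => ?_⟩
      have := key g⁻¹ (inv_mem hg) _ h
      rwa [show g⁻¹ * (g * a * g⁻¹) * g⁻¹⁻¹ = a by group] at this
    have hRG1 : R ≤ G1 := (le_inf inf_le_left hRP).trans hsub
    rw [hcomp G1 inf_le_left hKG1 hRG1 hIH]
    have hinter : G1 ⊓ Subgroup.normalizer (P : Set Γ) = T ⊓ Subgroup.normalizer (P : Set Γ) :=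
      le_antisymm (inf_le_inf_right _ inf_le_left) (le_inf hsub inf_le_right)
    by_cases hG1T : T ≤ Subgroup.normalizer ((K ⊔ S : Subgroup Γ) : Set Γ)
    swap
    · have hSG1 : S ≤ G1 := (le_inf hST Subgroup.le_normalizer).trans hRG1
      have hlt1 : L.relIndex G1 < n :=
        hn ▸ relIndex_lt_of_lt (hLK.trans hKG1) inf_le_left fun h => hG1T (h.trans inf_le_right)
      rw [← hinter]
      exact ih _ hlt1 G1 L S (hLK.trans hKG1) (inf_le_left.trans hTL) hSG1 hS
        (hdvd le_rfl hSG1 inf_le_left) rfl ν hν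
    -- the final case, inside `T`
    rw [hG1, inf_eq_left.2 hG1T]
    haveI : (L.subgroupOf T).Normal := Subgroup.normal_subgroupOf_of_le_normalizer hTL
    haveI : (K.subgroupOf T).Normal := Subgroup.normal_subgroupOf_of_le_normalizer hTK
    have hsupKS : (K ⊔ S).subgroupOf T = K.subgroupOf T ⊔ S.subgroupOf T :=
      Subgroup.subgroupOf_sup hKT hST
    have hsupP : P.subgroupOf T = L.subgroupOf T ⊔ S.subgroupOf T := Subgroup.subgroupOf_sup hLT hST
    have hKSn : (K.subgroupOf T ⊔ S.subgroupOf T).Normal := by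
      rw [← hsupKS]; exact Subgroup.normal_subgroupOf_of_le_normalizer hG1T
    have hνT : ⊤ ≤ charStab (L.subgroupOf T) (upI hLT ν : L.subgroupOf T → ℂ) := fun x _ =>
      (mem_charStab_up hLT ν x).2 ⟨hTL x.2, hstab x.2⟩
    have hidx : ¬ p ∣ (L.subgroupOf T).relIndex (K.subgroupOf T) := by
      rw [← Subgroup.relIndex_map_map_of_injective _ _ T.subtype_injective,
        Subgroup.map_subgroupOf_eq_of_le hLT, Subgroup.map_subgroupOf_eq_of_le hKT]
      exact hKi'
    have hLK' : L.subgroupOf T ≤ K.subgroupOf T := fun z hz => hLK hz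
    have hfin := final_case hp (L.subgroupOf T) (K.subgroupOf T) (S.subgroupOf T) (upI hLT ν) hνT hLK'
      hidx (hS.comap_of_injective T.subtype T.subtype_injective) hSi hKSn
    rw [← hsupP] at hfin
    have e1 : cnt p T L (ν : L → ℂ) = cnt p ⊤ (L.subgroupOf T) (upI hLT ν : L.subgroupOf T → ℂ) :=
      cnt_hom p T.subtype le_top Subgroup.topEquiv (Subgroup.subgroupOfEquivOfLe hLT) (fun _ => rfl)
        (fun _ => rfl) (ν : L → ℂ)
    set N' := Subgroup.normalizer ((P.subgroupOf T : Subgroup T) : Set T) with hN'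
    have hmapN : N'.map T.subtype = T ⊓ Subgroup.normalizer (P : Set Γ) := by
      ext g
      constructor
      · rintro ⟨x, hx, rfl⟩
        refine ⟨x.2, ?_⟩
        show (x : Γ) ∈ Subgroup.normalizer (P : Set Γ)
        rw [Subgroup.mem_set_normalizer_iff]
        intro z
        constructor
        · intro hz
          exact (conj_mem_iff hx ⟨z, hPT hz⟩).2 hz
        · intro hz
          have hzT : z ∈ T := by
            have := mul_mem (mul_mem (inv_mem x.2) (hPT hz)) x.2
            rwa [show (x : Γ)⁻¹ * ((x : Γ) * z * (x : Γ)⁻¹) * (x : Γ) = z by group] at this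
          exact (conj_mem_iff hx ⟨z, hzT⟩).1 hz
      · rintro ⟨hgT, hg⟩
        refine ⟨⟨g, hgT⟩, ?_, rfl⟩
        show (⟨g, hgT⟩ : T) ∈ N'
        rw [hN', Subgroup.mem_set_normalizer_iff]
        intro z
        show (z : Γ) ∈ P ↔ (((⟨g, hgT⟩ : T) * z * (⟨g, hgT⟩ : T)⁻¹ : T) : Γ) ∈ P
        simpa using (conj_mem_iff hg (z : Γ)).symm
    have e2 : cnt p (T ⊓ Subgroup.normalizer (P : Set Γ)) L (ν : L → ℂ) =
        cnt p N' (L.subgroupOf T) (upI hLT ν : L.subgroupOf T → ℂ) :=
      cnt_hom p T.subtype (fun z hz => Subgroup.le_normalizer (Subgroup.mem_subgroupOf.2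
          (Subgroup.mem_sup_left hz) : z ∈ P.subgroupOf T))
        ((Subgroup.equivMapOfInjective N' T.subtype T.subtype_injective).trans
          (MulEquiv.subgroupCongr hmapN))
        (Subgroup.subgroupOfEquivOfLe hLT) (fun _ => rfl) (fun _ => rfl) (ν : L → ℂ)
    rw [e1, e2, hfin]

end Cfsg.Agent.Char.RelMcKay
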