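import Cfsg.Agent.Lib.Char.RelMcKay.Pair
import Cfsg.Agent.Lib.Char.DegreeSplit
import Cfsg.Agent.Lib.Char.Inflate
import Mathlib

/-!
# Characters of subgroups lying over a character of a smaller subgroup

Everything is stated inside one ambient group: functions on a subgroup are extended by zero.
-/

open scoped ComplexConjugate commutatorElement
open Cfsg Module

set_option autoImplicit false
set_option linter.style.haveILetI false
set_option linter.unusedSectionVars false

attribute [local instance] Fintype.ofFinite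

namespace Cfsg.Agent.Char.RelMcKay

universe u

variable {Γ : Type u} [Group Γ]

/-- Conjugation by an element of the normalizer. -/
def normAut (M : Subgroup Γ) (g : Γ) (hg : g ∈ Subgroup.normalizer (M : Set Γ)) : MulAut M where
  toFun k := ⟨g * k * g⁻¹, (conj_mem_iff hg _).2 k.2⟩
  invFun k := ⟨g⁻¹ * k * g, by simpa using (conj_mem_iff (inv_mem hg) (k : Γ)).2 k.2⟩
  left_inv k := Subtype.ext (by simp only; group)
  right_inv k := Subtype.ext (by simp only; group)
  map_mul' k l := Subtype.ext (by simp only [Subgroup.coe_mul]; group)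

@[simp] theorem coe_normAut (M : Subgroup Γ) (g : Γ) (hg : g ∈ Subgroup.normalizer (M : Set Γ))
    (k : M) : ((normAut M g hg k : M) : Γ) = g * k * g⁻¹ := rfl

theorem extendByZero_conj {H : Subgroup Γ} {χ : H → ℂ} (hχ : IsClassFunction H χ) {g : Γ}
    (hg : g ∈ H) (z : Γ) : extendByZero H χ (g * z * g⁻¹) = extendByZero H χ z :=
  (le_charStab hχ hg).2 z

variable [Finite Γ]

/-- The inner product of a function on the ambient group with a function on a subgroup. -/
noncomputable def inn (M : Subgroup Γ) (f : Γ → ℂ) (θ : M → ℂ) : ℂ :=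
  classInner (fun m : M => f m) θ

/-- The conjugate character. -/
noncomputable def conjI (M : Subgroup Γ) (g : Γ) (hg : g ∈ Subgroup.normalizer (M : Set Γ))
    (ζ : IrrCharacter M) : IrrCharacter M :=
  irrComp (normAut M g hg) ζ

theorem conjI_apply (M : Subgroup Γ) (g : Γ) (hg : g ∈ Subgroup.normalizer (M : Set Γ))
    (ζ : IrrCharacter M) (m : M) :
    (conjI M g hg ζ : M → ℂ) m = (ζ : M → ℂ) (normAut M g hg m) := rfl

theorem ext_conjI (M : Subgroup Γ) {g : Γ} (hg : g ∈ Subgroup.normalizer (M : Set Γ))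
    (ζ : IrrCharacter M) (z : Γ) :
    extendByZero M (conjI M g hg ζ : M → ℂ) z = extendByZero M (ζ : M → ℂ) (g * z * g⁻¹) := by
  by_cases hz : z ∈ M
  · rw [extendByZero_mem M _ hz, extendByZero_mem M _ ((conj_mem_iff hg z).2 hz)]
    rfl
  · rw [extendByZero_not_mem M _ hz,
      extendByZero_not_mem M _ fun h => hz ((conj_mem_iff hg z).1 h)]

theorem ext_inj {M : Subgroup Γ} {θ θ' : M → ℂ}
    (h : ∀ z : Γ, extendByZero M θ z = extendByZero M θ' z) : θ = θ' :=
  funext fun m => by simpa [extendByZero_mem M _ m.2] using h m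

theorem mem_charStab_iff_conjI {M : Subgroup Γ} {g : Γ} (hg : g ∈ Subgroup.normalizer (M : Set Γ))
    (ζ : IrrCharacter M) : g ∈ charStab M (ζ : M → ℂ) ↔ conjI M g hg ζ = ζ := by
  constructor
  · intro h
    exact Subtype.ext (ext_inj fun z => by rw [ext_conjI]; exact h.2 z)
  · intro h
    exact ⟨hg, fun z => by rw [← ext_conjI M hg, h]⟩

theorem inn_conjI {M : Subgroup Γ} {f : Γ → ℂ} {g : Γ}
    (hg : g ∈ Subgroup.normalizer (M : Set Γ)) (hf : ∀ z, f (g * z * g⁻¹) = f z)
    (ζ : IrrCharacter M) : inn M f (conjI M g hg ζ : M → ℂ) = inn M f (ζ : M → ℂ) := by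
  simp only [inn, classInner]
  congr 1
  refine Fintype.sum_equiv (normAut M g hg).toEquiv _ _ fun m => ?_
  show f m * _ = f (g * m * g⁻¹) * _
  rw [hf]
  rfl

section Over

variable {M H : Subgroup Γ} (hMH : M ≤ H)
include hMH

theorem resFun_isCharacter {χ : H → ℂ} (hχ : IsCharacter H χ) :
    IsCharacter M (fun m : M => extendByZero H χ m) := by
  rw [show (fun m : M => extendByZero H χ m) = χ ∘ Subgroup.inclusion hMH from
    funext fun m => extendByZero_mem H χ (hMH m.2)]
  exact isCharacter_comp _ hχ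

theorem inn_natCast {χ : H → ℂ} (hχ : IsCharacter H χ) (ζ : IrrCharacter M) :
    ∃ n : ℕ, inn M (extendByZero H χ) (ζ : M → ℂ) = n :=
  classInner_natCast (resFun_isCharacter hMH hχ) (irr_isCharacter ζ.2)

theorem res_expansion {χ : H → ℂ} (hχ : IsCharacter H χ) (m : M) :
    extendByZero H χ m = ∑ ζ : IrrCharacter M, inn M (extendByZero H χ) (ζ : M → ℂ) * (ζ : M → ℂ) m := by
  have := congrFun (char_expansion (resFun_isCharacter hMH hχ)) m
  simpa [inn, Finset.sum_apply] using this

theorem exists_constituent {χ : H → ℂ} (hχ : IsIrrCharacter H χ) :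
    ∃ ζ : IrrCharacter M, inn M (extendByZero H χ) (ζ : M → ℂ) ≠ 0 := by
  by_contra hno
  push Not at hno
  have h := res_expansion hMH (irr_isCharacter hχ) 1
  rw [Finset.sum_eq_zero fun ζ _ => by rw [hno ζ, zero_mul], OneMemClass.coe_one,
    extendByZero_mem H χ (one_mem H)] at h
  exact irr_one_ne_zero hχ h

/-- Transport of an inner product to the copy of `M` inside `H`. -/
theorem inn_subgroupOf (f : Γ → ℂ) (θ : M → ℂ) :
    classInner (fun x : M.subgroupOf H => f ((x : H) : Γ))
      (fun x => θ (Subgroup.subgroupOfEquivOfLe hMH x)) = inn M f θ := by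
  simp only [inn, classInner, Nat.card_congr (Subgroup.subgroupOfEquivOfLe hMH).toEquiv]
  congr 1
  exact Fintype.sum_equiv (Subgroup.subgroupOfEquivOfLe hMH).toEquiv _ _ fun x => rfl

/-- The copy of a character of `M` inside `H`. -/
noncomputable def upI (ζ : IrrCharacter M) : IrrCharacter (M.subgroupOf H) :=
  ⟨fun x => (ζ : M → ℂ) (Subgroup.subgroupOfEquivOfLe hMH x),
    isIrrCharacter_comp_equiv _ ζ.2⟩

theorem inn_upI (χ : IrrCharacter H) (ζ : IrrCharacter M) :
    classInner (fun x : M.subgroupOf H => (χ : H → ℂ) x) (upI hMH ζ : M.subgroupOf H → ℂ) =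
      inn M (extendByZero H (χ : H → ℂ)) (ζ : M → ℂ) := by
  rw [← inn_subgroupOf hMH]
  congr 1
  funext x
  exact (extendByZero_mem H _ (x : H).2).symm

variable (hn : H ≤ Subgroup.normalizer (M : Set Γ))
include hn

theorem constituents_conj (χ : IrrCharacter H) {ζ ζ' : IrrCharacter M}
    (h : inn M (extendByZero H (χ : H → ℂ)) (ζ : M → ℂ) ≠ 0)
    (h' : inn M (extendByZero H (χ : H → ℂ)) (ζ' : M → ℂ) ≠ 0) :
    ∃ g, ∃ hg : g ∈ H, conjI M g (hn hg) ζ = ζ' := by
  haveI : (M.subgroupOf H).Normal := Subgroup.normal_subgroupOf_of_le_normalizer hn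
  rw [← inn_upI hMH χ] at h h'
  obtain ⟨g, hg⟩ := mem_cliffOrbit.1 (mem_cliffOrbit_of_constituent h h')
  refine ⟨g, g.2, Subtype.ext (funext fun m => ?_)⟩
  have := congrFun (congrArg Subtype.val hg) ((Subgroup.subgroupOfEquivOfLe hMH).symm m)
  simp only [irrComp_apply, upI, MulEquiv.apply_symm_apply] at this
  rw [← this, conjI_apply]
  congr 1

theorem deg_constituent_dvd (χ : IrrCharacter H) {ζ : IrrCharacter M}
    (h : inn M (extendByZero H (χ : H → ℂ)) (ζ : M → ℂ) ≠ 0) :
    deg (ζ : M → ℂ) ∣ deg (χ : H → ℂ) ∧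
      deg (χ : H → ℂ) ∣ M.relIndex H * deg (ζ : M → ℂ) := by
  haveI : (M.subgroupOf H).Normal := Subgroup.normal_subgroupOf_of_le_normalizer hn
  rw [← inn_upI hMH χ] at h
  have e : deg (upI hMH ζ : M.subgroupOf H → ℂ) = deg (ζ : M → ℂ) := by
    apply Nat.cast_injective (R := ℂ)
    rw [← char_one_eq_deg (irr_isCharacter ζ.2), ← char_one_eq_deg (irr_isCharacter (upI hMH ζ).2)]
    simp [upI]
  exact ⟨e ▸ PrimeDegrees.deg_dvd_of_constituent (M.subgroupOf H) h,
    e ▸ DegreeSplit.deg_dvd_index_mul (M.subgroupOf H) χ (upI hMH ζ) h⟩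

/-- With index prime to `p` the degree is prime to `p` exactly when that of a constituent is. -/
theorem not_dvd_deg_iff {p : ℕ} (hp : p.Prime) (χ : IrrCharacter H) {ζ : IrrCharacter M}
    (hidx : ¬ p ∣ M.relIndex H) (h : inn M (extendByZero H (χ : H → ℂ)) (ζ : M → ℂ) ≠ 0) :
    ¬ p ∣ deg (χ : H → ℂ) ↔ ¬ p ∣ deg (ζ : M → ℂ) := by
  obtain ⟨h1, h2⟩ := deg_constituent_dvd hMH hn χ h
  exact ⟨fun h3 h4 => h3 (h4.trans h1), fun h3 h4 => (hp.dvd_mul.1 (h4.trans h2)).elim hidx h3⟩

end Over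

theorem deg_conjI (M : Subgroup Γ) (g : Γ) (hg : g ∈ Subgroup.normalizer (M : Set Γ))
    (ζ : IrrCharacter M) : deg (conjI M g hg ζ : M → ℂ) = deg (ζ : M → ℂ) := by
  apply Nat.cast_injective (R := ℂ)
  rw [← char_one_eq_deg (irr_isCharacter ζ.2), ← char_one_eq_deg (irr_isCharacter (conjI M g hg ζ).2),
    conjI_apply, map_one]

/-- The number of characters of `p'`-degree of `H` over the character `ν` of `L`. -/
noncomputable def cnt (p : ℕ) (H L : Subgroup Γ) (ν : L → ℂ) : ℕ :=
  Nat.card {χ : IrrCharacter H // ¬ p ∣ deg (χ : H → ℂ) ∧ inn L (extendByZero H (χ : H → ℂ)) ν ≠ 0}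

theorem deg_comp_equiv {A B : Type*} [Group A] [Group B] [Finite A] [Finite B] (e : A ≃* B)
    (χ : IrrCharacter B) : deg (fun a => (χ : B → ℂ) (e a)) = deg (χ : B → ℂ) := by
  simp [deg, map_one]

/-- The count is invariant under maps that are bijective on the subgroups involved. -/
theorem cnt_hom {Δ : Type u} [Group Δ] [Finite Δ] (p : ℕ) (f : Δ →* Γ) {H L : Subgroup Γ}
    {H' L' : Subgroup Δ} (hLH : L' ≤ H') (eH : H' ≃* H) (eL : L' ≃* L)
    (heH : ∀ x : H', f (x : Δ) = (eH x : Γ)) (heL : ∀ x : L', f (x : Δ) = (eL x : Γ)) (ν : L → ℂ) :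
    cnt p H L ν = cnt p H' L' (fun l => ν (eL l)) := by
  refine Nat.card_congr (Equiv.subtypeEquiv
    { toFun := fun χ => ⟨fun a => (χ : H → ℂ) (eH a), isIrrCharacter_comp_equiv eH χ.2⟩
      invFun := fun χ => ⟨fun b => (χ : H' → ℂ) (eH.symm b), isIrrCharacter_comp_equiv eH.symm χ.2⟩
      left_inv := fun χ => Subtype.ext (funext fun b => by simp)
      right_inv := fun χ => Subtype.ext (funext fun a => by simp) } fun χ => ?_)
  simp only [Equiv.coe_fn_mk]
  rw [deg_comp_equiv eH χ]
  have e : inn L' (extendByZero H' fun a => (χ : H → ℂ) (eH a)) (fun l => ν (eL l)) =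
      inn L (extendByZero H (χ : H → ℂ)) ν := by
    simp only [inn, classInner, Nat.card_congr eL.toEquiv]
    congr 1
    refine Fintype.sum_equiv eL.toEquiv _ _ fun l => ?_
    have hl : (l : Δ) ∈ H' := hLH l.2
    rw [extendByZero_mem H' _ hl]
    show _ = extendByZero H (χ : H → ℂ) ((eL l : L) : Γ) * _
    rw [← heL, show f (l : Δ) = (eH ⟨l, hl⟩ : Γ) from heH ⟨l, hl⟩,
      extendByZero_mem H _ (Subtype.prop _)]
    rfl
  rw [e]

end Cfsg.Agent.Char.RelMcKay
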