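import Cfsg.Agent.Lib.Char.Convolution
import Cfsg.Agent.Lib.Char.Coprime
import Cfsg.Agent.Lib.Char.Glauberman
import Mathlib

/-!
# The commutator pairing of an irreducible character of a subgroup

For a subgroup `M`, an irreducible character `θ` of `M` and two elements `x`, `y` normalizing `M`
the pairing is the normalized sum of `θ` over the commutators `⁅g x, h y⁆` with `g`, `h` in `M`.
It vanishes unless `x`, `y` fix `θ` and `⁅x, y⁆ ∈ M`, and it is then the factor by which `x`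
moves an extension of `θ` to `⟨M, y⟩`.
-/

open scoped ComplexConjugate commutatorElement
open Cfsg Module

set_option autoImplicit false
set_option linter.style.haveILetI false
set_option linter.unusedSectionVars false

attribute [local instance] Fintype.ofFinite

namespace Cfsg.Agent.Char.RelMcKay

universe u

variable {Γ : Type u} [Group Γ]

theorem mem_sup_iff {M K : Subgroup Γ} (h : K ≤ Subgroup.normalizer (M : Set Γ)) {z : Γ} :
    z ∈ M ⊔ K ↔ ∃ m ∈ M, ∃ k ∈ K, m * k = z := by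
  rw [sup_comm, ← SetLike.mem_coe, Subgroup.coe_mul_of_left_le_normalizer_right K M h,
    Set.mem_mul]
  constructor
  · rintro ⟨k, hk, m, hm, rfl⟩
    exact ⟨k * m * k⁻¹, (Subgroup.mem_set_normalizer_iff.1 (h hk) m).1 hm, k, hk, by group⟩
  · rintro ⟨m, hm, k, hk, rfl⟩
    exact ⟨k, hk, k⁻¹ * m * k, (Subgroup.mem_set_normalizer_iff.1 (h hk) _).2 (by
      simpa [mul_assoc] using hm), by group⟩

theorem conj_mem_iff {M : Subgroup Γ} {x : Γ} (hx : x ∈ Subgroup.normalizer (M : Set Γ)) (m : Γ) :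
    x * m * x⁻¹ ∈ M ↔ m ∈ M :=
  (Subgroup.mem_set_normalizer_iff.1 hx m).symm

/-- The stabilizer of a character of a subgroup inside the normalizer. -/
def charStab (M : Subgroup Γ) (θ : M → ℂ) : Subgroup Γ where
  carrier := {x | x ∈ Subgroup.normalizer (M : Set Γ) ∧
    ∀ m : Γ, extendByZero M θ (x * m * x⁻¹) = extendByZero M θ m}
  one_mem' := ⟨one_mem _, fun m => by simp⟩
  mul_mem' := fun {a b} ha hb => ⟨mul_mem ha.1 hb.1, fun m => by
    rw [show a * b * m * (a * b)⁻¹ = a * (b * m * b⁻¹) * a⁻¹ by group, ha.2, hb.2]⟩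
  inv_mem' := fun {a} ha => ⟨inv_mem ha.1, fun m => by
    rw [← ha.2 (a⁻¹ * m * a⁻¹⁻¹)]
    congr 1
    group⟩

theorem charStab_le (M : Subgroup Γ) (θ : M → ℂ) : charStab M θ ≤ Subgroup.normalizer (M : Set Γ) :=
  fun _ h => h.1

/-- It is enough to compare values on the subgroup. -/
theorem mem_charStab_iff {M : Subgroup Γ} {θ : M → ℂ} {x : Γ} :
    x ∈ charStab M θ ↔ x ∈ Subgroup.normalizer (M : Set Γ) ∧
      ∀ m m' : M, (m' : Γ) = x * m * x⁻¹ → θ m' = θ m := by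
  constructor
  · rintro ⟨hn, h⟩
    refine ⟨hn, fun m m' e => ?_⟩
    have := h m
    rw [← e, extendByZero_mem M θ m'.2, extendByZero_mem M θ m.2] at this
    exact this
  · rintro ⟨hn, h⟩
    refine ⟨hn, fun m => ?_⟩
    by_cases hm : m ∈ M
    · rw [extendByZero_mem M θ ((conj_mem_iff hn m).2 hm), extendByZero_mem M θ hm]
      exact h ⟨m, hm⟩ _ rfl
    · rw [extendByZero_not_mem M θ hm, extendByZero_not_mem M θ fun h' => hm ((conj_mem_iff hn m).1 h')]

/-- A class function is fixed by its own subgroup. -/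
theorem le_charStab {M : Subgroup Γ} {θ : M → ℂ} (hθ : IsClassFunction M θ) : M ≤ charStab M θ := by
  intro x hx
  refine mem_charStab_iff.2 ⟨Subgroup.le_normalizer hx, fun m m' e => ?_⟩
  rw [show m' = ⟨x, hx⟩ * m * (⟨x, hx⟩ : M)⁻¹ from Subtype.ext e, hθ]

theorem commutator_shift (g h x y : Γ) :
    ⁅g * x, h * y⁆ = g * (x * (h * y) * x⁻¹) * g⁻¹ * (h * y)⁻¹ := by
  rw [commutatorElement_def]; group

theorem coset_conj_mem {M : Subgroup Γ} {x y h : Γ} (hx : x ∈ Subgroup.normalizer (M : Set Γ))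
    (hxy : ⁅x, y⁆ ∈ M) (hh : h ∈ M) : x * (h * y) * x⁻¹ * y⁻¹ ∈ M := by
  have : x * (h * y) * x⁻¹ * y⁻¹ = (x * h * x⁻¹) * ⁅x, y⁆ := by rw [commutatorElement_def]; group
  rw [this]
  exact mul_mem ((conj_mem_iff hx h).2 hh) hxy

theorem mul_inv_mem_normalizer {M : Subgroup Γ} {a y : Γ} (hy : y ∈ Subgroup.normalizer (M : Set Γ))
    (ha : a * y⁻¹ ∈ M) : a ∈ Subgroup.normalizer (M : Set Γ) := by
  rw [show a = a * y⁻¹ * y by group]
  exact mul_mem (Subgroup.le_normalizer ha) hy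

theorem comm_mem_iff {M : Subgroup Γ} {g h x y : Γ} (hx : x ∈ Subgroup.normalizer (M : Set Γ))
    (hy : y ∈ Subgroup.normalizer (M : Set Γ)) (hg : g ∈ M) (hh : h ∈ M) :
    ⁅g * x, h * y⁆ ∈ M ↔ ⁅x, y⁆ ∈ M := by
  have e : ⁅g * x, h * y⁆ = g * (x * h * x⁻¹) * ⁅x, y⁆ * (y * g⁻¹ * y⁻¹) * h⁻¹ := by
    rw [commutatorElement_def, commutatorElement_def]; group
  rw [e, M.mul_mem_cancel_right (inv_mem hh), M.mul_mem_cancel_right ((conj_mem_iff hy _).2 (inv_mem hg)),
    M.mul_mem_cancel_left (mul_mem hg ((conj_mem_iff hx h).2 hh))]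

variable [Finite Γ]

/-- The pairing. -/
noncomputable def pairF (M : Subgroup Γ) (θ : M → ℂ) (x y : Γ) : ℂ :=
  θ 1 / (Nat.card M : ℂ) ^ 2 * ∑ g : M, ∑ h : M, extendByZero M θ ⁅(g : Γ) * x, (h : Γ) * y⁆

theorem extendByZero_inv {M : Subgroup Γ} {θ : M → ℂ} (hθ : IsCharacter M θ) (z : Γ) :
    extendByZero M θ z⁻¹ = conj (extendByZero M θ z) := by
  by_cases hz : z ∈ M
  · rw [extendByZero_mem M θ (inv_mem hz), extendByZero_mem M θ hz, ← char_inv hθ]
    rfl
  · rw [extendByZero_not_mem M θ hz, extendByZero_not_mem M θ fun h => hz (M.inv_mem_iff.1 h),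
      map_zero]

theorem pairF_symm {M : Subgroup Γ} {θ : M → ℂ} (hθ : IsCharacter M θ) (x y : Γ) :
    pairF M θ y x = conj (pairF M θ x y) := by
  obtain ⟨d, hd⟩ := charOne_eq_natCast hθ
  rw [pairF, pairF, map_mul, map_div₀, map_pow, Complex.conj_natCast, hd, Complex.conj_natCast,
    map_sum, Finset.sum_comm]
  congr 1
  refine Finset.sum_congr rfl fun g _ => ?_
  rw [map_sum]
  refine Finset.sum_congr rfl fun h _ => ?_
  rw [← extendByZero_inv hθ, commutatorElement_inv]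

theorem pairF_mul_left (M : Subgroup Γ) (θ : M → ℂ) {m : Γ} (hm : m ∈ M) (x y : Γ) :
    pairF M θ (m * x) y = pairF M θ x y := by
  simp only [pairF]
  congr 1
  refine Fintype.sum_equiv (Equiv.mulRight ⟨m, hm⟩) _ _ fun g => ?_
  simp [mul_assoc]

theorem pairF_mul_right (M : Subgroup Γ) (θ : M → ℂ) {m : Γ} (hm : m ∈ M) (x y : Γ) :
    pairF M θ x (m * y) = pairF M θ x y := by
  simp only [pairF]
  congr 1
  refine Finset.sum_congr rfl fun g _ => ?_
  refine Fintype.sum_equiv (Equiv.mulRight ⟨m, hm⟩) _ _ fun h => ?_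
  simp [mul_assoc]

theorem pairF_eq_zero_of_not_mem {M : Subgroup Γ} (θ : M → ℂ) {x y : Γ}
    (hx : x ∈ Subgroup.normalizer (M : Set Γ)) (hy : y ∈ Subgroup.normalizer (M : Set Γ))
    (h : ⁅x, y⁆ ∉ M) : pairF M θ x y = 0 := by
  rw [pairF, Finset.sum_eq_zero fun g _ => Finset.sum_eq_zero fun k _ =>
    extendByZero_not_mem M θ fun h' => h ((comm_mem_iff hx hy g.2 k.2).1 h'), mul_zero]

/-- A character summed along a twisted class vanishes unless the twist fixes it. -/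
theorem sum_twisted_eq_zero {K : Type*} [Group K] [Finite K] {θ : K → ℂ} (hθ : IsIrrCharacter K θ)
    (α : MulAut K) (hne : (fun k => θ (α k)) ≠ θ) (m : K) : ∑ g : K, θ (g * α g⁻¹ * m) = 0 := by
  obtain ⟨n, ρ, hρ, rfl⟩ := id hθ
  let σ : Representation ℂ K (Fin n → ℂ) := ρ.comp α.toMonoidHom
  set T : Module.End ℂ (Fin n → ℂ) := ∑ g : K, ρ g * ρ (α g⁻¹) with hT
  have hcomm : ∀ k, T ∘ₗ σ k = ρ k ∘ₗ T := by
    intro k
    show T * ρ (α k) = ρ k * T
    rw [hT, Finset.sum_mul, Finset.mul_sum]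
    refine Fintype.sum_equiv (Equiv.mulLeft k⁻¹) _ _ fun g => ?_
    simp only [Equiv.coe_mulLeft]
    simp only [← map_mul, ← mul_assoc]
    rw [show k * k⁻¹ * g = g by group, show (k⁻¹ * g)⁻¹ = g⁻¹ * k by group, map_mul α, mul_assoc]
  have h0 : classInner ρ.character σ.character = 0 := by
    rw [show σ.character = fun k => ρ.character (α k) from rfl,
      irr_orth hθ (isIrrCharacter_comp_equiv α hθ), if_neg fun h => hne h.symm]
  rw [classInner_rep, Nat.cast_eq_zero, Module.finrank_zero_iff] at h0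
  have hT0 : T = 0 := congrArg Representation.IntertwiningMap.toLinearMap
    (@Subsingleton.elim _ h0 (⟨T, hcomm⟩ : σ.IntertwiningMap ρ) 0)
  calc ∑ g : K, ρ.character (g * α g⁻¹ * m)
      = LinearMap.trace ℂ _ (T * ρ m) := by
        rw [hT, Finset.sum_mul, map_sum]
        refine Finset.sum_congr rfl fun g _ => ?_
        rw [← map_mul, ← map_mul]
        rfl
    _ = 0 := by rw [hT0, zero_mul, map_zero]

theorem pairF_eq_zero_of_not_fix_right {M : Subgroup Γ} {θ : M → ℂ} (hθ : IsIrrCharacter M θ)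
    {x y : Γ} (hx : x ∈ Subgroup.normalizer (M : Set Γ)) (hy : y ∈ Subgroup.normalizer (M : Set Γ))
    (hfix : y ∉ charStab M θ) : pairF M θ x y = 0 := by
  by_cases hxy : ⁅x, y⁆ ∈ M
  swap
  · exact pairF_eq_zero_of_not_mem θ hx hy hxy
  rw [pairF, Finset.sum_comm, Finset.sum_eq_zero fun h _ => ?_, mul_zero]
  set a := x * ((h : Γ) * y) * x⁻¹ with ha
  have hay : a * y⁻¹ ∈ M := coset_conj_mem hx hxy h.2
  have han := mul_inv_mem_normalizer hy hay
  have hm : a * ((h : Γ) * y)⁻¹ ∈ M := by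
    rw [mul_inv_rev, ← mul_assoc]
    exact mul_mem hay (inv_mem h.2)
  let α : MulAut M :=
    { toFun := fun k => ⟨a * k * a⁻¹, (conj_mem_iff han _).2 k.2⟩
      invFun := fun k => ⟨a⁻¹ * k * a, by
        simpa using (conj_mem_iff (inv_mem han) (k : Γ)).2 k.2⟩
      left_inv := fun k => Subtype.ext (by simp only; group)
      right_inv := fun k => Subtype.ext (by simp only; group)
      map_mul' := fun k l => Subtype.ext (by simp only [Subgroup.coe_mul]; group) }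
  have hne : (fun k => θ (α k)) ≠ θ := by
    intro e
    apply hfix
    have haS : a ∈ charStab M θ := by
      refine mem_charStab_iff.2 ⟨han, fun m m' e' => ?_⟩
      rw [show m' = α m from Subtype.ext e']
      exact congrFun e m
    rw [show y = (a * y⁻¹)⁻¹ * a by group]
    exact mul_mem (le_charStab (isClassFunction_character (irr_isCharacter hθ)) (inv_mem hay)) haS
  refine Eq.trans (Finset.sum_congr rfl fun g _ => ?_) (sum_twisted_eq_zero hθ α hne ⟨_, hm⟩)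
  have e : ⁅(g : Γ) * x, (h : Γ) * y⁆ = ((g * α g⁻¹ * ⟨_, hm⟩ : M) : Γ) := by
    show _ = (g : Γ) * (a * (g : Γ)⁻¹ * a⁻¹) * (a * ((h : Γ) * y)⁻¹)
    rw [commutator_shift, ← ha]
    group
  rw [e, extendByZero_mem M θ (Subtype.prop _)]

theorem pairF_eq_zero_of_not_fix_left {M : Subgroup Γ} {θ : M → ℂ} (hθ : IsIrrCharacter M θ)
    {x y : Γ} (hx : x ∈ Subgroup.normalizer (M : Set Γ)) (hy : y ∈ Subgroup.normalizer (M : Set Γ))
    (hfix : x ∉ charStab M θ) : pairF M θ x y = 0 := by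
  rw [pairF_symm (irr_isCharacter hθ), pairF_eq_zero_of_not_fix_right hθ hy hx hfix, map_zero]

section Extension

variable {M Y : Subgroup Γ} {θ : M → ℂ} {η : Y → ℂ}

/-- `η` is an irreducible character of `Y` extending `θ`. -/
structure IsExtOn (M Y : Subgroup Γ) (θ : M → ℂ) (η : Y → ℂ) : Prop where
  le : M ≤ Y
  le_norm : Y ≤ Subgroup.normalizer (M : Set Γ)
  irr : IsIrrCharacter Y η
  irrθ : IsIrrCharacter M θ
  res : ∀ m : M, η (Subgroup.inclusion le m) = θ m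

theorem IsExtOn.one_eq (H : IsExtOn M Y θ η) : η 1 = θ 1 := by
  rw [← H.res 1, map_one]

theorem IsExtOn.ext_eq (H : IsExtOn M Y θ η) {z : Γ} (hz : z ∈ M) :
    extendByZero M θ z = extendByZero Y η z := by
  rw [extendByZero_mem M θ hz, extendByZero_mem Y η (H.le hz)]
  exact (H.res ⟨z, hz⟩).symm

/-- Averaging over the smaller group. -/
theorem IsExtOn.avg (H : IsExtOn M Y θ η) {a b : Γ} (ha : a ∈ Y) (hb : b ∈ Y) :
    θ 1 * ∑ g : M, extendByZero Y η ((g : Γ) * a * (g : Γ)⁻¹ * b) =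
      (Nat.card M : ℂ) * extendByZero Y η a * extendByZero Y η b := by
  have h1 := H.one_eq
  have hcl := isClassFunction_character (irr_isCharacter H.irr)
  have hres := H.res
  have hθ := H.irrθ
  obtain ⟨n, ρ, hρ, rfl⟩ := id H.irr
  let ρM : Representation ℂ M (Fin n → ℂ) := ρ.comp (Subgroup.inclusion H.le)
  haveI : ρM.IsIrreducible := by
    obtain ⟨n', σ, hσ, hσc⟩ := id hθ
    obtain ⟨e⟩ := equiv_of_character_eq σ ρM (hσc.trans (funext fun m => (hres m).symm))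
    exact isIrreducible_of_equiv e hσ
  let c : M → Y := fun g => ⟨(g : Γ) * a * (g : Γ)⁻¹, mul_mem (mul_mem (H.le g.2) ha) (inv_mem (H.le g.2))⟩
  set T : (Fin n → ℂ) →ₗ[ℂ] (Fin n → ℂ) := ∑ g : M, ρ (c g) with hT
  have hcomm : ∀ k v, T (ρM k v) = ρM k (T v) := by
    intro k v
    simp only [hT, LinearMap.sum_apply, map_sum]
    refine Fintype.sum_equiv (Equiv.mulLeft k⁻¹) _ _ fun g => ?_
    show ρ (c g) (ρ (Subgroup.inclusion H.le k) v) = ρ (Subgroup.inclusion H.le k) (ρ (c (k⁻¹ * g)) v)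
    rw [← Module.End.mul_apply, ← map_mul, ← Module.End.mul_apply, ← map_mul]
    congr 2
    apply Subtype.ext
    show (g : Γ) * a * (g : Γ)⁻¹ * (k : Γ) =
      (k : Γ) * ((k : Γ)⁻¹ * g * a * ((k : Γ)⁻¹ * g)⁻¹)
    group
  obtain ⟨s, hs⟩ := schur_scalar ρM T fun k => LinearMap.ext fun v => hcomm k v
  have htr : LinearMap.trace ℂ _ T = (Nat.card M : ℂ) * ρ.character ⟨a, ha⟩ := by
    rw [hT, map_sum]
    trans ∑ _g : M, ρ.character ⟨a, ha⟩
    · refine Finset.sum_congr rfl fun g _ => ?_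
      show ρ.character (c g) = _
      rw [← hcl ⟨a, ha⟩ (Subgroup.inclusion H.le g)]
      congr 1
    · rw [Finset.sum_const, Finset.card_univ, nsmul_eq_mul, Nat.card_eq_fintype_card]
  have hsum : ∑ g : M, extendByZero Y ρ.character ((g : Γ) * a * (g : Γ)⁻¹ * b) =
      LinearMap.trace ℂ _ (T * ρ ⟨b, hb⟩) := by
    rw [hT, Finset.sum_mul, map_sum]
    refine Finset.sum_congr rfl fun g _ => ?_
    rw [← map_mul, extendByZero_mem Y _ (mul_mem (c g).2 hb)]
    rfl
  rw [hsum, extendByZero_mem Y _ ha, extendByZero_mem Y _ hb, ← htr, ← h1, hs, Representation.char_one,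
    ← Module.End.one_eq_id, smul_mul_assoc, one_mul, map_smul, map_smul, smul_eq_mul, smul_eq_mul,
    LinearMap.trace_one]
  show _ * (s * ρ.character ⟨b, hb⟩) = _
  ring

/-- The norm of an extension on each coset. -/
theorem IsExtOn.coset_norm (H : IsExtOn M Y θ η) {y : Γ} (hy : y ∈ Y) :
    ∑ h : M, extendByZero Y η ((h : Γ) * y) * conj (extendByZero Y η ((h : Γ) * y)) =
      (Nat.card M : ℂ) := by
  have hyn := H.le_norm hy
  have hθc := irr_isCharacter H.irrθ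
  have hd := irr_one_ne_zero H.irrθ
  have hcl := isClassFunction_character (irr_isCharacter H.irr)
  let w : M → M := fun k => ⟨y * (k : Γ)⁻¹ * y⁻¹, (conj_mem_iff hyn _).2 (inv_mem k.2)⟩
  have h1 : ∀ h : M, θ 1 * ∑ k : M, extendByZero Y η
      ((k : Γ) * ((h : Γ) * y) * (k : Γ)⁻¹ * ((h : Γ) * y)⁻¹) =
      (Nat.card M : ℂ) * (extendByZero Y η ((h : Γ) * y) * conj (extendByZero Y η ((h : Γ) * y))) :=
    fun h => by
    have hm : (h : Γ) * y ∈ Y := mul_mem (H.le h.2) hy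
    rw [H.avg hm (inv_mem hm), extendByZero_inv (irr_isCharacter H.irr), mul_assoc]
  have hw : ∀ k : M, θ (w k) = conj (θ k) := fun k => by
    rw [← char_inv hθc, ← H.res, ← H.res k⁻¹, ← hcl (Subgroup.inclusion H.le k⁻¹) ⟨y, hy⟩]
    congr 1
  have h2 : ∀ k h : M, extendByZero Y η ((k : Γ) * ((h : Γ) * y) * (k : Γ)⁻¹ * ((h : Γ) * y)⁻¹) =
      θ (k * (h * w k * h⁻¹)) := fun k h => by
    rw [show (k : Γ) * ((h : Γ) * y) * (k : Γ)⁻¹ * ((h : Γ) * y)⁻¹ =
        ((k * (h * w k * h⁻¹) : M) : Γ) by simp only [Subgroup.coe_mul, Subgroup.coe_inv, w]; group,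
      ← H.ext_eq (Subtype.prop _), extendByZero_mem M θ (Subtype.prop _)]
  have h3 : (Nat.card M : ℂ) * ∑ h : M, extendByZero Y η ((h : Γ) * y) * conj (extendByZero Y η ((h : Γ) * y)) =
      (Nat.card M : ℂ) * (Nat.card M : ℂ) := by
    rw [Finset.mul_sum, ← Finset.sum_congr rfl fun h _ => h1 h, ← Finset.mul_sum, Finset.sum_comm,
      Finset.mul_sum]
    have h4 : ∀ k : M, θ 1 * ∑ h : M, extendByZero Y η
        ((k : Γ) * ((h : Γ) * y) * (k : Γ)⁻¹ * ((h : Γ) * y)⁻¹) =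
        (Nat.card M : ℂ) * (θ k * conj (θ k)) := fun k => by
      rw [Finset.sum_congr rfl fun h _ => h2 k h, sum_conj_mul H.irrθ k (w k), hw, mul_assoc]
    rw [Finset.sum_congr rfl fun k _ => h4 k, ← Finset.mul_sum]
    congr 1
    have h5 := irr_self H.irrθ
    rw [classInner, inv_mul_eq_iff_eq_mul₀ (Nat.cast_ne_zero.2 Nat.card_pos.ne'), mul_one] at h5
    exact h5
  exact mul_left_cancel₀ (Nat.cast_ne_zero.2 Nat.card_pos.ne') h3

/-- An extension does not vanish identically on a coset. -/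
theorem IsExtOn.exists_ne_zero (H : IsExtOn M Y θ η) {y : Γ} (hy : y ∈ Y) :
    ∃ h : M, extendByZero Y η ((h : Γ) * y) ≠ 0 := by
  by_contra hno
  push Not at hno
  have := H.coset_norm hy
  rw [Finset.sum_eq_zero fun h _ => by rw [hno h, zero_mul]] at this
  exact (Nat.cast_ne_zero.2 (Nat.card_pos (α := M)).ne') this.symm

/-- The value of the pairing from an extension. -/
theorem IsExtOn.pairF_eq (H : IsExtOn M Y θ η) {x y : Γ} (hy : y ∈ Y)
    (hx : x ∈ Subgroup.normalizer (M : Set Γ)) (hxy : ⁅x, y⁆ ∈ M) {c : ℂ}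
    (hc : ∀ h : M, extendByZero Y η (x * ((h : Γ) * y) * x⁻¹) = c * extendByZero Y η ((h : Γ) * y)) :
    pairF M θ x y = c := by
  have hn : (Nat.card M : ℂ) ≠ 0 := Nat.cast_ne_zero.2 Nat.card_pos.ne'
  have h1 : ∀ h : M, θ 1 * ∑ g : M, extendByZero M θ ⁅(g : Γ) * x, (h : Γ) * y⁆ =
      (Nat.card M : ℂ) * c * (extendByZero Y η ((h : Γ) * y) * conj (extendByZero Y η ((h : Γ) * y))) :=
    fun h => by
    have hm : (h : Γ) * y ∈ Y := mul_mem (H.le h.2) hy
    have ha : x * ((h : Γ) * y) * x⁻¹ ∈ Y := by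
      have := mul_mem (H.le (coset_conj_mem hx hxy h.2)) hy
      rwa [inv_mul_cancel_right] at this
    have e := H.avg ha (inv_mem hm)
    rw [hc, extendByZero_inv (irr_isCharacter H.irr)] at e
    rw [Finset.sum_congr rfl (g := fun g : M => extendByZero Y η
      ((g : Γ) * (x * ((h : Γ) * y) * x⁻¹) * (g : Γ)⁻¹ * ((h : Γ) * y)⁻¹)) fun g _ => by
      rw [← commutator_shift, H.ext_eq ((comm_mem_iff hx (H.le_norm hy) g.2 h.2).2 hxy)], e]
    ring
  rw [pairF, Finset.sum_comm, div_mul_eq_mul_div, Finset.mul_sum, Finset.sum_congr rfl fun h _ => h1 h,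
    ← Finset.mul_sum, H.coset_norm hy]
  field_simp

/-- An element fixing the restriction moves an extension by a linear character. -/
theorem IsExtOn.exists_conj_twist (H : IsExtOn M Y θ η) {x : Γ} (hx : x ∈ charStab M θ)
    (hxY : x ∈ Subgroup.normalizer (Y : Set Γ)) :
    ∃ l : Y →* ℂˣ, (∀ m : M, l (Subgroup.inclusion H.le m) = 1) ∧
      ∀ a : Y, extendByZero Y η (x * (a : Γ) * x⁻¹) = (l a : ℂ) * η a := by
  haveI : (M.subgroupOf Y).Normal := Subgroup.normal_subgroupOf_of_le_normalizer H.le_norm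
  let α : MulAut Y :=
    { toFun := fun a => ⟨x * a * x⁻¹, (conj_mem_iff hxY _).2 a.2⟩
      invFun := fun a => ⟨x⁻¹ * a * x, by simpa using (conj_mem_iff (inv_mem hxY) (a : Γ)).2 a.2⟩
      left_inv := fun a => Subtype.ext (by simp only; group)
      right_inv := fun a => Subtype.ext (by simp only; group)
      map_mul' := fun a b => Subtype.ext (by simp only [Subgroup.coe_mul]; group) }
  let e : M.subgroupOf Y ≃* M := Subgroup.subgroupOfEquivOfLe H.le
  have hθ' := isIrrCharacter_comp_equiv e H.irrθ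
  obtain ⟨d, hd⟩ := charOne_eq_natCast (irr_isCharacter hθ')
  obtain ⟨l, hl1, hl2, -⟩ := exists_twist (M.subgroupOf Y) (χ := η) (χ' := fun a => η (α a))
    (θ := fun n : M.subgroupOf Y => θ (e n)) (irr_isCharacter H.irr)
    (irr_isCharacter (isIrrCharacter_comp_equiv α H.irr)) hθ' d hd
    (fun n => H.res (e n))
    (fun n => by
      have hn : x * ((n : Y) : Γ) * x⁻¹ ∈ M := (conj_mem_iff hx.1 _).2 n.2
      show η (α (n : Y)) = θ (e n)
      rw [show α (n : Y) = Subgroup.inclusion H.le ⟨_, hn⟩ from rfl, H.res]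
      exact (mem_charStab_iff.1 hx).2 (e n) ⟨_, hn⟩ rfl)
  refine ⟨l, fun m => hl1 ⟨Subgroup.inclusion H.le m, m.2⟩, fun a => ?_⟩
  refine (extendByZero_mem Y η (α a).2).trans ?_
  exact congrFun hl2 a

end Extension

theorem zpowers_le_normalizer {M : Subgroup Γ} {y : Γ} (hy : y ∈ Subgroup.normalizer (M : Set Γ)) :
    Subgroup.zpowers y ≤ Subgroup.normalizer (M : Set Γ) :=
  Subgroup.zpowers_le.2 hy

theorem mem_sup_zpowers_iff {M : Subgroup Γ} {y : Γ} (hy : y ∈ Subgroup.normalizer (M : Set Γ))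
    {z : Γ} : z ∈ M ⊔ Subgroup.zpowers y ↔ ∃ m ∈ M, ∃ k : ℤ, m * y ^ k = z := by
  rw [mem_sup_iff (zpowers_le_normalizer hy)]
  simp [Subgroup.mem_zpowers_iff]

theorem sup_zpowers_le_normalizer {M : Subgroup Γ} {y : Γ} (hy : y ∈ Subgroup.normalizer (M : Set Γ)) :
    M ⊔ Subgroup.zpowers y ≤ Subgroup.normalizer (M : Set Γ) :=
  sup_le Subgroup.le_normalizer (zpowers_le_normalizer hy)

/-- Elements commuting with `y` modulo `M` normalize `⟨M, y⟩`. -/
theorem mem_normalizer_sup_zpowers {M : Subgroup Γ} {x y : Γ}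
    (hx : x ∈ Subgroup.normalizer (M : Set Γ)) (hxy : ⁅x, y⁆ ∈ M) :
    x ∈ Subgroup.normalizer ((M ⊔ Subgroup.zpowers y : Subgroup Γ) : Set Γ) := by
  set Y := M ⊔ Subgroup.zpowers y
  have hy : y ∈ Y := Subgroup.mem_sup_right (Subgroup.mem_zpowers y)
  have h1 : x * y * x⁻¹ ∈ Y := by
    rw [show x * y * x⁻¹ = ⁅x, y⁆ * y by rw [commutatorElement_def]; group]
    exact mul_mem (Subgroup.mem_sup_left hxy) hy
  have hmap : Y.map (MulAut.conj x).toMonoidHom ≤ Y := by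
    rw [Subgroup.map_sup, MonoidHom.map_zpowers]
    refine sup_le ?_ (Subgroup.zpowers_le.2 h1)
    rintro _ ⟨m, hm, rfl⟩
    exact Subgroup.mem_sup_left ((conj_mem_iff hx m).2 hm)
  have heq := Subgroup.eq_of_le_of_card_ge hmap
    (le_of_eq (Subgroup.card_map_of_injective (MulAut.conj x).injective).symm)
  rw [Subgroup.mem_set_normalizer_iff]
  intro h
  constructor
  · exact fun hh => heq ▸ ⟨h, hh, rfl⟩
  · intro hh
    rw [← heq] at hh
    obtain ⟨k, hk, e⟩ := hh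
    rwa [← (MulAut.conj x).injective e]

theorem isCyclic_sup_quotient {M : Subgroup Γ} {y : Γ} (hy : y ∈ Subgroup.normalizer (M : Set Γ))
    [(M.subgroupOf (M ⊔ Subgroup.zpowers y)).Normal] :
    IsCyclic (↥(M ⊔ Subgroup.zpowers y) ⧸ M.subgroupOf (M ⊔ Subgroup.zpowers y)) := by
  set Y := M ⊔ Subgroup.zpowers y with hY
  have hle : M ≤ Y := le_sup_left
  let yY : Y := ⟨y, Subgroup.mem_sup_right (Subgroup.mem_zpowers y)⟩
  refine isCyclic_iff_exists_zpowers_eq_top.2 ⟨QuotientGroup.mk yY, eq_top_iff.2 fun q _ => ?_⟩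
  obtain ⟨⟨z, hz⟩, rfl⟩ := QuotientGroup.mk_surjective q
  obtain ⟨m, hm, k, rfl⟩ := (mem_sup_zpowers_iff hy).1 hz
  refine Subgroup.mem_zpowers_iff.2 ⟨k, ?_⟩
  rw [show (⟨m * y ^ k, hz⟩ : Y) = ⟨m, hle hm⟩ * yY ^ k from Subtype.ext (by simp [yY]),
    QuotientGroup.mk_mul, (QuotientGroup.eq_one_iff (⟨m, hle hm⟩ : Y)).2 hm, one_mul, QuotientGroup.mk_zpow]

/-- A fixed character extends to `⟨M, y⟩`. -/
theorem exists_isExtOn {M : Subgroup Γ} {θ : M → ℂ} (hθ : IsIrrCharacter M θ) {y : Γ}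
    (hy : y ∈ charStab M θ) :
    ∃ η : ↥(M ⊔ Subgroup.zpowers y) → ℂ, IsExtOn M (M ⊔ Subgroup.zpowers y) θ η := by
  set Y := M ⊔ Subgroup.zpowers y with hY
  have hle : M ≤ Y := le_sup_left
  have hn := sup_zpowers_le_normalizer hy.1
  haveI : (M.subgroupOf Y).Normal := Subgroup.normal_subgroupOf_of_le_normalizer hn
  have hcyc : IsCyclic (Y ⧸ M.subgroupOf Y) := isCyclic_sup_quotient hy.1
  have hYS : Y ≤ charStab M θ :=
    sup_le (le_charStab (isClassFunction_character (irr_isCharacter hθ))) (Subgroup.zpowers_le.2 hy)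
  let e : M.subgroupOf Y ≃* M := Subgroup.subgroupOfEquivOfLe hle
  obtain ⟨η, hη, hres⟩ := exists_extension_cyclic (M.subgroupOf Y) hcyc
    (θ := fun n => θ (e n)) (isIrrCharacter_comp_equiv e hθ) (fun g n =>
      (mem_charStab_iff.1 (hYS g.2)).2 (e n) (e (MulAut.conjNormal g n))
        (show ((MulAut.conjNormal g n : M.subgroupOf Y) : Y).1 = _ by
          rw [MulAut.conjNormal_apply]; rfl))
  exact ⟨η, hle, hn, hη, hθ, fun m => hres ⟨Subgroup.inclusion hle m, m.2⟩⟩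

/-- For fixing elements the pairing is the value of a twist. -/
theorem exists_pairF_data {M : Subgroup Γ} {θ : M → ℂ} (hθ : IsIrrCharacter M θ) {x y : Γ}
    (hx : x ∈ charStab M θ) (hy : y ∈ charStab M θ) (hxy : ⁅x, y⁆ ∈ M) :
    ∃ (η : ↥(M ⊔ Subgroup.zpowers y) → ℂ), IsExtOn M (M ⊔ Subgroup.zpowers y) θ η ∧
      ∀ h : M, extendByZero (M ⊔ Subgroup.zpowers y) η (x * ((h : Γ) * y) * x⁻¹) =
        pairF M θ x y * extendByZero (M ⊔ Subgroup.zpowers y) η ((h : Γ) * y) := by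
  obtain ⟨η, H⟩ := exists_isExtOn hθ hy
  have hyY : y ∈ M ⊔ Subgroup.zpowers y := Subgroup.mem_sup_right (Subgroup.mem_zpowers y)
  obtain ⟨l, hl1, hl2⟩ := H.exists_conj_twist hx (mem_normalizer_sup_zpowers hx.1 hxy)
  have hc : ∀ h : M, extendByZero _ η (x * ((h : Γ) * y) * x⁻¹) =
      (l ⟨y, hyY⟩ : ℂ) * extendByZero _ η ((h : Γ) * y) := fun h => by
    rw [extendByZero_mem _ η (mul_mem (H.le h.2) hyY)]
    refine (hl2 ⟨(h : Γ) * y, mul_mem (H.le h.2) hyY⟩).trans ?_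
    rw [show (⟨(h : Γ) * y, mul_mem (H.le h.2) hyY⟩ : ↥(M ⊔ Subgroup.zpowers y)) =
      Subgroup.inclusion H.le h * ⟨y, hyY⟩ from rfl, map_mul, hl1, one_mul]
  exact ⟨η, H, fun h => by rw [H.pairF_eq hyY hx.1 hxy hc]; exact hc h⟩

/-- The pairing does not change when `x` is moved by a power of `y`. -/
theorem pairF_mul_zpow {M : Subgroup Γ} {θ : M → ℂ} (hθ : IsIrrCharacter M θ) {x y : Γ}
    (hx : x ∈ Subgroup.normalizer (M : Set Γ)) (hy : y ∈ Subgroup.normalizer (M : Set Γ)) (k : ℤ) :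
    pairF M θ (x * y ^ k) y = pairF M θ x y := by
  have hxk : x * y ^ k ∈ Subgroup.normalizer (M : Set Γ) := mul_mem hx (zpow_mem hy k)
  have hcomm : ⁅x * y ^ k, y⁆ = ⁅x, y⁆ := by
    rw [commutatorElement_def, commutatorElement_def]; group
  by_cases hyS : y ∈ charStab M θ
  swap
  · rw [pairF_eq_zero_of_not_fix_right hθ hxk hy hyS, pairF_eq_zero_of_not_fix_right hθ hx hy hyS]
  by_cases hxS : x ∈ charStab M θ
  swap
  · have hxkS : x * y ^ k ∉ charStab M θ := fun h =>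
      hxS (((charStab M θ).mul_mem_cancel_right (zpow_mem hyS k)).1 h)
    rw [pairF_eq_zero_of_not_fix_left hθ hxk hy hxkS, pairF_eq_zero_of_not_fix_left hθ hx hy hxS]
  by_cases hxy : ⁅x, y⁆ ∈ M
  swap
  · rw [pairF_eq_zero_of_not_mem θ hxk hy (hcomm ▸ hxy), pairF_eq_zero_of_not_mem θ hx hy hxy]
  obtain ⟨η, H, hc⟩ := exists_pairF_data hθ hxS hyS hxy
  have hyY : y ∈ M ⊔ Subgroup.zpowers y := Subgroup.mem_sup_right (Subgroup.mem_zpowers y)
  refine H.pairF_eq hyY hxk (hcomm ▸ hxy) fun h => ?_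
  have hh : y ^ k * (h : Γ) * (y ^ k)⁻¹ ∈ M := (conj_mem_iff (zpow_mem hy k) _).2 h.2
  rw [show x * y ^ k * ((h : Γ) * y) * (x * y ^ k)⁻¹ =
      x * ((⟨_, hh⟩ : M) * y) * x⁻¹ by simp only; group, hc ⟨_, hh⟩]
  congr 1
  rw [show ((⟨_, hh⟩ : M) : Γ) * y = y ^ k * ((h : Γ) * y) * (y ^ k)⁻¹ by simp only; group,
    extendByZero_mem _ η (mul_mem (mul_mem (zpow_mem hyY k) (mul_mem (H.le h.2) hyY)) (inv_mem (zpow_mem hyY k))),
    extendByZero_mem _ η (mul_mem (H.le h.2) hyY)]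
  exact isClassFunction_character (irr_isCharacter H.irr) ⟨(h : Γ) * y, mul_mem (H.le h.2) hyY⟩
    ⟨y ^ k, zpow_mem hyY k⟩

/-- The pairing is transported by homomorphisms that are bijective on `M`. -/
theorem pairF_hom {Δ : Type u} [Group Δ] [Finite Δ] (f : Δ →* Γ) {M : Subgroup Γ} {M' : Subgroup Δ}
    (e : M' ≃* M) (he : ∀ m : M', f (m : Δ) = (e m : Γ)) (θ : M → ℂ) {x y : Δ}
    (hx : x ∈ Subgroup.normalizer (M' : Set Δ)) (hy : y ∈ Subgroup.normalizer (M' : Set Δ))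
    (hxy : ⁅x, y⁆ ∈ M') :
    pairF M θ (f x) (f y) = pairF M' (fun m => θ (e m)) x y := by
  simp only [pairF, map_one, Nat.card_congr e.toEquiv]
  congr 1
  refine (Fintype.sum_equiv e.toEquiv _ _ fun g => ?_).symm
  refine Fintype.sum_equiv e.toEquiv _ _ fun h => ?_
  have hmem : ⁅(g : Δ) * x, (h : Δ) * y⁆ ∈ M' := (comm_mem_iff hx hy g.2 h.2).2 hxy
  rw [extendByZero_mem M' _ hmem, show ((e.toEquiv g : M) : Γ) * f x = f ((g : Δ) * x) by
    rw [map_mul, he]; rfl, show ((e.toEquiv h : M) : Γ) * f y = f ((h : Δ) * y) by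
    rw [map_mul, he]; rfl, ← map_commutatorElement f, ← show ((e ⟨_, hmem⟩ : M) : Γ) = _ from
      (he ⟨_, hmem⟩).symm, extendByZero_mem M θ (Subtype.prop _)]

end Cfsg.Agent.Char.RelMcKay
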