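import Cfsg.Agent.Lib.Char.RelMcKay.GlCorr
import Cfsg.Agent.Lib.Char.Gallagher
import Mathlib

/-!
# One step of the transfer of the pairing along the correspondence
-/

open scoped ComplexConjugate commutatorElement
open Cfsg Module

set_option autoImplicit false
set_option linter.style.haveILetI false
set_option linter.unusedSectionVars false

attribute [local instance] Fintype.ofFinite

namespace Cfsg.Agent.Char.RelMcKay

universe u

variable {Γ : Type u} [Group Γ] [Finite Γ]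

theorem lin_mul_conj {G : Type*} [Group G] [Finite G] (l : G →* ℂˣ) (g : G) :
    (l g : ℂ) * conj (l g : ℂ) = 1 := by
  haveI := Fintype.ofFinite G
  rw [← char_inv (isCharacter_linear l) g, ← Units.val_mul, ← map_mul, mul_inv_cancel, map_one,
    Units.val_one]

theorem mem_normalizer_centralizer {S : Subgroup Γ} {g : Γ}
    (hg : g ∈ Subgroup.normalizer (S : Set Γ)) :
    g ∈ Subgroup.normalizer ((Subgroup.centralizer (S : Set Γ) : Subgroup Γ) : Set Γ) := by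
  have key : ∀ a ∈ Subgroup.normalizer (S : Set Γ), ∀ c ∈ Subgroup.centralizer (S : Set Γ),
      a * c * a⁻¹ ∈ Subgroup.centralizer (S : Set Γ) := by
    intro a ha c hc
    rw [Subgroup.mem_centralizer_iff]
    intro s hs
    have hs' : a⁻¹ * s * a ∈ S := by simpa using (conj_mem_iff (inv_mem ha) s).2 hs
    have h := Subgroup.mem_centralizer_iff.1 hc _ hs'
    calc s * (a * c * a⁻¹) = a * (a⁻¹ * s * a * c) * a⁻¹ := by group
      _ = a * (c * (a⁻¹ * s * a)) * a⁻¹ := by rw [h]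
      _ = a * c * a⁻¹ * s := by group
  rw [Subgroup.mem_set_normalizer_iff]
  intro c
  refine ⟨key g hg c, fun h => ?_⟩
  have := key g⁻¹ (inv_mem hg) _ h
  rwa [show g⁻¹ * (g * c * g⁻¹) * g⁻¹⁻¹ = c by group] at this

theorem mem_normalizer_fixC {K S : Subgroup Γ} {g : Γ} (hK : g ∈ Subgroup.normalizer (K : Set Γ))
    (hS : g ∈ Subgroup.normalizer (S : Set Γ)) :
    g ∈ Subgroup.normalizer ((fixC K S : Subgroup Γ) : Set Γ) := by
  rw [Subgroup.mem_set_normalizer_iff]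
  intro c
  show c ∈ K ⊓ _ ↔ _ ∈ K ⊓ _
  rw [Subgroup.mem_inf, Subgroup.mem_inf, conj_mem_iff hK, conj_mem_iff (mem_normalizer_centralizer hS)]

theorem exists_isExtOn' {M Y : Subgroup Γ} {θ : M → ℂ} {y : Γ} (hY : Y = M ⊔ Subgroup.zpowers y)
    (hθ : IsIrrCharacter M θ) (hy : y ∈ charStab M θ) : ∃ η : Y → ℂ, IsExtOn M Y θ η := by
  subst hY; exact exists_isExtOn hθ hy

/-- An irreducible character over an extendible one, with cyclic quotient, extends it. -/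
theorem ext_of_over {M Y : Subgroup Γ} {θ : M → ℂ} {y : Γ} (hY : Y = M ⊔ Subgroup.zpowers y)
    (hθ : IsIrrCharacter M θ) (hy : y ∈ charStab M θ) {β : IrrCharacter Y}
    (h : inn M (extendByZero Y (β : Y → ℂ)) θ ≠ 0) : IsExtOn M Y θ (β : Y → ℂ) := by
  obtain ⟨η, H⟩ := exists_isExtOn' hY hθ hy
  have hMY : M ≤ Y := H.le
  haveI hN : (M.subgroupOf Y).Normal := Subgroup.normal_subgroupOf_of_le_normalizer H.le_norm
  haveI hcyc : IsCyclic (Y ⧸ M.subgroupOf Y) := by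
    subst hY; exact isCyclic_sup_quotient hy.1
  let e : M.subgroupOf Y ≃* M := Subgroup.subgroupOfEquivOfLe hMY
  let θ' : M.subgroupOf Y → ℂ := fun n => θ (e n)
  have hθ' : IsIrrCharacter (M.subgroupOf Y) θ' := isIrrCharacter_comp_equiv e hθ
  have hres : ∀ n : M.subgroupOf Y, η (n : Y) = θ' n := fun n => H.res (e n)
  have hinv : ∀ (g : Y) (n : M.subgroupOf Y), θ' (MulAut.conjNormal g n) = θ' n := fun g n => by
    rw [← hres, ← hres, MulAut.conjNormal_apply, isClassFunction_character (irr_isCharacter H.irr)]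
  have hg := gallagher (M.subgroupOf Y) (fun _ => 1) θ' isIrrCharacter_one (fun _ _ => rfl) hinv
    (by rw [show (fun _ => (1 : ℂ)) * θ' = θ' from funext fun n => one_mul _]; exact hθ')
    (irr_isCharacter H.irr) hres
  obtain ⟨γ, ⟨hγ, hγ1⟩, hγβ⟩ := hg.surjOn (show (β : Y → ℂ) ∈ {ψ : Y → ℂ | IsIrrCharacter Y ψ ∧
      classInner (indFun (M.subgroupOf Y) ((fun _ => 1) * θ')) ψ ≠ 0} from ⟨β.2, by
    rw [show (fun _ => (1 : ℂ)) * θ' = θ' from funext fun n => one_mul _,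
      frobenius _ _ (isClassFunction_character (irr_isCharacter β.2)), ← classInner_symm]
    intro h0
    refine h ?_
    rw [← inn_subgroupOf hMY]
    refine Eq.trans ?_ ((map_eq_zero _).1 h0)
    congr 1
    funext x
    exact extendByZero_mem Y _ (x : Y).2⟩)
  have hker := (constituent_indFun_one_iff (M.subgroupOf Y) hγ).1 hγ1
  obtain ⟨γ', hγ'⟩ := exists_deflate (M.subgroupOf Y) hγ fun n hn => hker ⟨n, hn⟩
  have h1 : γ 1 = 1 := by
    have := (forall_linear_iff_comm (G := Y ⧸ M.subgroupOf Y)).1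
      (fun a b => IsMulCommutative.is_comm.comm a b) γ'
    rw [← hγ' 1, QuotientGroup.mk_one]
    exact this
  refine ⟨hMY, H.le_norm, β.2, hθ, fun m => ?_⟩
  rw [← hγβ]
  show γ _ * η _ = θ m
  rw [hker ⟨Subgroup.inclusion hMY m, m.2⟩, h1, one_mul, H.res]

variable {p : ℕ}

set_option maxHeartbeats 600000 in
/-- One step: pass to the fixed points of a central subgroup centralized by `y`. -/
theorem transfer_step (hp : p.Prime) {K S S1 W C : Subgroup Γ} (hS : IsPGroup p S)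
    (hSK : S ≤ Subgroup.normalizer (K : Set Γ)) (hC : C = fixC K S)
    (hS1 : S1 ≤ S) (hS1c : S ≤ Subgroup.centralizer (S1 : Set Γ)) (hKW : K ≤ W) (hW : ¬ p ∣ Nat.card W)
    (θ : IrrCharacter K) (hθ : S ≤ charStab K (θ : K → ℂ)) (φ : IrrCharacter C)
    (hφ : PNd p C (extendByZero K (θ : K → ℂ)) (φ : C → ℂ)) {x y : Γ} (hyW : y ∈ W)
    (hxS1 : x ∈ Subgroup.normalizer (S1 : Set Γ)) (hyS1 : y ∈ Subgroup.centralizer (S1 : Set Γ))
    (hxθ : x ∈ charStab K (θ : K → ℂ)) (hyθ : y ∈ charStab K (θ : K → ℂ)) (hxy : ⁅x, y⁆ ∈ C) :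
    ∃ θ1 : IrrCharacter ↥(fixC K S1), S ≤ charStab (fixC K S1) (θ1 : fixC K S1 → ℂ) ∧
      x ∈ charStab (fixC K S1) (θ1 : fixC K S1 → ℂ) ∧ y ∈ charStab (fixC K S1) (θ1 : fixC K S1 → ℂ) ∧
      PNd p C (extendByZero (fixC K S1) (θ1 : fixC K S1 → ℂ)) (φ : C → ℂ) ∧
      pairF K (θ : K → ℂ) x y = pairF (fixC K S1) (θ1 : fixC K S1 → ℂ) x y := by
  have hS1p : IsPGroup p S1 := hS.to_le hS1
  have hS1K : S1 ≤ Subgroup.normalizer (K : Set Γ) := hS1.trans hSK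
  have hcoK : ¬ p ∣ Nat.card K := fun h => hW (h.trans (Subgroup.card_dvd_of_le hKW))
  have hS1θ : S1 ≤ charStab K (θ : K → ℂ) := hS1.trans hθ
  have hyN : y ∈ Subgroup.normalizer (S1 : Set Γ) := Subgroup.centralizer_le_normalizer _ hyS1
  have hCK1 : C ≤ fixC K S1 := hC ▸ inf_le_inf_left K (Subgroup.centralizer_le hS1)
  obtain ⟨θ1, hθ1⟩ := exists_right hp hS1p hS1K hcoK θ hS1θ
  have hinv : ∀ g, g ∈ charStab K (θ : K → ℂ) → g ∈ Subgroup.normalizer (S1 : Set Γ) →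
      g ∈ charStab (fixC K S1) (θ1 : fixC K S1 → ℂ) := fun g hgθ hgS => by
    have hgn := mem_normalizer_fixC hgθ.1 hgS
    rw [mem_charStab_iff_conjI hgn]
    have h := hθ1.conj hgn
    rw [show (fun z => extendByZero K (θ : K → ℂ) (g * z * g⁻¹)) = extendByZero K (θ : K → ℂ) from
      funext hgθ.2] at h
    exact unique_right hp hS1p hS1K hcoK hS1θ h hθ1
  have hSθ1 : S ≤ charStab (fixC K S1) (θ1 : fixC K S1 → ℂ) := fun s hs =>
    hinv s (hθ hs) (Subgroup.centralizer_le_normalizer _ (hS1c hs))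
  have hxθ1 := hinv x hxθ hxS1
  have hyθ1 := hinv y hyθ hyN
  have hφ1 : PNd p C (extendByZero (fixC K S1) (θ1 : fixC K S1 → ℂ)) (φ : C → ℂ) := by
    obtain ⟨ψ, hψ1, hψ2⟩ := hφ.chain hCK1 inf_le_left (irr_isCharacter θ.2)
    rwa [unique_right hp hS1p hS1K hcoK hS1θ hψ1 hθ1] at hψ2
  refine ⟨θ1, hSθ1, hxθ1, hyθ1, hφ1, ?_⟩
  -- the extension to `Y` is fixed by `S1`
  obtain ⟨Y, hYdef⟩ : ∃ Y, Y = K ⊔ Subgroup.zpowers y := ⟨_, rfl⟩
  obtain ⟨η, H⟩ := exists_isExtOn' hYdef θ.2 hyθ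
  have hyY : y ∈ Y := hYdef ▸ Subgroup.mem_sup_right (Subgroup.mem_zpowers y)
  have hYW : Y ≤ W := hYdef ▸ sup_le hKW (Subgroup.zpowers_le.2 hyW)
  have hcoY : ¬ p ∣ Nat.card Y := fun h => hW (h.trans (Subgroup.card_dvd_of_le hYW))
  have hcomm : ∀ s ∈ S1, s * y = y * s := fun s hs => Subgroup.mem_centralizer_iff.1 hyS1 s hs
  have hS1Y : S1 ≤ Subgroup.normalizer (Y : Set Γ) := fun s hs =>
    hYdef ▸ mem_normalizer_sup_zpowers (hS1K hs) (by
      rw [commutatorElement_eq_one_iff_mul_comm.2 (hcomm s hs)]; exact one_mem K)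
  have hS1η : S1 ≤ charStab Y η := by
    intro s hs
    obtain ⟨l, hl1, hl2⟩ := H.exists_conj_twist (hS1θ hs) (hS1Y hs)
    have hcoset : ∀ h : K, extendByZero Y η (s * ((h : Γ) * y) * s⁻¹) =
        (l ⟨y, hyY⟩ : ℂ) * extendByZero Y η ((h : Γ) * y) := fun h => by
      have hm : (h : Γ) * y ∈ Y := mul_mem (H.le h.2) hyY
      rw [extendByZero_mem Y η hm]
      refine (hl2 ⟨_, hm⟩).trans ?_
      rw [show (⟨(h : Γ) * y, hm⟩ : Y) = Subgroup.inclusion H.le h * ⟨y, hyY⟩ from rfl, map_mul, hl1,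
        one_mul]
    have hsy : ∀ (k : ℕ), s ^ k * y = y * s ^ k := fun k => hcomm _ (pow_mem hs k)
    have hiter : ∀ (k : ℕ) (h : K), extendByZero Y η (s ^ k * ((h : Γ) * y) * (s ^ k)⁻¹) =
        (l ⟨y, hyY⟩ : ℂ) ^ k * extendByZero Y η ((h : Γ) * y) := by
      intro k
      induction k with
      | zero => intro h; simp
      | succ k ih =>
        intro h
        have hm : s ^ k * (h : Γ) * (s ^ k)⁻¹ ∈ K := (conj_mem_iff (pow_mem (hS1K hs) k) _).2 h.2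
        have e : s ^ k * ((h : Γ) * y) * (s ^ k)⁻¹ = ((⟨_, hm⟩ : K) : Γ) * y := by
          calc s ^ k * ((h : Γ) * y) * (s ^ k)⁻¹
              = s ^ k * (h : Γ) * (s ^ k)⁻¹ * ((s ^ k * y) * (s ^ k)⁻¹) := by group
            _ = _ := by rw [hsy k]; group
        rw [show s ^ (k + 1) * ((h : Γ) * y) * (s ^ (k + 1))⁻¹ =
          s * (s ^ k * ((h : Γ) * y) * (s ^ k)⁻¹) * s⁻¹ by rw [pow_succ']; group, e, hcoset, ← e, ih,
          pow_succ]
        ring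
    have hl : l ⟨y, hyY⟩ = 1 := by
      obtain ⟨h0, hh0⟩ := H.exists_ne_zero hyY
      have e := hiter (orderOf s) h0
      rw [pow_orderOf_eq_one, one_mul, inv_one, mul_one] at e
      have e1 : l ⟨y, hyY⟩ ^ orderOf s = 1 := Units.ext (by
        rw [Units.val_pow_eq_pow_val, Units.val_one]
        exact mul_right_cancel₀ hh0 (by rw [one_mul]; exact e.symm))
      have e2 : l ⟨y, hyY⟩ ^ Nat.card Y = 1 := by rw [← map_pow, pow_card_eq_one', map_one]
      haveI := Fact.mk hp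
      obtain ⟨a, ha⟩ := IsPGroup.iff_orderOf.1 hS1p ⟨s, hs⟩
      rw [Subgroup.orderOf_mk] at ha
      rw [ha] at e1
      exact orderOf_eq_one_iff.1 (Nat.eq_one_of_dvd_coprimes
        ((hp.coprime_iff_not_dvd.2 hcoY).pow_left a) (orderOf_dvd_of_pow_eq_one e1)
        (orderOf_dvd_of_pow_eq_one e2))
    refine mem_charStab_iff.2 ⟨hS1Y hs, fun a a' e => ?_⟩
    obtain ⟨m, hm, k, hk⟩ := (mem_sup_zpowers_iff hyθ.1).1 (hYdef.le a.2)
    have ha1 : l a = 1 := by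
      rw [show a = Subgroup.inclusion H.le ⟨m, hm⟩ * (⟨y, hyY⟩ : Y) ^ k from
        Subtype.ext (by simpa using hk.symm), map_mul, hl1, map_zpow, hl, one_zpow, one_mul]
    rw [← extendByZero_mem Y η a'.2, e]
    refine (hl2 a).trans ?_
    rw [ha1, Units.val_one, one_mul]
  -- the fixed points of `Y`
  have hY1 : fixC Y S1 = fixC K S1 ⊔ Subgroup.zpowers y := by
    refine le_antisymm ?_ (sup_le (inf_le_inf_right _ H.le)
      (Subgroup.zpowers_le.2 ⟨hyY, hyS1⟩))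
    rintro z ⟨hzY, hzC⟩
    obtain ⟨m, hm, k, rfl⟩ := (mem_sup_zpowers_iff hyθ.1).1 (hYdef.le hzY)
    exact mul_mem (Subgroup.mem_sup_left
      ⟨hm, (Subgroup.mul_mem_cancel_right _ (zpow_mem hyS1 k)).1 hzC⟩)
      (Subgroup.mem_sup_right (zpow_mem (Subgroup.mem_zpowers y) k))
  let ηI : IrrCharacter Y := ⟨η, H.irr⟩
  obtain ⟨β, hβ⟩ := exists_right hp hS1p hS1Y hcoY ηI hS1η
  have hfeq : PNd p (fixC K S1) (extendByZero Y (ηI : Y → ℂ)) (θ1 : fixC K S1 → ℂ) := by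
    intro n hn
    refine hθ1 n (Eq.trans ?_ hn)
    rw [inn, inn]
    congr 1
    funext m
    exact H.ext_eq m.2.1
  have hβ1 : inn (fixC K S1) (extendByZero (fixC Y S1) (β : fixC Y S1 → ℂ)) (θ1 : fixC K S1 → ℂ) ≠ 0 := by
    obtain ⟨ψ, hψ1, hψ2⟩ := hfeq.chain (A := fixC Y S1) (inf_le_inf_right _ H.le) inf_le_left
      (irr_isCharacter H.irr)
    rw [unique_right hp hS1p hS1Y hcoY (θ := ηI) hS1η hψ1 hβ] at hψ2
    exact hψ2.ne_zero
  have H1 := ext_of_over hY1 θ1.2 hyθ1 hβ1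
  -- the twist by `x`
  have hxyK : ⁅x, y⁆ ∈ K := (hC.le hxy).1
  have hxY : x ∈ Subgroup.normalizer (Y : Set Γ) := hYdef ▸ mem_normalizer_sup_zpowers hxθ.1 hxyK
  obtain ⟨l, hl1, hl2⟩ := H.exists_conj_twist hxθ hxY
  have hcos : ∀ (h : Γ) (hh : h ∈ K) (hm : h * y ∈ Y), l ⟨h * y, hm⟩ = l ⟨y, hyY⟩ := fun h hh hm => by
    rw [show (⟨h * y, hm⟩ : Y) = Subgroup.inclusion H.le ⟨h, hh⟩ * ⟨y, hyY⟩ from rfl, map_mul, hl1,
      one_mul]
  have hF : pairF K (θ : K → ℂ) x y = (l ⟨y, hyY⟩ : ℂ) := by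
    refine H.pairF_eq hyY hxθ.1 hxyK fun h => ?_
    have hm : (h : Γ) * y ∈ Y := mul_mem (H.le h.2) hyY
    rw [extendByZero_mem Y η hm]
    refine (hl2 ⟨_, hm⟩).trans ?_
    rw [hcos h h.2 hm]
  have hxY1 : x ∈ Subgroup.normalizer ((fixC Y S1 : Subgroup Γ) : Set Γ) := mem_normalizer_fixC hxY hxS1
  let ηx : IrrCharacter Y := conjI Y x hxY ηI
  have hS1x : S1 ≤ charStab Y (ηx : Y → ℂ) := fun s hs => by
    refine ⟨hS1Y hs, fun z => ?_⟩
    rw [ext_conjI, ext_conjI, show x * (s * z * s⁻¹) * x⁻¹ =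
      (x * s * x⁻¹) * (x * z * x⁻¹) * (x * s * x⁻¹)⁻¹ by group]
    exact (hS1η ((conj_mem_iff hxS1 s).2 hs)).2 _
  let l1 : fixC Y S1 →* ℂˣ := l.comp (Subgroup.inclusion inf_le_left)
  let βl : IrrCharacter ↥(fixC Y S1) := ⟨fun a => (l1 a : ℂ) * (β : fixC Y S1 → ℂ) a, isIrr_linear_mul β.2 l1⟩
  have hA : PNd p (fixC Y S1) (extendByZero Y (ηx : Y → ℂ)) (conjI (fixC Y S1) x hxY1 β : fixC Y S1 → ℂ) := by
    rw [show extendByZero Y (ηx : Y → ℂ) = fun z => extendByZero Y η (x * z * x⁻¹) from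
      funext fun z => ext_conjI Y hxY ηI z]
    exact hβ.conj hxY1
  have hB : PNd p (fixC Y S1) (extendByZero Y (ηx : Y → ℂ)) (βl : fixC Y S1 → ℂ) := by
    intro n hn
    refine hβ n (Eq.trans ?_ hn)
    simp only [inn, classInner]
    congr 1
    refine Finset.sum_congr rfl fun a _ => ?_
    have hx' : extendByZero Y (ηx : Y → ℂ) (a : Γ) = (l1 a : ℂ) * η ⟨a, a.2.1⟩ :=
      (ext_conjI Y hxY ηI a).trans (hl2 ⟨a, a.2.1⟩)
    rw [hx', extendByZero_mem Y _ a.2.1]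
    show _ = _ * conj ((l1 a : ℂ) * (β : fixC Y S1 → ℂ) a)
    rw [map_mul]
    linear_combination -(η ⟨a, a.2.1⟩ * conj ((β : fixC Y S1 → ℂ) a)) * lin_mul_conj l1 a
  have heq := unique_right hp hS1p hS1Y hcoY hS1x hA hB
  have hy1 : y ∈ fixC Y S1 := ⟨hyY, hyS1⟩
  rw [hF]
  refine (H1.pairF_eq hy1 hxθ1.1 (hCK1 hxy) fun h => ?_).symm
  have hm : (h : Γ) * y ∈ fixC Y S1 := mul_mem (H1.le h.2) hy1
  rw [← ext_conjI (fixC Y S1) hxY1 β, extendByZero_mem _ _ hm, extendByZero_mem _ _ hm, heq]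
  show (l ⟨(h : Γ) * y, hm.1⟩ : ℂ) * _ = _
  rw [hcos h h.2.1 hm.1]

end Cfsg.Agent.Char.RelMcKay
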